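/-
Amalgams of type (S₃,S₃) in characteristic 2: local structure and the graph.
-/
import Cfsg.Agent.Lib.Transfer.A2
import Cfsg.Agent.Lib.Transfer.FF3
import Cfsg.Prelude.Def_JComponents

set_option autoImplicit false
set_option linter.unusedSectionVars false
set_option linter.unusedVariables false
set_option linter.style.haveILetI false
set_option linter.unusedSimpArgs false

namespace Cfsg.Agent.NG

open Subgroup Cfsg.Agent.Transfer Cfsg.Agent.MS MulAction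
open scoped commutatorElement

universe u v
variable {G : Type u} [Group G] [Finite G]
variable {A B C D H K L M N P Q R S T U W X Y Y' Z : Subgroup G} {g t x y z : G}

scoped notation:max "OZ " T:max => Cfsg.omegaCenterOf T
scoped notation:max "Q2 " A:max => Cfsg.piCoreOf (Singleton.singleton 2) A
scoped notation:max "JJ " A:max => Cfsg.thompsonSubgroupOf 2 A

/-- the closure of the centres of the Sylow subgroups -/
def Zs (A : Subgroup G) : Subgroup G := ⨆ T : {T // IsSyl 2 T A}, OZ (T : Subgroup G)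

theorem OZ_elem (T : Subgroup G) : IsElementaryAbelian 2 (OZ T) := omega_elem (ab_center T)
theorem OZ_le (T : Subgroup G) : OZ T ≤ T := (omega_le _ _).trans inf_le_left
theorem OZ_cc (T : Subgroup G) : OZ T ≤ CC T := (omega_le _ _).trans inf_le_right
theorem le_OZ (h1 : A ≤ T) (h2 : A ≤ CC T) (h : IsElementaryAbelian 2 A) : A ≤ OZ T :=
  le_omega (le_inf h1 h2) h
theorem mem_OZ (h1 : x ∈ T) (h2 : x ∈ CC T) (h : x * x = 1) : x ∈ OZ T :=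
  mem_omega ⟨h1, h2⟩ (by rw [sq, h])
theorem cj_OZ (g : G) (T : Subgroup G) : cj g (OZ T) = OZ (cj g T) := by
  rw [omegaCenterOf, cj_omega, cj_inf, cj_centralizer]; rfl
theorem nn_OZ (h : A ≤ NN T) : A ≤ NN (OZ T) := nn_omega (by nrm)
theorem OZ_ne_bot (h : IsPGroup 2 T) (h0 : T ≠ ⊥) : OZ T ≠ ⊥ := omegaOne_center_ne_bot h h0
theorem OZ_le_OZ (h1 : A ≤ T) (h2 : OZ T ≤ A) : OZ T ≤ OZ A :=
  le_OZ h2 ((OZ_cc T).trans (cc_anti h1)) (OZ_elem T)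

theorem OZ_le_Zs (h : IsSyl 2 T A) : OZ T ≤ Zs A :=
  le_iSup (fun T : {T // IsSyl 2 T A} => OZ (T : Subgroup G)) ⟨T, h⟩
theorem cj_Zs_le (g : G) (A : Subgroup G) : cj g (Zs A) ≤ Zs (cj g A) := by
  rw [Zs, cj, Subgroup.map_iSup]
  exact iSup_le fun T => (cj_OZ g _).le.trans (OZ_le_Zs (T.2.cj g))
theorem cj_Zs (g : G) (A : Subgroup G) : cj g (Zs A) = Zs (cj g A) :=
  le_antisymm (cj_Zs_le g A) (le_cj_iff_cj_inv_le.2 (by simpa only [cj_inv_cj] using cj_Zs_le g⁻¹ (cj g A)))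
theorem nn_Zs (A : Subgroup G) : A ≤ NN (Zs A) := fun g hg =>
  mem_normalizer_iff_cj.2 (by rw [cj_Zs, cj_eq_of_mem hg])
theorem Zs_le (h : IsSyl 2 T A) (h1 : OZ T ≤ U) (h2 : A ≤ NN U) : Zs A ≤ U := iSup_le fun R => by
  obtain ⟨g, hg, e⟩ := R.2.exists_cj_eq h
  rw [← e, ← cj_OZ]; exact cj_le h1 (h2 hg)
theorem OZ_syl_le (h : IsSyl 2 T A) (hc : A ⊓ CC (Q2 A) ≤ Q2 A) : OZ T ≤ OZ (Q2 A) :=
  OZ_le_OZ (O_le_syl h) ((le_inf ((OZ_le T).trans h.le) ((OZ_cc T).trans (cc_anti (O_le_syl h)))).trans hc)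
theorem Zs_le_OZ (hc : A ⊓ CC (Q2 A) ≤ Q2 A) : Zs A ≤ OZ (Q2 A) := iSup_le fun R => OZ_syl_le R.2 hc

theorem sup_eq_of_prime (h1 : Y ≤ A) (hp : (Y.relIndex A).Prime) (h2 : X ≤ A) (h3 : ¬ X ≤ Y) :
    X ⊔ Y = A := by
  obtain ⟨x, hx, h4⟩ := SetLike.not_le_iff_exists.1 h3
  exact le_antisymm (sup_le h2 h1) ((Solv.sup_zpowers_eq_of_relIndex_prime h1 hp (h2 hx) h4).ge.trans
    (sup_le le_sup_right ((zpowers_le.2 hx).trans le_sup_left)))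

theorem le_Q2 (h1 : X ≤ A) (h2 : A ≤ NN X) (h : IsPGroup 2 X) : X ≤ Q2 A := le_O h1 h2 (pi1_of_pg h)

theorem _root_.Cfsg.Agent.Transfer.Ix2.eq_inf (h : Ix2 S U) (h1 : U ≤ X) (h2 : ¬ S ≤ X) : S ⊓ X = U :=
  by_contra fun e => h2 ((h.eq_of_lt (lt_of_le_of_ne (le_inf h.le h1) (Ne.symm e)) inf_le_left).ge.trans
    inf_le_right)

theorem _root_.Cfsg.Agent.Transfer.Ix2.sup_eq (h : Ix2 S U) (h1 : X ≤ S) (h2 : ¬ X ≤ U) : U ⊔ X = S :=
  h.eq_of_lt (lt_of_le_of_ne le_sup_left fun e => h2 (e ▸ le_sup_right)) (sup_le h.le h1)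

theorem _root_.Cfsg.Agent.Transfer.Ix2.inf' (h : Ix2 S U) (h1 : X ≤ S) (h2 : ¬ X ≤ U) : Ix2 X (X ⊓ U) :=
  let ⟨_, a, b⟩ := SetLike.not_le_iff_exists.1 h2
  h.inf h1 a b

/-- the centralizer in `A` of `U/R` -/
def cm (A U R : Subgroup G) : Subgroup G where
  carrier := {g | g ∈ A ⊓ NN R ∧ ∀ u ∈ U, ⁅u, g⁆ ∈ R}
  one_mem' := ⟨one_mem _, fun u _ => by simp⟩
  mul_mem' := fun {a b} ha hb => ⟨mul_mem ha.1 hb.1, fun u hu => by
    rw [show ⁅u, a * b⁆ = ⁅u, a⁆ * (a * ⁅u, b⁆ * a⁻¹) by simp only [commutatorElement_def]; group]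
    exact mul_mem (ha.2 u hu) (conj_mem_of_mem_normalizer ha.1.2 (hb.2 u hu))⟩
  inv_mem' := fun {a} ha => ⟨inv_mem ha.1, fun u hu => by
    rw [show ⁅u, a⁻¹⁆ = a⁻¹ * ⁅u, a⁆⁻¹ * a by simp only [commutatorElement_def]; group]
    exact inv_conj_mem_of_mem_normalizer ha.1.2 (inv_mem (ha.2 u hu))⟩

theorem cm_le (A U R : Subgroup G) : cm A U R ≤ A := fun _ h => h.1.1
theorem comm_cm (A U R : Subgroup G) : ⁅U, cm A U R⁆ ≤ R := commutator_le.2 fun u hu _ h => h.2 u hu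
theorem le_cm (h1 : X ≤ A) (h2 : X ≤ NN R) (h3 : ⁅U, X⁆ ≤ R) : X ≤ cm A U R := fun x hx =>
  ⟨⟨h1 hx, h2 hx⟩, fun u hu => h3 (commutator_mem_commutator hu hx)⟩
theorem nn_cm (h1 : B ≤ NN A) (h2 : B ≤ NN U) (h3 : B ≤ NN R) : B ≤ NN (cm A U R) := fun g hg =>
  mem_normalizer_of_conj_mem fun x hx => ⟨⟨conj_mem_of_mem_normalizer (h1 hg) hx.1.1,
    conj_mem_of_mem_normalizer (le_nn _ (h3 hg)) hx.1.2⟩, fun u hu => by
      rw [show ⁅u, g * x * g⁻¹⁆ = g * ⁅g⁻¹ * u * g, x⁆ * g⁻¹ by simp only [commutatorElement_def]; group]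
      exact conj_mem_of_mem_normalizer (h3 hg) (hx.2 _ (inv_conj_mem_of_mem_normalizer (h2 hg) hu))⟩

/-- `A/O₂(A)` has order 6, with Sylow subgroup `Y` -/
structure S3 (A Y : Subgroup G) : Prop where
  syl : IsSyl 2 Y A
  idx : (Q2 A).relIndex A = 6
  ch : A ⊓ CC (Q2 A) ≤ Q2 A
  nz : ¬ A ≤ CC (OZ Y)

theorem idx_of_six (h : IsSyl 2 Y A) (h6 : (Q2 A).relIndex A = 6) : Ix2 Y (Q2 A) ∧ Y.relIndex A = 3 := by
  have h1 := relIndex_mul_relIndex (Q2 A) Y A (O_le_syl h) h.le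
  obtain ⟨k, hk⟩ := h.pgroup.index ((Q2 A).subgroupOf Y)
  have h2 := h.not_dvd
  rw [h6] at h1
  have h3 : Y.relIndex A ∣ 6 := Dvd.intro_left _ h1
  have h4 : (Q2 A).relIndex Y = 2 ^ k := hk
  have : Y.relIndex A = 3 := by
    have h5 := Nat.le_of_dvd (by norm_num) h3
    generalize Y.relIndex A = m at *
    interval_cases m <;> try omega
    rw [h4, mul_one] at h1
    exact absurd (Nat.Prime.dvd_of_dvd_pow Nat.prime_three (h1 ▸ (by norm_num : 3 ∣ 6))) (by norm_num)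
  rw [this] at h1
  exact ⟨⟨O_le_syl h, by omega⟩, this⟩

namespace S3
variable (h : S3 A Y)
include h

theorem ix2 : Ix2 Y (Q2 A) := (idx_of_six h.syl h.idx).1
theorem idx3 : Y.relIndex A = 3 := (idx_of_six h.syl h.idx).2
theorem sup_eq (h1 : X ≤ A) (h2 : ¬ X ≤ Y) : X ⊔ Y = A :=
  sup_eq_of_prime h.syl.le (h.idx3 ▸ Nat.prime_three) h1 h2
theorem not_nn : ¬ A ≤ NN Y := fun e => h.ix2.ne (le_antisymm h.ix2.le (le_Q2 h.syl.le e h.syl.pgroup))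
theorem nn_le : A ⊓ NN Y ≤ Y := by_contra fun e =>
  h.not_nn ((h.sup_eq inf_le_left e).ge.trans (sup_le inf_le_right (le_nn Y)))
theorem Z_le_OZ : Zs A ≤ OZ (Q2 A) := Zs_le_OZ h.ch
theorem Z_le_Q : Zs A ≤ Q2 A := h.Z_le_OZ.trans (OZ_le _)
theorem Z_cc_Q : Zs A ≤ CC (Q2 A) := h.Z_le_OZ.trans (OZ_cc _)
theorem Z_elem : IsElementaryAbelian 2 (Zs A) := elem_mono (OZ_elem _) h.Z_le_OZ
theorem cc_Z : A ⊓ CC (Zs A) ≤ Q2 A := by
  have h1 : A ⊓ CC (Zs A) ≤ Y := by_contra fun e => h.nz ((h.sup_eq inf_le_left e).ge.trans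
    (sup_le (inf_le_right.trans (cc_anti (OZ_le_Zs h.syl))) (cc_symm (OZ_cc Y))))
  exact le_Q2 inf_le_left (nn_inf (le_nn _) (nn_cc (nn_Zs A))) (h.syl.pgroup.to_le h1)
theorem OZ_eq : Zs A ⊓ CC Y = OZ Y :=
  le_antisymm (le_OZ (inf_le_left.trans (h.Z_le_Q.trans h.ix2.le)) inf_le_right
    (elem_mono h.Z_elem inf_le_left)) (le_inf (OZ_le_Zs h.syl) (OZ_cc Y))
theorem inf_eq (h' : S3 A Y') (e : Y ≠ Y') : Y ⊓ Y' = Q2 A :=
  h.ix2.eq_inf h'.ix2.le fun a => e (h.syl.eq_of_le h'.syl.pgroup h'.syl.le a).symm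
theorem Q_ne_bot : Q2 A ≠ ⊥ := fun e => by
  have := h.ch
  rw [e, cc_bot, inf_top_eq, le_bot_iff] at this
  exact h.nz (this ▸ bot_le)
theorem Z_ne_bot : Zs A ≠ ⊥ := fun e => h.nz (by
  rw [le_bot_iff.1 ((OZ_le_Zs h.syl).trans e.le), cc_bot]; exact le_top)
theorem cj (g : G) : S3 (cj g A) (cj g Y) :=
  ⟨h.syl.cj g, by rw [← cj_O, relIndex_cj, h.idx], by
    rw [← cj_O, ← cj_centralizer, ← cj_inf]; exact cj_mono g h.ch, by
    rw [← cj_OZ, ← cj_centralizer, cj_le_cj_iff]; exact h.nz⟩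
theorem exists_three : ∃ D, IsSyl 3 D A ∧ #D = 3 ∧ ¬ D ≤ Y := by
  haveI : Fact (Nat.Prime 3) := ⟨Nat.prime_three⟩
  obtain ⟨D, hD⟩ := exists_isSyl 3 A
  have h1 := card_mul_relIndex h.syl.le
  obtain ⟨k, hk⟩ := h.syl.pgroup.exists_card_eq
  obtain ⟨m, hm⟩ := hD.pgroup.exists_card_eq
  rw [h.idx3, hk] at h1
  have h2 : 3 ^ m ∣ 3 ^ 1 := (Nat.Coprime.dvd_mul_left (Nat.Coprime.pow m k (by norm_num : Nat.Coprime 3 2))).1
    (by rw [pow_one, h1, ← hm]; exact card_dvd hD.le)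
  have h3 : D ≠ ⊥ := syl_ne_bot hD (h1 ▸ Dvd.intro_left _ rfl)
  have h4 : m ≠ 0 := fun e => h3 (card_eq_one.1 (by rw [hm, e, pow_zero]))
  rw [Nat.pow_dvd_pow_iff_le_right (by norm_num)] at h2
  refine ⟨D, hD, by rw [hm, show m = 1 by omega, pow_one], fun e => h3 ?_⟩
  simpa [inf_eq_left.2 e] using inf_of_coprime (pg_coprime_pg hD.pgroup h.syl.pgroup (by norm_num))
/-- a normal subgroup not inside `O₂` contains the Sylow 3-subgroups -/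
theorem three_le (hD : IsSyl 3 D A) (h1 : N ≤ A) (h2 : A ≤ NN N) (h3 : ¬ N ≤ Q2 A) : D ≤ N := by
  haveI : Fact (Nat.Prime 3) := ⟨Nat.prime_three⟩
  have h4 : ¬ N ≤ Y := fun e => h3 (le_Q2 h1 h2 (h.syl.pgroup.to_le e))
  refine Comp.le_of_coprime_relIndex h1 hD.le (hD.le.trans h2) ?_
  rw [← h.sup_eq h1 h4, relIndex_sup_l (h.syl.le.trans h2)]
  exact (pg_coprime_pg hD.pgroup h.syl.pgroup (by norm_num)).coprime_dvd_right (relIndex_dvd _ _)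

/-- the commutator of `Z` with a Sylow subgroup -/
theorem card_R (h1 : Ix2 (Zs A) (OZ Y)) : #(⁅Zs A, Y⁆ : Subgroup G) = 2 := by
  obtain ⟨s, hs, hs'⟩ := h.ix2.exists_out
  have e := h.ix2.eq_sup hs hs'
  have h2 := card_commutator_zpowers h.Z_elem.1 (nn_Zs A (h.syl.le hs))
  have h3 : Zs A ⊓ CC (zpowers s) = OZ Y := by
    rw [← h.OZ_eq]; conv_rhs => rw [e, cc_sup, ← inf_assoc, inf_eq_left.2 h.Z_cc_Q]
  rw [h3, h1.card] at h2
  conv_lhs => rw [e, commutator_sup_right_of_le_centralizer (cc_symm h.Z_cc_Q)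
    (zpowers_le.2 (h.ix2.nn hs))]
  exact Nat.eq_of_mul_eq_mul_right (card_pos' _) h2
theorem R_le_Z : ⁅Zs A, Y⁆ ≤ Zs A := comm_le_left (h.syl.le.trans (nn_Zs A))
theorem R_cc (h1 : Ix2 (Zs A) (OZ Y)) : ⁅Zs A, Y⁆ ≤ CC Y :=
  cc_symm (pcc_of_card (h.card_R h1) h.syl.pgroup (right_nn_comm _ _))
theorem R_le_OZ (h1 : Ix2 (Zs A) (OZ Y)) : ⁅Zs A, Y⁆ ≤ OZ Y := h.OZ_eq ▸ le_inf h.R_le_Z (h.R_cc h1)
theorem R_not_cc (h1 : Ix2 (Zs A) (OZ Y)) : ¬ ⁅Zs A, Y⁆ ≤ CC A := fun e => by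
  haveI : Fact (Nat.Prime 3) := ⟨Nat.prime_three⟩
  obtain ⟨D, d1, -, d2⟩ := h.exists_three
  set R := ⁅Zs A, Y⁆
  have h2 : ¬ Y ≤ Q2 A := fun a => h.ix2.ne (le_antisymm h.ix2.le a)
  have h4 : A ≤ NN R := nn_of_cc (cc_symm e)
  have h3 : ⁅Zs A, D⁆ ≤ R := (commutator_mono le_rfl (h.three_le d1 (cm_le A (Zs A) R)
    (nn_cm (le_nn A) (nn_Zs A) h4) fun a => h2 ((le_cm h.syl.le (h.syl.le.trans h4) le_rfl).trans a))).trans
    (comm_cm _ _ _)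
  exact d2 ((le_inf d1.le (cop_stable (pg_coprime_pg d1.pgroup
    ((elem_isPGroup h.Z_elem).to_le h.R_le_Z) (by norm_num)) h3 (d1.le.trans (cc_symm e)))).trans
    (h.cc_Z.trans h.ix2.le))
end S3

end Cfsg.Agent.NG
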