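/-
Amalgams of type (S₃,S₃): the graph and critical pairs.
-/
import Cfsg.Agent.Lib.NG.Am

set_option autoImplicit false
set_option linter.unusedSectionVars false
set_option linter.unusedVariables false
set_option linter.style.haveILetI false
set_option linter.unusedSimpArgs false

namespace Cfsg.Agent.NG

open Subgroup Cfsg.Agent.Transfer Cfsg.Agent.MS MulAction
open scoped commutatorElement

universe u v
variable {G : Type u} [Group G] [Finite G] {V : Type v} [MulAction G V]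
variable {X : Subgroup G} {g t x y z : G} {a b c d e : V} {n m k : ℕ} {p : ℕ → V}

set_option hygiene false in
local notation:max "St " a:max => MulAction.stabilizer G a
set_option hygiene false in
local notation:max "Za " a:max => Zs (MulAction.stabilizer G a)
set_option hygiene false in
local notation:max "Qa " a:max => piCoreOf (Singleton.singleton 2) (MulAction.stabilizer G a)
set_option hygiene false in
local notation:max "Ra " a:max b:max =>
  ⁅Zs (MulAction.stabilizer G a), MulAction.stabilizer G a ⊓ MulAction.stabilizer G b⁆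

theorem St_smul (g : G) (a : V) : St (g • a) = cj g (St a) := stabilizer_smul_eq_stabilizer_map_conj g a
theorem Za_smul (g : G) (a : V) : Za (g • a) = cj g (Za a) := by rw [St_smul, cj_Zs]
theorem Qa_smul (g : G) (a : V) : Qa (g • a) = cj g (Qa a) := by rw [St_smul, cj_O]
theorem Ra_smul (g : G) (a b : V) : Ra (g • a) (g • b) = cj g (Ra a b) := by
  rw [Za_smul, St_smul, St_smul, cj_commutator, cj_inf]

variable (G) in
/-- a trivalent graph with an edge-transitive action -/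
structure GA (E : V → V → Prop) : Prop where
  symm : ∀ {a b}, E a b → E b a
  smul : ∀ {a b} (g : G), E a b → E (g • a) (g • b)
  tr : ∀ {a b c}, E a b → E a c → ∃ g ∈ St a, g • b = c
  edge : ∀ {a b c d}, E a b → E c d → ∃ g : G, (g • a = c ∧ g • b = d) ∨ (g • a = d ∧ g • b = c)
  loc : ∀ {a b}, E a b → S3 (St a) (St a ⊓ St b)
  core : ∀ {a b}, E a b → ∀ N ≤ St a ⊓ St b, St a ≤ NN N → St b ≤ NN N → N = ⊥
  nb : ∀ a, ∃ b, E a b

variable (G) in
def Gd (E : V → V → Prop) (a : V) : Prop := ∀ b, E a b → Ix2 (Za a) (OZ (St a ⊓ St b))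
variable (G) in
def Nm (E : V → V → Prop) (a : V) : Prop := ∀ b, E a b → St a ≤ NN (Za a ⊔ Za b)
variable (G) in
def Pc (E : V → V → Prop) (a : V) : Prop := ∀ b, E a b → Ra a b ≤ CC (St b)

/-- paths of length `n` -/
def Pa (E : V → V → Prop) (n : ℕ) (p : ℕ → V) : Prop := ∀ i < n, E (p i) (p (i + 1))
def cons (a : V) (p : ℕ → V) : ℕ → V
  | 0 => a
  | i + 1 => p i
@[simp] theorem cons_zero : cons a p 0 = a := rfl
@[simp] theorem cons_succ : cons a p (n + 1) = p n := rfl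
def Dk (E : V → V → Prop) (k : ℕ) (a b : V) : Prop := ∃ p, Pa E k p ∧ p 0 = a ∧ p k = b

variable {E : V → V → Prop}

theorem Pa.cons (h : Pa E n p) (h1 : E a (p 0)) : Pa E (n + 1) (cons a p) := fun i hi => by
  cases i with
  | zero => exact h1
  | succ i => exact h i (by omega)
theorem Pa.mono (h : Pa E n p) (h1 : m ≤ n) : Pa E m p := fun i hi => h i (by omega)
theorem Pa.dk (h : Pa E n p) (i j : ℕ) (h1 : i ≤ j) (h2 : j ≤ n) : Dk E (j - i) (p i) (p j) :=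
  ⟨fun l => p (i + l), fun l hl => h _ (by omega), rfl, by simp only [Nat.add_sub_cancel' h1]⟩

namespace GA
variable (h : GA G E)
include h

theorem rev (hp : Pa E n p) : Pa E n fun i => p (n - i) := fun i hi => by
  have := h.symm (hp (n - (i + 1)) (by omega))
  rwa [show n - (i + 1) + 1 = n - i by omega] at this
theorem dk_symm (h1 : Dk E k a b) : Dk E k b a := by
  obtain ⟨p, h1, rfl, rfl⟩ := h1
  exact ⟨_, h.rev h1, rfl, by simp⟩
theorem dk_smul (h1 : Dk E k a b) (g : G) : Dk E k (g • a) (g • b) := by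
  obtain ⟨p, h1, rfl, rfl⟩ := h1
  exact ⟨fun i => g • p i, fun i hi => h.smul g (h1 i hi), rfl, rfl⟩
theorem dk_cons (h1 : Dk E k b c) (h2 : E a b) : Dk E (k + 1) a c := by
  obtain ⟨p, h1, rfl, rfl⟩ := h1
  exact ⟨_, h1.cons h2, rfl, rfl⟩

theorem dk_trans (h1 : Dk E k a b) (h2 : Dk E m b c) : Dk E (m + k) a c := by
  induction k generalizing a with
  | zero => obtain ⟨p, -, rfl, rfl⟩ := h1; exact h2
  | succ k ih =>
    obtain ⟨p, h1, rfl, rfl⟩ := h1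
    exact h.dk_cons (ih ⟨fun i => p (i + 1), fun i hi => h1 _ (by omega), rfl, rfl⟩) (h1 0 (by omega))

theorem smul' (h1 : E a b) (hg : g ∈ St a) : E a (g • b) := by
  simpa only [mem_stabilizer_iff.1 hg] using h.smul g h1
theorem loc' (h1 : E a b) : S3 (St b) (St a ⊓ St b) := inf_comm (St b) (St a) ▸ h.loc (h.symm h1)
theorem Q_le (h1 : E a b) : Qa a ≤ St b := (h.loc h1).ix2.le.trans inf_le_right
theorem Z_le (h1 : E a b) : Za a ≤ St a ⊓ St b := (h.loc h1).Z_le_Q.trans (h.loc h1).ix2.le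
theorem ne_Y (h1 : E a b) (h2 : E a c) (e : b ≠ c) : St a ⊓ St b ≠ St a ⊓ St c := fun e' => by
  obtain ⟨g, hg, rfl⟩ := h.tr h1 h2
  refine e (mem_stabilizer_iff.1 ((h.loc h1).nn_le ⟨hg, mem_normalizer_iff_cj.2 ?_⟩).2).symm
  rw [cj_inf, cj_eq_of_mem hg, ← St_smul, ← e']
theorem mem_Q (h1 : E a b) (h2 : E a c) (e : b ≠ c) (t1 : t ∈ St a) (t2 : t ∈ St b) (t3 : t ∈ St c) :
    t ∈ Qa a := ((h.loc h1).inf_eq (h.loc h2) (h.ne_Y h1 h2 e)).le ⟨⟨t1, t2⟩, t1, t3⟩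
theorem gen (h1 : E a b) (h2 : E a c) (e : b ≠ c) (h3 : X ≤ St a ⊓ St b) (h4 : ¬ X ≤ Qa a) :
    X ⊔ (St a ⊓ St c) = St a :=
  (h.loc h2).sup_eq (h3.trans inf_le_left) fun l => h4 fun t ht => h.mem_Q h1 h2 e (h3 ht).1 (h3 ht).2 (l ht).2
theorem exists_ne (h1 : E a b) : ∃ c, E a c ∧ c ≠ b := by
  obtain ⟨g, hg, h2⟩ := SetLike.not_le_iff_exists.1
    (mt (fun e : St a ≤ St a ⊓ St b => e.trans (le_nn _)) (h.loc h1).not_nn)
  exact ⟨_, h.smul' h1 hg, fun e => h2 ⟨hg, e⟩⟩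
theorem move (h1 : E a b) (h2 : E a c) (e : c ≠ b) (t1 : t ∈ St a ⊓ St b) (t2 : t ∉ Qa a) :
    E a (t • c) ∧ t • c ≠ c ∧ t • c ≠ b :=
  ⟨h.smul' h2 t1.1, fun e' => t2 (h.mem_Q h1 h2 e.symm t1.1 t1.2 e'), fun e' => e (by
    rw [← inv_smul_smul t c, e']; exact (St b).inv_mem t1.2)⟩
theorem three (h1 : E a b) (h2 : E a c) (h3 : E a d) (h4 : E a e) (e1 : b ≠ c) (e2 : b ≠ d)
    (e3 : c ≠ d) : e = b ∨ e = c ∨ e = d := by
  by_contra! hn
  have h5 : (orbit (St a) b).ncard = 3 := by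
    rw [← index_stabilizer, ← (h.loc h1).idx3, inf_relIndex_left]; rfl
  have h6 : ∀ x, E a x → x ∈ orbit (St a) b := fun x hx =>
    let ⟨g, hg, e⟩ := h.tr h1 hx
    ⟨⟨g, hg⟩, e⟩
  have h7 : ({e, b, c, d} : Set V) ⊆ orbit (St a) b := by
    rintro x (rfl | rfl | rfl | rfl) <;> apply h6 <;> assumption
  have := Set.ncard_le_ncard h7 (Set.finite_of_ncard_ne_zero (by omega))
  rw [Set.ncard_insert_of_notMem (by simp [hn]), Set.ncard_insert_of_notMem (by simp [e1, e2]),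
    Set.ncard_pair e3] at this
  omega
theorem Q_not_le (h1 : E a b) : ¬ Qa a ≤ Qa b := fun l => by
  have e : Qa a = Qa b := eq_of_card_le l (by
    have := (h.loc h1).ix2.card; have := (h.loc' h1).ix2.card; omega)
  exact (h.loc h1).Q_ne_bot (h.core h1 _ (h.loc h1).ix2.le (by nrm) (by rw [e]; nrm))
theorem ix2Q (h1 : E a b) : Ix2 (Qa a) (Qa a ⊓ Qa b) :=
  (h.loc' h1).ix2.inf' (h.loc h1).ix2.le (h.Q_not_le h1)
theorem eq_bot_of_cc (h1 : E a b) (h2 : X ≤ St a ⊓ St b) (h3 : X ≤ CC (St a)) (h4 : X ≤ CC (St b)) :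
    X = ⊥ := h.core h1 X h2 (nn_of_cc (cc_symm h3)) (nn_of_cc (cc_symm h4))
theorem OZ_le (h1 : E a b) : OZ (St a ⊓ St b) ≤ Za b := OZ_le_Zs (h.loc' h1).syl

theorem all_of_one {P : V → V → Prop} (hP : ∀ g : G, ∀ a b, P a b → P (g • a) (g • b)) (h1 : E a b)
    (h2 : P a b) (c : V) (h3 : E a c) : P a c := by
  obtain ⟨g, hg, rfl⟩ := h.tr h1 h3
  simpa only [mem_stabilizer_iff.1 hg] using hP g a b h2
theorem smul_all {P : V → V → Prop} (hP : ∀ g : G, ∀ a b, P a b → P (g • a) (g • b))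
    (h2 : ∀ b, E a b → P a b) (g : G) (c : V) (h3 : E (g • a) c) : P (g • a) c := by
  simpa only [smul_inv_smul] using hP g a _ (h2 (g⁻¹ • c) (by
    simpa only [inv_smul_smul] using h.smul g⁻¹ h3))

omit h in
theorem gd_inv (g : G) (a b : V) (h : Ix2 (Za a) (OZ (St a ⊓ St b))) :
    Ix2 (Za (g • a)) (OZ (St (g • a) ⊓ St (g • b))) := by
  rw [Za_smul, St_smul, St_smul, ← cj_inf, ← cj_OZ]; exact h.cj g
omit h in
theorem nm_inv (g : G) (a b : V) (h : St a ≤ NN (Za a ⊔ Za b)) :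
    St (g • a) ≤ NN (Za (g • a) ⊔ Za (g • b)) := by
  rw [Za_smul, Za_smul, St_smul, ← cj_sup]; exact nn_cj h g
omit h in
theorem pc_inv (g : G) (a b : V) (h : Ra a b ≤ CC (St b)) : Ra (g • a) (g • b) ≤ CC (St (g • b)) := by
  rw [Ra_smul, St_smul]; exact cc_cj h g

theorem gd_smul (h1 : Gd G E a) (g : G) : Gd G E (g • a) := h.smul_all gd_inv h1 g
theorem nm_smul (h1 : Nm G E a) (g : G) : Nm G E (g • a) := h.smul_all nm_inv h1 g
theorem pc_smul (h1 : Pc G E a) (g : G) : Pc G E (g • a) := h.smul_all pc_inv h1 g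
theorem nm_smul' (h1 : Nm G E (g • a)) : Nm G E a := inv_smul_smul g a ▸ h.nm_smul h1 g⁻¹

/-- a property of both ends of one edge holds everywhere -/
theorem both {P : V → Prop} (hP : ∀ a, P a → ∀ g : G, P (g • a)) (h1 : E a b) (h2 : P a) (h3 : P b)
    (h4 : E c d) : P c := by
  obtain ⟨g, ⟨rfl, -⟩ | ⟨-, rfl⟩⟩ := h.edge h1 h4
  exacts [hP _ h2 g, hP _ h3 g]
theorem nbr {P : V → Prop} (hP : ∀ a, P a → ∀ g : G, P (g • a)) (h1 : E a b) (h2 : E a c) (h3 : P b) :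
    P c := by
  obtain ⟨g, -, rfl⟩ := h.tr h1 h2
  exact hP _ h3 g

theorem R_ne (h0 : Gd G E a) (h1 : E a b) (h2 : E a c) (e : b ≠ c) : Ra a b ≠ Ra a c := fun e' =>
  (h.loc h1).R_not_cc (h0 b h1) (cc_symm ((h.gen h1 h2 e le_rfl fun l =>
    (h.loc h1).ix2.ne (le_antisymm (h.loc h1).ix2.le l)).ge.trans
    (sup_le (cc_symm ((h.loc h1).R_cc (h0 b h1))) (cc_symm (e' ▸ (h.loc h2).R_cc (h0 c h2))))))
theorem R_eq (h0 : Pc G E a) (h1 : E b a) (h2 : E b c) : Ra c b = Ra a b := by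
  obtain ⟨g, hg, rfl⟩ := h.tr h1 h2
  have := Ra_smul g a b
  rwa [mem_stabilizer_iff.1 hg, cj_cc (cc_symm (h0 b (h.symm h1)) hg)] at this
theorem nm_eq (h0 : Nm G E a) (h1 : E a b) (h2 : E a c) : Za a ⊔ Za c = Za a ⊔ Za b := by
  obtain ⟨g, hg, rfl⟩ := h.tr h1 h2
  rw [← cj_nn (h0 b h1 hg), cj_sup, cj_nn (nn_Zs _ hg), Za_smul]
theorem nm_both (h1 : E a b) (h2 : Nm G E a) (h3 : Nm G E b) : False :=
  (h.loc h1).Z_ne_bot (le_bot_iff.1 (le_sup_left.trans (h.core h1 (Za a ⊔ Za b)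
    (sup_le (h.Z_le h1) (inf_comm (St b) _ ▸ h.Z_le (h.symm h1))) (h2 b h1)
    (sup_comm (Za b) _ ▸ h3 a (h.symm h1))).le))
theorem nm_Q (h0 : Nm G E a) (h1 : E a b) (h2 : E a c) : Qa a ⊓ Qa b ≤ Qa c := by
  refine (le_inf (inf_le_left.trans (h.Q_le h2)) ?_).trans (h.loc' h2).cc_Z
  refine le_trans ?_ (cc_anti (le_sup_right.trans (h.nm_eq h0 h1 h2).le))
  exact le_cc_sup (inf_le_left.trans (cc_symm (h.loc h1).Z_cc_Q))
    (inf_le_right.trans (cc_symm (h.loc' h1).Z_cc_Q))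

theorem exists_crit (h1 : E a b) : ∃ n c d, Dk E n c d ∧ ¬ Za c ≤ Qa d := by
  by_contra! hn
  set U := ⨆ c : {c // ∃ n, Dk E n c a}, Za (c : V)
  have h2 : ∀ g : G, (∃ n, Dk E n (g • a) a) → g ∈ NN U := fun g ⟨n, hg⟩ => mem_normalizer_of_cj_le (by
    rw [cj, Subgroup.map_iSup]
    refine iSup_le fun ⟨c, m, hc⟩ => ?_
    have : ∃ k, Dk E k (g • c) a := ⟨_, h.dk_trans (h.dk_smul hc g) hg⟩
    exact (Za_smul g c).ge.trans (le_iSup (fun c : {c // ∃ n, Dk E n c a} => Za (c : V)) ⟨_, this⟩))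
  have h0 : Dk E 0 a a := ⟨fun _ => a, fun i hi => absurd hi (by omega), rfl, rfl⟩
  refine (h.loc h1).Z_ne_bot (le_bot_iff.1 ((le_iSup (fun c : {c // ∃ n, Dk E n c a} => Za (c : V))
    ⟨a, 0, h0⟩).trans (h.core h1 U (iSup_le fun ⟨c, m, hc⟩ => (hn m c a hc).trans (h.loc h1).ix2.le)
    (fun g hg => h2 g ⟨0, by rwa [mem_stabilizer_iff.1 hg]⟩) fun g hg => h2 g ⟨2, ?_⟩).le))
  exact h.dk_cons (h.dk_cons h0 (h.symm h1)) (h.symm (h.smul' (h.symm h1) hg))

end GA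

end Cfsg.Agent.NG
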