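/-
Amalgams of type (S₃,S₃): the critical distance is 1.
-/
import Cfsg.Agent.Lib.NG.Am2

set_option autoImplicit false
set_option linter.unusedSectionVars false
set_option linter.unusedVariables false
set_option linter.style.haveILetI false
set_option linter.unusedSimpArgs false

namespace Cfsg.Agent.NG

open Subgroup Cfsg.Agent.Transfer Cfsg.Agent.MS MulAction
open scoped commutatorElement

universe u v
variable {G : Type u} [Group G] [Finite G] {V : Type v} [MulAction G V]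
variable {X : Subgroup G} {g t x y z : G} {a b c d e a0 a1 c1 am : V} {n m k : ℕ} {p : ℕ → V}
variable {E : V → V → Prop}

set_option hygiene false in
local notation:max "St " a:max => MulAction.stabilizer G a
set_option hygiene false in
local notation:max "Za " a:max => Zs (MulAction.stabilizer G a)
set_option hygiene false in
local notation:max "Qa " a:max => piCoreOf (Singleton.singleton 2) (MulAction.stabilizer G a)
set_option hygiene false in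
local notation:max "Ra " a:max b:max =>
  ⁅Zs (MulAction.stabilizer G a), MulAction.stabilizer G a ⊓ MulAction.stabilizer G b⁆

variable (G) in
structure CP (E : V → V → Prop) (a a1 c c1 : V) : Prop where
  ga : GA G E
  e1 : E a a1
  e2 : E c c1
  l1 : Za a ≤ St c ⊓ St c1
  l2 : Za c ≤ St a ⊓ St a1
  cr : ¬ Za a ≤ Qa c

namespace CP
variable (h : CP G E a a1 c c1)
include h

theorem symm : CP G E c c1 a a1 := ⟨h.ga, h.e2, h.e1, h.l2, h.l1, fun l => h.cr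
  ((le_inf (h.l1.trans inf_le_left) ((h.ga.loc h.e1).Z_cc_Q.trans (cc_anti l))).trans (h.ga.loc h.e2).cc_Z)⟩
theorem Y_eq : Qa a ⊔ Za c = St a ⊓ St a1 := (h.ga.loc h.e1).ix2.sup_eq h.l2 h.symm.cr
theorem R_eq : Ra a a1 = ⁅Za a, Za c⁆ := by
  rw [← h.Y_eq, commutator_sup_right_of_le_centralizer (cc_symm (h.ga.loc h.e1).Z_cc_Q)
    (nn_O (nn_of_le (h.l2.trans inf_le_left)))]
theorem R_eq' : Ra a a1 = Ra c c1 := by rw [h.R_eq, h.symm.R_eq, commutator_comm]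
theorem inf_eq : Za a ⊓ Qa c = OZ (St a ⊓ St a1) := by
  rw [← (h.ga.loc h.e1).OZ_eq]
  refine le_antisymm (le_inf inf_le_left ?_) (le_inf inf_le_left ((le_inf
    (inf_le_left.trans (h.l1.trans inf_le_left)) (inf_le_right.trans (cc_anti h.l2))).trans
    (h.ga.loc h.e2).cc_Z))
  rw [← h.Y_eq]
  exact le_cc_sup (inf_le_left.trans (h.ga.loc h.e1).Z_cc_Q)
    (inf_le_right.trans (cc_symm (h.ga.loc h.e2).Z_cc_Q))
theorem gd : Gd G E a := h.ga.all_of_one GA.gd_inv h.e1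
  (h.inf_eq ▸ (h.ga.loc h.e2).ix2.inf' h.l1 h.cr)
theorem nm (h1 : E a a0) (h2 : a0 ≠ a1) (h3 : Za a0 ≤ St c ⊓ St c1) : Nm G E a := by
  refine h.ga.all_of_one GA.nm_inv h1 ((h.ga.gen h.e1 h1 h2.symm h.l2 h.symm.cr).ge.trans (sup_le ?_
    (nn_sup (inf_le_left.trans (nn_Zs _)) (inf_le_right.trans (nn_Zs _)))))
  have h4 : ⁅Za a, Za c⁆ ≤ Za a := comm_le_left ((h.l2.trans inf_le_left).trans (nn_Zs _))
  refine nn_of_comm_le' (comm_sup_l (nn_of_le le_sup_left) (nn_of_le le_sup_right)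
    (h4.trans le_sup_left) ?_)
  rw [commutator_comm]
  exact (commutator_mono le_rfl h3).trans ((h.R_eq'.symm.trans h.R_eq).le.trans (h4.trans le_sup_left))
/-- an element of `Z c` outside `Q a` commutes with no element of `Z a` outside `Q c` -/
theorem not_comm (hx : x ∈ Za a) (hx' : x ∉ Qa c) (hy : y ∈ St a) (h1 : y ∈ CC (OZ (St a ⊓ St a1)))
    (h2 : y * x = x * y) : y ∈ Qa a := by
  refine (h.ga.loc h.e1).cc_Z ⟨hy, le_C1_iff.1 ((h.gd a1 h.e1).le_of hx (fun l => hx' ?_)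
    (le_C1_iff.2 h1) (mem_C1.2 h2.symm))⟩
  exact (h.inf_eq.ge l).2
theorem smul (g : G) : CP G E (g • a) (g • a1) (g • c) (g • c1) :=
  ⟨h.ga, h.ga.smul g h.e1, h.ga.smul g h.e2, by
    rw [Za_smul, St_smul, St_smul, ← cj_inf]; exact cj_mono g h.l1, by
    rw [Za_smul, St_smul, St_smul, ← cj_inf]; exact cj_mono g h.l2, by
    rw [Za_smul, Qa_smul, cj_le_cj_iff]; exact h.cr⟩
theorem nn_sup (h3 : Za a0 ≤ St c ⊓ St c1) : Za c ≤ NN (Za a ⊔ Za a0) := by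
  have h4 : ⁅Za a, Za c⁆ ≤ Za a := comm_le_left ((h.l2.trans inf_le_left).trans (nn_Zs _))
  refine nn_of_comm_le' (comm_sup_l (nn_of_le le_sup_left) (nn_of_le le_sup_right)
    (h4.trans le_sup_left) ?_)
  rw [commutator_comm]
  exact (commutator_mono le_rfl h3).trans ((h.R_eq'.symm.trans h.R_eq).le.trans (h4.trans le_sup_left))
end CP

/-- the subgroup generated by the squares -/
def Sq (X : Subgroup G) : Subgroup G := closure ((fun x => x * x) '' X)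
theorem sq_mem_Sq (h : x ∈ X) : x * x ∈ Sq X := subset_closure ⟨x, h, rfl⟩
theorem Sq_le {Y : Subgroup G} (h : ∀ x ∈ X, x * x ∈ Y) : Sq X ≤ Y :=
  (closure_le _).2 (by rintro _ ⟨x, hx, rfl⟩; exact h x hx)
theorem nn_Sq {A : Subgroup G} (h : A ≤ NN X) : A ≤ NN (Sq X) := fun g hg => mem_normalizer_of_cj_le
  (cj_le_iff_le_cj_inv.2 (Sq_le fun x hx => mem_cj.2 (by
    have := sq_mem_Sq (conj_mem_of_mem_normalizer (h hg) hx)
    rwa [conj_mul, ← inv_inv g, inv_inv g⁻¹] at this)))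
theorem Sq_eq {Z C D : Subgroup G} (hZ : IsElementaryAbelian 2 Z) (h1 : C ≤ CC Z) (h2 : C ≤ D)
    (h3 : D ≤ Z ⊔ C) : Sq D = Sq C :=
  le_antisymm (Sq_le fun x hx => by
    obtain ⟨z, hz, c, hc, rfl⟩ := (mem_sup_l (nn_of_cc h1)).1 (h3 hx)
    rw [mul_assoc, ← mul_assoc c, ← h1 hc z hz, mul_assoc, ← mul_assoc, elem_mul_self hZ hz, one_mul]
    exact sq_mem_Sq hc) (Sq_le fun x hx => sq_mem_Sq (h2 hx))

theorem _root_.Cfsg.Agent.Transfer.Ix2.comm_le {S U : Subgroup G} (h : Ix2 S U) (h1 : X ≤ NN S)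
    (h2 : X ≤ NN U) : ⁅S, X⁆ ≤ U := commutator_le.2 fun a ha b hb => by
  have e : ⁅a, b⁆ = a * (b * a⁻¹ * b⁻¹) := by simp [commutatorElement_def, mul_assoc]
  rw [e, h.mul_iff ha (conj_mem_of_mem_normalizer (h1 hb) (inv_mem ha)),
    ← (mem_normalizer_iff.1 (h2 hb) _), inv_mem_iff]

theorem GA.nn_of_three (h : GA G E) (h1 : E a b) (h2 : E a c) (h3 : E a d) (e1 : b ≠ c) (e2 : b ≠ d)
    (e3 : c ≠ d) : St a ≤ NN (Za b ⊔ Za c ⊔ Za d) := fun g hg => mem_normalizer_of_cj_le (by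
  have : ∀ e, E a e → cj g (Za e) ≤ Za b ⊔ Za c ⊔ Za d := fun e he => by
    rw [← Za_smul]
    rcases h.three h1 h2 h3 (h.smul' he hg) e1 e2 e3 with e | e | e <;> rw [e] <;> order
  rw [cj_sup, cj_sup]
  exact sup_le (sup_le (this b h1) (this c h2)) (this d h3))

variable (G) in
structure Cr (E : V → V → Prop) (n : ℕ) (p : ℕ → V) : Prop where
  ga : GA G E
  hb : ∀ k < n, ∀ a b, Dk E k a b → Za a ≤ Qa b
  pa : Pa E n p
  cr : ¬ Za (p 0) ≤ Qa (p n)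

namespace Cr

theorem le (h : Cr G E n p) {q : ℕ → V} {l : ℕ} (hq : Pa E l q) (i j : ℕ) (h1 : i ≤ j) (h2 : j ≤ l)
    (h3 : j < i + n) : Za (q i) ≤ Qa (q j) ∧ Za (q j) ≤ Qa (q i) :=
  ⟨h.hb _ (by omega) _ _ (hq.dk i j h1 h2), h.hb _ (by omega) _ _ (h.ga.dk_symm (hq.dk i j h1 h2))⟩

theorem cp (h : Cr G E (m + 1) p) : CP G E (p 0) (p 1) (p (m + 1)) (p m) :=
  ⟨h.ga, h.pa 0 (by omega), h.ga.symm (h.pa m (by omega)),
    (h.le h.pa 0 m (by omega) (by omega) (by omega)).1.trans (h.ga.loc' (h.ga.symm (h.pa m (by omega)))).ix2.le,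
    (h.le h.pa 1 (m + 1) (by omega) (by omega) (by omega)).2.trans (h.ga.loc' (h.pa 0 (by omega))).ix2.le,
    h.cr⟩
theorem rev (h : Cr G E (m + 1) p) : Cr G E (m + 1) fun i => p (m + 1 - i) :=
  ⟨h.ga, h.hb, h.ga.rev h.pa, by simpa using h.cp.symm.cr⟩
theorem ext (h : Cr G E (m + 1) p) (h1 : E (p 0) a0) (h2 : a0 ≠ p 1) (h3 : ¬ Nm G E (p 0)) :
    Cr G E (m + 1) (cons a0 p) :=
  ⟨h.ga, h.hb, (h.pa.cons (h.ga.symm h1)).mono (by omega), fun l => h3 (h.cp.nm h1 h2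
    (l.trans (h.ga.loc' h.cp.e2).ix2.le))⟩
theorem not_nm (h : Cr G E (m + 2) p) : ¬ Nm G E (p 1) := fun l => h.cr
  ((le_sup_right.trans (h.ga.nm_eq l (h.pa 1 (by omega)) (h.ga.symm (h.pa 0 (by omega)))).le).trans
    (sup_le (h.le h.pa 1 (m + 2) (by omega) (by omega) (by omega)).1
      (h.le h.pa 2 (m + 2) (by omega) (by omega) (by omega)).1))
theorem pc (h : Cr G E (m + 2) p) (h1 : E (p 0) a0) (h2 : a0 ≠ p 1) (h3 : Cr G E (m + 2) (cons a0 p)) :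
    Pc G E a0 := by
  have c := h3.cp
  refine h.ga.all_of_one GA.pc_inv (h.ga.symm h1) (cc_symm
    ((h.ga.gen h.cp.e1 h1 h2.symm h.cp.l2 h.cp.symm.cr).ge.trans (sup_le ?_ ?_)))
  · refine cc_symm (c.R_eq'.le.trans ((h.ga.loc c.e2).R_le_Z.trans (cc_symm ?_)))
    exact (h.le h.pa (m + 1) (m + 2) (by omega) (by omega) (by omega)).2.trans
      (cc_symm (h.ga.loc c.e2).Z_cc_Q)
  · exact inf_comm (St a0) _ ▸ cc_symm ((h.ga.loc c.e1).R_cc (c.gd _ c.e1))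

theorem caseI (h : Cr G E (m + 2) p) (hI : ∀ a b, E a b → ¬ Nm G E a) : False := by
  have ga := h.ga
  have e0 := h.pa 0 (by omega)
  have ex : ∀ {p a0}, Cr G E (m + 2) p → E (p 0) a0 → a0 ≠ p 1 → Cr G E (m + 2) (cons a0 p) :=
    fun h h1 h2 => h.ext h1 h2 (hI _ _ h1)
  obtain ⟨a0, k1, k2⟩ := ga.exists_ne e0
  obtain ⟨am, k3, k4⟩ := ga.exists_ne (ga.symm k1)
  have c1 := ex h k1 k2
  have c2 := ex c1 k3 k4
  have pc : ∀ {a b}, E a b → Pc G E a := ga.both (P := Pc G E) (fun a h g => ga.pc_smul h g) k3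
    (h.pc k1 k2 c1) (c1.pc k3 k4 c2)
  obtain ⟨y, y1, y2⟩ := SetLike.not_le_iff_exists.1 h.cp.symm.cr
  obtain ⟨k5, k6, k7⟩ := ga.move e0 k1 k2 (h.cp.l2 y1) y2
  cases m with
  | succ m =>
    obtain ⟨am', k8, k9⟩ := ga.exists_ne (ga.symm k5)
    have c3 := ex (ex h k5 k7) k8 k9
    refine ga.R_ne h.cp.gd k1 k5 k6.symm ?_
    rw [ga.R_eq (pc (ga.symm k3)) k3 (ga.symm k1), ga.R_eq (pc (ga.symm k8)) k8 (ga.symm k5)]
    exact c2.cp.R_eq'.trans c3.cp.R_eq'.symm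
  | zero =>
    have c3 := (ex c2.rev (a0 := y • a0) k5 k6).cp
    simp only [cons_zero, cons_succ, Nat.zero_add, Nat.sub_zero, Nat.reduceAdd, Nat.reduceSub] at c3
    obtain ⟨x, x1, x2⟩ := SetLike.not_le_iff_exists.1 c3.symm.cr
    have y3 : y * y = 1 := elem_mul_self (ga.loc h.cp.e2).Z_elem y1
    have x3 : x * x = 1 := elem_mul_self (ga.loc' k1).Z_elem x1
    have x4 : y * x * y⁻¹ ∈ Za (y • a0) := Za_smul y a0 ▸ conj_mem_cj x1
    have x5 : x ∈ St (p 1) := ga.Q_le e0 ((c1.le c1.pa 0 1 (by omega) (by omega) (by omega)).1 x1)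
    have x6 : ⁅x, y * x * y⁻¹⁆ ∈ Ra a0 (p 0) := c3.symm.R_eq ▸ commutator_mem_commutator x1 x4
    have x7 : ⁅y, x * y * x⁻¹⁆ ∈ Ra (p 2) (p 1) := by
      refine commutator_mem_commutator y1 ((ga.loc' (ga.symm (h.pa 1 (by omega)))).ix2.le ?_)
      exact conj_mem_of_mem_normalizer (nn_O (le_nn _) x5)
        ((h.le h.pa 1 2 (by omega) (by omega) (by omega)).2 y1)
    have x8 : ⁅x, y * x * y⁻¹⁆ = ⁅y, x * y * x⁻¹⁆⁻¹ := by
      simp only [commutatorElement_def, mul_inv_rev, inv_eq_of_mul_eq_one_right x3,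
        inv_eq_of_mul_eq_one_right y3, mul_assoc]
    have x9 : ⁅x, y * x * y⁻¹⁆ = 1 := by
      have := ga.eq_bot_of_cc e0 (X := Ra a0 (p 0) ⊓ Ra (p 2) (p 1)) (le_inf
        (inf_le_left.trans ((comm_le (ga.Z_le (ga.symm k1)) le_rfl).trans inf_le_right))
        (inf_le_right.trans ((comm_le (ga.Z_le h.cp.e2) le_rfl).trans inf_le_right)))
        (inf_le_left.trans (pc (ga.symm k1) _ (ga.symm k1))) (inf_le_right.trans (pc h.cp.e2 _ h.cp.e2))
      exact eq_one_of_inf this x6 (x8 ▸ inv_mem x7)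
    have := c3.symm.not_comm x1 x2 (c3.l1 x4).1 (cc_anti (ga.OZ_le (ga.symm k1)) (cc_symm
      (ga.loc e0).Z_cc_Q (h.hb 1 (by omega) _ _ ⟨cons _ fun _ => p 0, fun i hi => by
        obtain rfl : i = 0 := by omega
        exact ga.symm k5, rfl, rfl⟩ x4))) (commutatorElement_eq_one_iff_mul_comm.1 x9).symm
    refine x2 ?_
    rw [Qa_smul, mem_cj, inv_eq_of_mul_eq_one_right y3] at *
    exact this

theorem nm0 (h : Cr G E (m + 2) p) (hT : ∀ a b, E a b → ¬ Nm G E a → Nm G E b) : Nm G E (p 0) :=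
  hT _ _ (h.ga.symm h.cp.e1) h.not_nm

theorem ext2 (h : Cr G E (m + 2) p) (hT : ∀ a b, E a b → ¬ Nm G E a → Nm G E b) (h1 : E (p 0) a0)
    (h2 : a0 ≠ p 1) (h3 : E a0 am) (h4 : am ≠ p 0) : Cr G E (m + 2) (cons am (cons a0 p)) := by
  have ga := h.ga
  have q : Pa E (m + 4) (cons am (cons a0 p)) := (h.pa.cons (ga.symm h1)).cons (ga.symm h3)
  refine ⟨ga, h.hb, q.mono (by omega), fun l => ?_⟩
  have e1 := h.pa m (by omega)
  have k1 : Za am ≤ Qa (p (m + 1)) := (le_inf l (h.le q 0 (m + 1) (by omega) (by omega) (by omega)).1).trans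
    (ga.nm_Q (hT _ _ (ga.symm e1) (by simpa using h.rev.not_nm)) (ga.symm (q (m + 1) (by omega))) e1)
  have k2 := h.cp.nn_sup (k1.trans (ga.loc' h.cp.e2).ix2.le)
  have k3 : Qa a0 ≤ NN (Za (p 0) ⊔ Za am) :=
    nn_sup ((ga.Q_le (ga.symm h1)).trans (nn_Zs _)) ((ga.Q_le h3).trans (nn_Zs _))
  have k4 : Qa (p 1) ≤ NN (Za (p 0) ⊔ Za am) := by
    rw [← (ga.ix2Q (ga.symm h.cp.e1)).sup_eq (h.le h.pa 1 (m + 2) (by omega) (by omega) (by omega)).2
      fun l => h.cp.symm.cr (l.trans inf_le_right)]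
    exact sup_le ((inf_comm (Qa (p 0)) _ ▸ ga.nm_Q (h.nm0 hT) h.cp.e1 h1).trans k3) k2
  obtain ⟨t, t1, t2⟩ := SetLike.not_le_iff_exists.1 (ga.Q_not_le h1)
  obtain ⟨t3, t4, t5⟩ := ga.move (ga.symm h1) h3 h4 ((ga.loc' (ga.symm h1)).ix2.le t1) t2
  have k5 := ga.nn_of_three (ga.symm h1) h3 t3 h4.symm t5.symm t4.symm
  have k6 : Qa (p 1) ≤ NN (Za (p 0) ⊔ Za (t • am)) := by
    have := nn_cj_of k4 (nn_O (le_nn _) (ga.Q_le h.cp.e1 t1))
    rwa [cj_sup, cj_nn (nn_Zs _ (O_le _ _ t1)), ← Za_smul] at this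
  have k7 : ∀ e, E a0 e → Za e ≤ St (p 0) ⊓ St a0 := fun e he =>
    (h.hb 1 (by omega) _ _ ⟨cons e fun _ => a0, fun i hi => by
      obtain rfl : i = 0 := by omega
      exact ga.symm he, rfl, rfl⟩).trans (ga.loc' h1).ix2.le
  refine (ga.loc h1).Z_ne_bot (le_bot_iff.1 ((le_sup_left.trans le_sup_left).trans (ga.core h1 _
    (sup_le (sup_le (k7 _ (ga.symm h1)) (k7 _ h3)) (k7 _ t3)) ?_ k5).le))
  refine (ga.gen h.cp.e1 h1 h2.symm (ga.loc' h.cp.e1).ix2.le (ga.Q_not_le (ga.symm h.cp.e1))).ge.trans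
    (sup_le ?_ (inf_le_right.trans k5))
  rw [sup_assoc, sup_sup_distrib_left]
  exact nn_sup k4 k6

theorem R_eq2 (h : Cr G E (m + 2) p) (hT : ∀ a b, E a b → ¬ Nm G E a → Nm G E b) (h1 : E (p 0) a0)
    (h2 : a0 ≠ p 1) : Pc G E (p 0) ∧ Ra (p 0) a0 = Ra (p m) (cons a0 p m) := by
  have ga := h.ga
  obtain ⟨am, h3, h4⟩ := ga.exists_ne (ga.symm h1)
  obtain ⟨t, t1, t2⟩ := SetLike.not_le_iff_exists.1 (ga.Q_not_le h1)
  obtain ⟨t3, t4, t5⟩ := ga.move (ga.symm h1) h3 h4 ((ga.loc' (ga.symm h1)).ix2.le t1) t2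
  have c1 := (h.ext2 hT h1 h2 h3 h4).cp
  have c2 := (h.ext2 hT h1 h2 t3 t5).cp
  have k : Pc G E am := by
    refine ga.all_of_one GA.pc_inv c1.e1 (cc_symm ((ga.gen h3 t3 t4.symm le_rfl fun l =>
      (ga.loc h3).ix2.ne (le_antisymm (ga.loc h3).ix2.le l)).ge.trans (sup_le ?_ ?_)))
    · exact inf_comm (St am) _ ▸ cc_symm ((ga.loc c1.e1).R_cc (c1.gd _ c1.e1))
    · have e : Ra am a0 = Ra (t • am) a0 := c1.R_eq'.trans c2.R_eq'.symm
      exact cc_symm (e.le.trans (inf_comm (St (t • am)) _ ▸ (ga.loc c2.e1).R_cc (c2.gd _ c2.e1)))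
  exact ⟨ga.nbr (P := Pc G E) (fun a h g => ga.pc_smul h g) h3 (ga.symm h1) k,
    (ga.R_eq k h3 (ga.symm h1)).trans c1.R_eq'⟩

theorem caseII (h : Cr G E (m + 2) p) (hT : ∀ a b, E a b → ¬ Nm G E a → Nm G E b) : False := by
  have ga := h.ga
  have e0 := h.cp.e1
  obtain ⟨a0, k1, k2⟩ := ga.exists_ne e0
  obtain ⟨y, y1, y2⟩ := SetLike.not_le_iff_exists.1 h.cp.symm.cr
  have pc := (h.R_eq2 hT k1 k2).1
  cases m with
  | succ m =>
    obtain ⟨k5, k6, k7⟩ := ga.move e0 k1 k2 (h.cp.l2 y1) y2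
    exact ga.R_ne h.cp.gd k1 k5 k6.symm ((h.R_eq2 hT k1 k2).2.trans (h.R_eq2 hT k5 k7).2.symm)
  | zero =>
    haveI : Fact (Nat.Prime 3) := ⟨Nat.prime_three⟩
    have c1 : CP G E (p 0) (p 1) (p 2) (p 1) := h.cp
    have hb : ∀ e, E (p 1) e → Za e ≤ Qa (p 1) := fun e he =>
      h.hb 1 (by omega) _ _ ⟨cons e fun _ => p 1, fun i hi => by
        obtain rfl : i = 0 := by omega
        exact ga.symm he, rfl, rfl⟩
    have nm := h.nm0 hT
    clear k1 k2 h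
    generalize p 0 = a at *
    generalize p 1 = b at *
    generalize p (0 + 1 + 1) = c at *
    have l := ga.loc e0
    have ne : c ≠ a := fun e => c1.cr (e ▸ l.Z_le_Q)
    obtain ⟨t, t1, t2⟩ := SetLike.not_le_iff_exists.1 (ga.Q_not_le e0)
    obtain ⟨t3, t4, t5⟩ := ga.move (ga.symm e0) (ga.symm c1.e2) ne ((ga.loc' (ga.symm e0)).ix2.le t1) t2
    have c2 := c1.smul t
    rw [mem_stabilizer_iff.1 (O_le _ _ t1), mem_stabilizer_iff.1 (ga.Q_le e0 t1)] at c2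
    generalize t • c = d at *
    obtain ⟨s, s1, s2⟩ := SetLike.not_le_iff_exists.1 (ga.Q_not_le c2.e2)
    obtain ⟨s3, s4, s5⟩ := ga.move t3 (ga.symm e0) t5.symm ((ga.loc' t3).ix2.le s1) s2
    have c3 := c2.symm.smul s
    rw [mem_stabilizer_iff.1 (O_le _ _ s1), mem_stabilizer_iff.1 (ga.Q_le c2.e2 s1),
      ((ga.three (ga.symm e0) t3 (ga.symm c1.e2) s3 t5.symm ne.symm t4).resolve_left s4).resolve_left s5] at c3
    obtain ⟨w, w1, w2⟩ := SetLike.not_le_iff_exists.1 c2.symm.cr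
    have w3 : w ∉ Qa c := fun e => w2 ((c3.inf_eq.trans c2.symm.inf_eq.symm).le ⟨w1, e⟩).2
    have d1 : St a ≤ NN (Qa a ⊓ Qa b) := fun g hg => mem_normalizer_of_cj_le (by
      rw [cj_inf, ← Qa_smul, ← Qa_smul, mem_stabilizer_iff.1 hg]
      exact le_inf inf_le_left (ga.nm_Q nm (ga.smul' e0 hg) e0))
    obtain ⟨D, d2, d3, d4⟩ := l.exists_three
    have d5 : ⁅Qa a ⊓ Qa b, D⁆ ≤ Za a := by
      refine (commutator_mono le_rfl (l.three_le d2 (cm_le (St a) (Qa a ⊓ Qa b) (Za a))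
        (nn_cm (le_nn _) d1 (nn_Zs _)) fun e => c1.symm.cr ((le_cm (c1.l2.trans inf_le_left)
        ((c1.l2.trans inf_le_left).trans (nn_Zs _)) ?_).trans e))).trans (comm_cm _ _ _)
      rw [commutator_comm]
      exact (commutator_mono le_rfl (inf_le_right.trans (ga.loc' c1.e2).ix2.le)).trans
        (c1.R_eq'.ge.trans l.R_le_Z)
    have cop : (#D).Coprime #(Qa a) := pg_coprime_pg d2.pgroup (O_pg _) (by norm_num)
    have d6 : ⁅Qa a, D⁆ ≤ Za a := by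
      rw [← cop_comm_comm (nn_O (nn_of_le d2.le)) cop (sol_of_pg (O_pg _))]
      exact (commutator_mono ((ga.ix2Q e0).comm_le (nn_O (nn_of_le d2.le)) (d2.le.trans d1)) le_rfl).trans d5
    have d7 := cop_sup_cc l.Z_le_Q ((O_le _ _).trans (nn_Zs _)) (d2.le.trans (nn_Zs _))
      (coprime_mono cop le_rfl l.Z_le_Q) (sol_of_ab l.Z_elem.1) d6
    have d8 : St a ≤ NN (Za a ⊔ D) := by
      have i : Ix2 (St a) (Qa a ⊔ D) := ix2_of_card (sup_le (O_le _ _) d2.le) (by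
        rw [card_sup_l (nn_O (nn_of_le d2.le)) (inf_of_coprime cop.symm), d3,
          ← card_mul_relIndex (O_le {2} (St a)), l.idx]; omega)
      refine (frattini (d2.mono le_sup_right i.le) i.le i.nn).ge.trans (sup_le (sup_le (nn_of_comm_le'
        (comm_sup_l (nn_of_le le_sup_left) (nn_of_le le_sup_right)
        ((comm_eq_bot.2 l.Z_cc_Q).le.trans bot_le) ?_)) (nn_of_le le_sup_right))
        (nn_sup (inf_le_left.trans (nn_Zs _)) inf_le_right))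
      rw [commutator_comm]; exact d6.trans le_sup_left
    have d9 : St a ≤ NN (Qa a ⊓ CC D ⊓ Qa b) := by
      have : Qa a ⊓ CC D ⊓ Qa b = Qa a ⊓ Qa b ⊓ CC (Za a ⊔ D) := by
        have := cc_symm l.Z_cc_Q
        rw [cc_sup]; order
      rw [this]; exact nn_inf d1 (nn_cc d8)
    set C := Qa a ⊓ CC D ⊓ Qa b with hC
    have f1 : ∀ e, CP G E a b e b → C ≤ CC (Za e) := fun e ce => by
      refine comm_eq_bot.1 (ga.eq_bot_of_cc e0 (comm_le (inf_le_right.trans (ga.loc' e0).ix2.le) ce.l2) ?_ ?_)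
      · rw [← l.sup_eq d2.le d4]
        refine le_cc_sup ((comm_le_left ((ce.l2.trans inf_le_left).trans d9)).trans
          (inf_le_left.trans inf_le_right)) ?_
        rw [commutator_comm]
        exact (commutator_mono le_rfl (inf_le_right.trans (ga.loc' ce.e2).ix2.le)).trans
          (ce.R_eq'.ge.trans (l.R_cc (ce.gd _ e0)))
      · rw [commutator_comm]
        exact (commutator_mono le_rfl (inf_le_right.trans (ga.loc' ce.e2).ix2.le)).trans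
          (ce.R_eq'.ge.trans (pc _ e0))
    have f2 : C ≤ CC (Za a) := (inf_le_left.trans inf_le_left).trans (cc_symm l.Z_cc_Q)
    have f3 : Qa a ⊓ Qa b ≤ Za a ⊔ C := by
      rw [hC, ← dedekind (hb a (ga.symm e0)) (nn_of_cc (inf_le_left.trans (cc_symm l.Z_cc_Q))), d7]
    have f4 := Sq_eq (D := Qa b ⊓ CC (Za a ⊔ Za c ⊔ Za d)) l.Z_elem f2
      (le_inf inf_le_right (le_cc_sup (le_cc_sup f2 (f1 c c1)) (f1 d c2)))
      ((le_inf ((le_inf (inf_le_left.trans (ga.Q_le (ga.symm e0))) (inf_le_right.trans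
        (cc_anti (le_sup_left.trans le_sup_left)))).trans l.cc_Z) inf_le_left).trans f3)
    have f5 := ga.core e0 (Sq C) ((Sq_le fun x hx => mul_mem hx hx).trans
      (inf_le_right.trans (ga.loc' e0).ix2.le)) (nn_Sq d9) (f4 ▸ nn_Sq (nn_inf (nn_O (le_nn _)) (nn_cc
        (ga.nn_of_three (ga.symm e0) (ga.symm c1.e2) t3 ne.symm t5.symm t4.symm))))
    have f6 := (ga.ix2Q (ga.symm e0)).mul_mem (hb _ t3 w1) (fun e => w2 e.2) (hb _ (ga.symm c1.e2) y1)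
      fun e => y2 e.2
    have f7 := sq_mem_Sq (show w * y ∈ Qa a ⊓ Qa b from ⟨f6.2, f6.1⟩)
    rw [Sq_eq l.Z_elem f2 (le_inf (inf_le_left.trans inf_le_left) inf_le_right) f3, f5, mem_bot] at f7
    refine w3 (c1.symm.not_comm y1 y2 (c3.l1 w1).1 (cc_anti (ga.OZ_le c1.e2)
      (cc_symm (ga.loc' e0).Z_cc_Q (hb _ t3 w1))) ?_)
    rw [← inv_eq_of_mul_eq_one_right f7, mul_inv_rev,
      inv_eq_of_mul_eq_one_right (elem_mul_self (ga.loc c1.e2).Z_elem y1),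
      inv_eq_of_mul_eq_one_right (elem_mul_self (ga.loc c2.e2).Z_elem w1)]

end Cr

theorem GA.exists_adj_crit (h : GA G E) (h1 : E a b) : ¬ Za a ≤ Qa b ∧ ¬ Za b ≤ Qa a := by
  classical
  have ex := h.exists_crit h1
  obtain ⟨_, _, ⟨p, hp, rfl, rfl⟩, h2⟩ := Nat.find_spec ex
  have c : Cr G E (Nat.find ex) p := ⟨h, fun k hk a b hd => by_contra fun e =>
    Nat.find_min ex hk ⟨a, b, hd, e⟩, hp, h2⟩
  generalize Nat.find ex = n at c
  rcases n with _ | _ | m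
  · exact absurd (h.loc (h.nb (p 0)).choose_spec).Z_le_Q c.cr
  · have c1 := c.cp
    obtain ⟨g, ⟨rfl, rfl⟩ | ⟨rfl, rfl⟩⟩ := h.edge c1.e1 h1
    exacts [⟨(c1.smul g).cr, (c1.smul g).symm.cr⟩, ⟨(c1.smul g).symm.cr, (c1.smul g).cr⟩]
  · exfalso
    by_cases hI : ∀ a b, E a b → ¬ Nm G E a
    · exact c.caseI hI
    push Not at hI
    obtain ⟨x, y, h3, h4⟩ := hI
    exact c.caseII fun a b h5 h6 => by_contra fun h7 => h.both (P := fun a => ¬ Nm G E a)
      (fun a h8 g h9 => h8 (h.nm_smul' h9)) h5 h6 h7 h3 h4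

end Cfsg.Agent.NG
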