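/-
Amalgams of type (S₃,S₃): the classification in a finite group.
-/
import Cfsg.Agent.Lib.NG.Am3
import Cfsg.Agent.Lib.Comp.Amal
import Cfsg.Agent.Lib.Perm.Tri

set_option autoImplicit false
set_option linter.unusedSectionVars false
set_option linter.unusedVariables false
set_option linter.style.haveILetI false
set_option linter.unusedSimpArgs false

namespace Cfsg.Agent.NG

open Subgroup Cfsg.Agent.Transfer Cfsg.Agent.MS MulAction
open scoped commutatorElement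

universe u v
variable {G : Type u} [Group G] [Finite G]
variable {A B C D H K L M N P Q R S T U W X Y Z : Subgroup G} {g t x y z : G}

abbrev S4 := Equiv.Perm (Fin 4)
abbrev C2 := Multiplicative (ZMod 2)

theorem pow_relIndex (h : H ≤ NN N) (hx : x ∈ H) : x ^ N.relIndex H ∈ N := by
  haveI : (N.subgroupOf H).Normal := normal_subgroupOf_iff_le_normalizer_inf.2 (nn_inf h (le_nn _))
  exact (N.subgroupOf H).pow_index_mem ⟨x, hx⟩

theorem elem_of_sq (h : ∀ x ∈ X, x * x = 1) : IsElementaryAbelian 2 X := by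
  refine ⟨comm_iff.2 fun a ha b hb => ?_, fun x hx => by rw [sq, h x hx]⟩
  rw [← inv_eq_of_mul_eq_one_right (h _ (mul_mem ha hb)), mul_inv_rev, inv_eq_of_mul_eq_one_right (h a ha),
    inv_eq_of_mul_eq_one_right (h b hb)]

theorem card_mul_le_inf (h1 : A ≤ X) (h2 : B ≤ X) (h : A ≤ NN B) : #A * #B ≤ #X * #(A ⊓ B : Subgroup G) :=
  card_sup_mul_card_inf h ▸ Nat.mul_le_mul_right _ (card_le_of_le (sup_le h1 h2))

theorem iso_prod (h1 : A ≤ CC B) (h2 : A ⊓ B = ⊥) : Nonempty ((A ⊔ B : Subgroup G) ≃* A × B) := by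
  let f : A × B →* G := A.subtype.noncommCoprod B.subtype fun a b => (mem_CC.1 (h1 a.2) b b.2).symm
  have hf : Function.Injective f := (injective_iff_map_eq_one f).2 fun ⟨a, b⟩ e => by
    have e : (a : G) * b = 1 := e
    have h3 : (a : G) = 1 := eq_one_of_inf h2 a.2 (eq_inv_of_mul_eq_one_left e ▸ inv_mem b.2)
    rw [h3, one_mul] at e
    exact Prod.ext (Subtype.ext h3) (Subtype.ext e)
  refine ⟨((MonoidHom.ofInjective hf).trans (MulEquiv.subgroupCongr ?_)).symm⟩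
  exact (MonoidHom.noncommCoprod_range _ _ _).trans (by rw [range_subtype, range_subtype])

structure AM (A B T : Subgroup G) : Prop where
  a : S3 A T
  b : S3 B T
  core : ∀ N ≤ T, A ≤ NN N → B ≤ NN N → N = ⊥

namespace AM
variable (h : AM A B T)
include h

theorem symm : AM B A T := ⟨h.b, h.a, fun N h1 h2 h3 => h.core N h1 h3 h2⟩
theorem cj (g : G) : AM (cj g A) (cj g B) (cj g T) := ⟨h.a.cj g, h.b.cj g, fun N h1 h2 h3 =>
  cj_eq_bot_iff.1 (h.core (Transfer.cj g⁻¹ N) (le_cj_iff_cj_inv_le.1 h1)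
    (cj_inv_cj g A ▸ nn_cj h2 g⁻¹) (cj_inv_cj g B ▸ nn_cj h3 g⁻¹))⟩
theorem not_le : ¬ A ≤ B := fun l => by
  have e : A = B := eq_of_card_le l (by
    rw [← card_mul_relIndex h.a.syl.le, ← card_mul_relIndex h.b.syl.le, h.a.idx3, h.b.idx3])
  exact h.a.Q_ne_bot (h.core _ h.a.ix2.le (by nrm) (by rw [e]; nrm))
theorem inf_eq : A ⊓ B = T := le_antisymm (by_contra fun e => h.not_le
  ((h.a.sup_eq inf_le_left e).ge.trans (sup_le inf_le_right h.b.syl.le))) (le_inf h.a.syl.le h.b.syl.le)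

theorem ga : GA G (cosetGraph A B).Adj := by
  have key : ∀ {a b : CosetVertex A B}, (cosetGraph A B).Adj a b →
      AM (stabilizer G a) (stabilizer G b) (stabilizer G a ⊓ stabilizer G b) := fun hab =>
    Comp.adj_induction (P := fun X Y => AM X Y (X ⊓ Y)) (h.inf_eq.symm ▸ h)
      (fun X Y e => inf_comm X Y ▸ e.symm) (fun X Y g e => cj_inf g X Y ▸ e.cj g) hab
  refine ⟨fun e => e.symm, fun g e => Comp.adj_smul e g, Comp.exists_smul_eq_of_adj, fun h1 h2 => ?_,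
    fun e => (key e).a, fun e => (key e).core, Comp.exists_adj⟩
  obtain ⟨x, h1⟩ := Comp.cosetGraph_adj.1 h1
  obtain ⟨y, h2⟩ := Comp.cosetGraph_adj.1 h2
  refine ⟨y * x⁻¹, ?_⟩
  have e1 : (y * x⁻¹) • (Sum.inl (x : G ⧸ A) : CosetVertex A B) = Sum.inl (y : G ⧸ A) := by
    simp [Sum.smul_inl]
  have e2 : (y * x⁻¹) • (Sum.inr (x : G ⧸ B) : CosetVertex A B) = Sum.inr (y : G ⧸ B) := by
    simp [Sum.smul_inr]
  rcases h1 with ⟨rfl, rfl⟩ | ⟨rfl, rfl⟩ <;> rcases h2 with ⟨rfl, rfl⟩ | ⟨rfl, rfl⟩ <;> simp [e1, e2]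

theorem crit : ¬ Zs A ≤ Q2 B := by
  have := (h.ga.exists_adj_crit (Comp.adj_inl_inr (1 : G))).1
  rwa [(Comp.stabilizer_inl 1).trans (cj_eq_of_mem (one_mem A)),
    (Comp.stabilizer_inr 1).trans (cj_eq_of_mem (one_mem B))] at this

theorem Q_not_le : ¬ Q2 A ≤ Q2 B := fun l => h.crit (h.a.Z_le_Q.trans l)
theorem ix2Q : Ix2 (Q2 A) (Q2 A ⊓ Q2 B) := h.b.ix2.inf' h.a.ix2.le h.Q_not_le
theorem Q_sup : Q2 A ⊔ Q2 B = T := h.a.ix2.sup_eq h.b.ix2.le h.symm.Q_not_le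
theorem Q_eq' : Q2 A ⊓ Q2 B ⊔ Zs A = Q2 A := h.ix2Q.sup_eq h.a.Z_le_Q fun l => h.crit (l.trans inf_le_right)
theorem Sq_Q : Sq (Q2 A) = Sq (Q2 A ⊓ Q2 B) :=
  Sq_eq h.a.Z_elem (inf_le_left.trans (cc_symm h.a.Z_cc_Q)) inf_le_left (sup_comm (Q2 A ⊓ Q2 B) _ ▸ h.Q_eq'.ge)
theorem elem : IsElementaryAbelian 2 (Q2 A) := elem_of_sq fun x hx => by
  have := h.core (Sq (Q2 A)) ((Sq_le fun x hx => mul_mem hx hx).trans h.a.ix2.le) (nn_Sq (by nrm))
    (by rw [h.Sq_Q, inf_comm, ← h.symm.Sq_Q]; exact nn_Sq (by nrm))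
  exact mem_bot.1 (this ▸ sq_mem_Sq hx)
theorem D_eq : Q2 A ⊓ Q2 B = OZ T := le_antisymm
  (le_OZ (inf_le_left.trans h.a.ix2.le) (h.Q_sup ▸ le_cc_sup (inf_le_left.trans (ab_cc h.elem.1))
    (inf_le_right.trans (ab_cc h.symm.elem.1))) (elem_mono h.elem inf_le_left))
  (le_inf ((OZ_le_Zs h.a.syl).trans h.a.Z_le_Q) ((OZ_le_Zs h.b.syl).trans h.b.Z_le_Q))
theorem Q_eq : Zs A = Q2 A := by
  rw [← h.Q_eq', h.D_eq, sup_eq_right.2 (OZ_le_Zs h.a.syl)]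
theorem ix2Z : Ix2 (Q2 A) (OZ T) := h.D_eq ▸ h.ix2Q
theorem Z_le : A ⊓ CC A ≤ OZ T := by
  have h1 : A ⊓ CC A ≤ Q2 A := (inf_le_inf_left _ (cc_anti (O_le _ _))).trans h.a.ch
  exact le_OZ (h1.trans h.a.ix2.le) (inf_le_right.trans (cc_anti h.a.syl.le)) (elem_mono h.elem h1)
theorem ix2D : Ix2 (OZ T) (A ⊓ CC A) := by
  obtain ⟨g, hg, hg'⟩ := SetLike.not_le_iff_exists.1 h.a.not_nn
  have h1 : OZ T ⊓ Transfer.cj g (OZ T) ≤ A ⊓ CC A := by
    refine le_inf (inf_le_left.trans ((OZ_le _).trans h.a.syl.le)) ?_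
    rw [← h.a.sup_eq (cj_le' h.a.syl.le hg) fun l => hg' (mem_normalizer_of_cj_le l)]
    exact le_cc_sup (inf_le_right.trans (cc_cj (OZ_cc T) g)) (inf_le_left.trans (OZ_cc T))
  have h2 := card_mul_le_inf h.ix2Z.le (cj_le h.ix2Z.le (nn_O (le_nn A) hg))
    (ab_nn h.elem.1 h.ix2Z.le (cj_le h.ix2Z.le (nn_O (le_nn A) hg)))
  have h3 := card_le_of_le h1
  have h4 := card_mul_relIndex h.Z_le
  have h5 : (A ⊓ CC A).relIndex (OZ T) ≠ 1 := fun e => h.a.nz (cc_symm ((relIndex_eq_one.1 e).trans inf_le_right))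
  have h6 := relIndex_pos (A ⊓ CC A) (OZ T)
  have h7 := card_pos' (OZ T)
  have h8 := card_pos' (A ⊓ CC A)
  rw [card_cj, h.ix2Z.card] at h2
  refine ⟨h.Z_le, le_antisymm ?_ (by omega)⟩
  have : #(OZ T) ≤ 2 * #(A ⊓ CC A : Subgroup G) := by nlinarith
  nlinarith
theorem Z_inf : (A ⊓ CC A) ⊓ (B ⊓ CC B) = ⊥ := h.core _ (inf_le_left.trans (h.Z_le.trans (OZ_le _)))
  (nn_of_cc (cc_symm (inf_le_left.trans inf_le_right))) (nn_of_cc (cc_symm (inf_le_right.trans inf_le_right)))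
theorem card_Z_eq : #(A ⊓ CC A : Subgroup G) = #(B ⊓ CC B : Subgroup G) := by
  have := h.ix2D.card; have := h.symm.ix2D.card; omega
theorem card_Z : #(A ⊓ CC A : Subgroup G) = 1 ∨ #(A ⊓ CC A : Subgroup G) = 2 := by
  have h1 := card_mul_le_inf h.Z_le h.symm.Z_le (ab_nn (OZ_elem T).1 h.Z_le h.symm.Z_le)
  rw [h.Z_inf, card_bot, h.ix2D.card, ← h.card_Z_eq] at h1
  have := card_pos' (A ⊓ CC A)
  have : #(A ⊓ CC A : Subgroup G) ≤ 2 := by nlinarith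
  omega
theorem card_T : #T = 8 * #(A ⊓ CC A : Subgroup G) := by
  rw [h.a.ix2.card, h.ix2Z.card, h.ix2D.card]; ring
theorem card_A : #A = 24 * #(A ⊓ CC A : Subgroup G) := by
  rw [← card_mul_relIndex h.a.syl.le, h.card_T, h.a.idx3]; ring

theorem exists_S4 : ∃ P ≤ A, Nonempty (P ≃* S4) := by
  obtain ⟨y, y1, y2⟩ := SetLike.not_le_iff_exists.1 h.symm.Q_not_le
  have y3 : y * y = 1 := elem_mul_self h.symm.elem y1
  have y4 : y ∈ T := h.b.ix2.le y1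
  have y5 := inv_eq_of_mul_eq_one_right y3
  obtain ⟨g, hg, hg'⟩ := SetLike.not_le_iff_exists.1 h.a.not_nn
  have nq : A ≤ NN (Q2 A) := by nrm
  have a' : S3 A (Transfer.cj g T) := by simpa only [cj_eq_of_mem hg] using h.a.cj g
  have g1 : g * y * g⁻¹ ∉ T := fun e => y2 ((mem_normalizer_iff.1 (nq hg) y).2
    ((h.a.inf_eq a' fun e => hg' (mem_normalizer_iff_cj.2 e.symm)).le ⟨e, conj_mem_cj y4⟩))
  have g2 := conj_mul_self y3 g
  have g3 : g * y * g⁻¹ ∈ A := mul_mem (mul_mem hg (h.a.syl.le y4)) (inv_mem hg)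
  generalize g * y * g⁻¹ = y' at g1 g2 g3
  have u1 : y * y' ∈ A := mul_mem (h.a.syl.le y4) g3
  have u2 : y * (y * y') * y⁻¹ = (y * y')⁻¹ := by
    rw [mul_inv_rev, inv_eq_of_mul_eq_one_right g2, ← mul_assoc, y3, one_mul]
  have u3 : ((y * y') ^ 4) ^ 3 = 1 := by
    have := elem_mul_self h.elem (pow_relIndex nq u1)
    rwa [h.a.idx, ← pow_add, show 6 + 6 = 4 * 3 by rfl, pow_mul] at this
  have u4 : (y * y') ^ 4 ∉ T := fun e => by
    have e1 : (y * y') ^ 4 = 1 := eq_one_of_odd_of_mem h.a.syl.pgroup e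
      ((by decide : Odd 3).of_dvd_nat (orderOf_dvd_of_pow_eq_one u3))
    have e2 := isPGroup_closure_invol y3 g2 (isPGroup_zpowers (k := 2) e1)
    have e3 : closure {y, y'} ≤ A := (closure_le _).2 (by
      rintro _ (rfl | rfl); exacts [h.a.syl.le y4, g3])
    refine g1 (h.a.syl.eq_of_le (pg_sup_l (O_pg A) e2 (e3.trans nq)) (sup_le (O_le _ _) e3) ?_ ▸
      mem_sup_right (subset_closure (by simp)))
    exact h.a.ix2.le_of y4 y2 le_sup_left (mem_sup_right (subset_closure (by simp)))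
  have u5 : y * (y * y') ^ 4 * y⁻¹ = ((y * y') ^ 4)⁻¹ := by rw [← conj_pow, u2, inv_pow]
  have u6 := pow_mem u1 4
  generalize (y * y') ^ 4 = x at u3 u4 u5 u6
  have : ∃ q ∈ Q2 A, ⁅y, q⁆ ∉ C1 x := by
    by_contra! hn
    refine h.a.R_not_cc (h.Q_eq ▸ h.ix2Z) ?_
    rw [← h.a.sup_eq (zpowers_le.2 u6) (mt zpowers_le.1 u4)]
    refine le_cc_sup ?_ (by
      rw [h.a.sup_eq (zpowers_le.2 u6) (mt zpowers_le.1 u4)]; exact h.a.R_cc (h.Q_eq ▸ h.ix2Z))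
    rw [h.a.sup_eq (zpowers_le.2 u6) (mt zpowers_le.1 u4), h.Q_eq, h.a.ix2.eq_sup y4 y2,
      commutator_sup_right_of_le_centralizer (ab_cc h.elem.1) (zpowers_le.2 (nq (h.a.syl.le y4))), cc_zpowers]
    intro r hr
    obtain ⟨v, v1, rfl⟩ := (mem_commutator_zpowers h.elem.1 (nq (h.a.syl.le y4))).1 hr
    exact hn v v1
  obtain ⟨q, q1, q2⟩ := this
  have q3 := inv_eq_of_mul_eq_one_right (elem_mul_self h.elem q1)
  have q4 : y * q * y⁻¹ ∈ Q2 A := conj_mem_of_mem_normalizer (nq (h.a.syl.le y4)) q1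
  have q5 : (y * (q * x * q⁻¹)) ^ 2 = (y * q * y⁻¹) * (x⁻¹ * ((y * q * y⁻¹)⁻¹ * q) * x) * q⁻¹ := by
    rw [← u5, sq]; nth_rewrite 2 [← y5]; group
  have q6 : (y * (q * x * q⁻¹)) ^ 2 ∈ Q2 A := q5 ▸ mul_mem (mul_mem q4
    (inv_conj_mem_of_mem_normalizer (nq u6) (mul_mem (inv_mem q4) q1))) (inv_mem q1)
  refine ⟨_, (closure_le _).2 ?_, Perm.Tri.tri_S4 (x := y) (y := q * x * q⁻¹) (by rw [sq, y3])
    (by rw [conj_pow, u3, mul_one, mul_inv_cancel]) (by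
      rw [show 4 = 2 + 2 by rfl, pow_add, elem_mul_self h.elem q6]) fun e => q2 ?_⟩
  · rintro _ (rfl | rfl)
    exacts [h.a.syl.le y4, mul_mem (mul_mem (O_le _ _ q1) u6) (inv_mem (O_le _ _ q1))]
  · rw [q5] at e
    have e1 : x⁻¹ * ((y * q * y⁻¹)⁻¹ * q) * x = (y * q * y⁻¹)⁻¹ * q := by
      calc _ = (y * q * y⁻¹)⁻¹ * ((y * q * y⁻¹) * (x⁻¹ * ((y * q * y⁻¹)⁻¹ * q) * x) * q⁻¹) * q := by group
        _ = _ := by rw [e, mul_one]
    rw [inv_eq_of_mul_eq_one_right (elem_mul_self h.elem q4)] at e1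
    rw [mem_C1, commutatorElement_def, q3, ← e1]
    nth_rewrite 1 [e1]; group

theorem iso : (#T = 8 ∧ Nonempty (A ≃* S4)) ∨ (#T = 16 ∧ Nonempty (A ≃* S4 × C2)) := by
  obtain ⟨P, h1, ⟨e⟩⟩ := h.exists_S4
  have h2 : #P = 24 := (Nat.card_congr e.toEquiv).trans Perm.Tri.card_S4
  have h3 := h.card_A
  have h4 := h.card_T
  rcases h.card_Z with h5 | h5 <;> rw [h5] at h3 h4
  · exact .inl ⟨h4, ⟨(MulEquiv.subgroupCongr (eq_of_card_le h1 (by omega))).symm.trans e⟩⟩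
  have h6 : P ⊓ (A ⊓ CC A) = ⊥ := eq_bot_iff.2 fun x hx => by
    have : ∀ a : S4, (∀ b : S4, a * b = b * a) → a = 1 := by decide +kernel
    have := this (e ⟨x, hx.1⟩) fun b => by
      rw [← e.apply_symm_apply b, ← map_mul, ← map_mul]
      exact congrArg e (Subtype.ext (mem_CC.1 hx.2.2 _ (h1 (e.symm b).2)).symm)
    exact congrArg Subtype.val (e.map_eq_one_iff.1 this)
  have h7 : P ≤ CC (A ⊓ CC A) := cc_symm (inf_le_right.trans (cc_anti h1))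
  obtain ⟨f⟩ := iso_prod h7 h6
  have h8 : P ⊔ A ⊓ CC A = A := eq_of_card_le (sup_le h1 inf_le_left) (by
    rw [card_sup_r (nn_of_cc h7) h6, h2, h5, h3])
  exact .inr ⟨h4, ⟨(MulEquiv.subgroupCongr h8).symm.trans (f.trans (e.prodCongr
    (mulEquivOfPrimeCardEq (p := 2) h5 (by simp))))⟩⟩

theorem iso2 : (Nonempty (A ≃* S4) ∧ Nonempty (B ≃* S4)) ∨
    (Nonempty (A ≃* S4 × C2) ∧ Nonempty (B ≃* S4 × C2)) := by
  rcases h.iso with ⟨a, b⟩ | ⟨a, b⟩ <;> rcases h.symm.iso with ⟨c, d⟩ | ⟨c, d⟩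
  exacts [.inl ⟨b, d⟩, by omega, by omega, .inr ⟨b, d⟩]
end AM

end Cfsg.Agent.NG
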