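/-
J-components: elementary facts.
-/
import Cfsg.Agent.Lib.NG.Am4

set_option autoImplicit false
set_option linter.unusedSectionVars false
set_option linter.unusedVariables false
set_option linter.style.haveILetI false
set_option linter.unusedSimpArgs false

namespace Cfsg.Agent.NG

open Subgroup Cfsg.Agent.Transfer Cfsg.Agent.MS
open scoped commutatorElement

universe u
variable {G : Type u} [Group G] [Finite G]
variable {A B C D H K L M N P Q R S T U W X Y Z : Subgroup G} {g t x y z : G}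

scoped notation:max "WK " K:max => ⁅OZ (Q2 K), K⁆

theorem pCoreOf_eq (K : Subgroup G) : pCoreOf 2 K = Q2 K := map_pCore K
theorem wOf_eq (K : Subgroup G) : wOf K = WK K := by rw [wOf, pCoreOf_eq]
theorem sylTwo_iff : IsSylowTwoIn T L ↔ IsSyl 2 T L :=
  ⟨fun h => ⟨h.1, h.2.1, h.2.2.not_two_dvd_nat⟩, fun h => ⟨h.le, h.pgroup,
    Nat.not_even_iff_odd.1 fun e => h.not_dvd (even_iff_two_dvd.1 e)⟩⟩
theorem res_eq_Res (X : Subgroup G) : res 2 X = Comp.Res 2 X := Comp.map_pResidual X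
theorem nn_res (h : A ≤ NN X) : A ≤ NN (res 2 X) := h.trans (normalizer_le_normalizer_res X)
theorem res_sup_le (h1 : R ≤ NN N) (h2 : IsPGroup 2 R) : res 2 (N ⊔ R) ≤ N :=
  (res_eq_Res _).le.trans (Comp.Res_sup_le' h1 h2)
theorem pg_of_res (h : IsPGroup 2 (res 2 X)) : IsPGroup 2 X :=
  Comp.Res_eq_bot_iff.1 (by rw [← res_eq_Res, ← res_res, res_eq_bot_of_isPGroup h])
theorem res_sup (h : res 2 K = K) (h1 : R ≤ NN K) (h2 : IsPGroup 2 R) : res 2 (K ⊔ R) = K :=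
  le_antisymm (res_sup_le h1 h2) (h.ge.trans (res_mono le_sup_left))
theorem Q_nn_of_subn (h : res 2 K = K) (h1 : Comp.SubnIn K H) : Q2 H ≤ NN K :=
  O1_eq (p := 2) H ▸ Comp.Op_le_normalizer_of_subnIn h1 (res_eq_Res K ▸ h)
theorem nn_J (h : A ≤ NN T) : A ≤ NN (JJ T) := h.trans (normalizer_le_normalizer_J T)
theorem JJ_JJ (T : Subgroup G) : JJ (JJ T) = JJ T := J_eq_of_le le_rfl (J_le T)
theorem J_pg (h : IsPGroup 2 T) : IsPGroup 2 (JJ T) := h.to_le (J_le T)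
theorem maxE_J : MaxE 2 (JJ T) A ↔ MaxE 2 T A :=
  ⟨fun h => let ⟨B, hB⟩ := exists_maxE 2 T; hB.of_mono hB.le_J (J_le T) h, fun h => h.mono h.le_J (J_le T)⟩
theorem maxE_congr (h : JJ S = JJ T) : MaxE 2 S A ↔ MaxE 2 T A := by rw [← maxE_J, h, maxE_J]
theorem OZ_J_le (h : MaxE 2 T A) : OZ (JJ T) ≤ A :=
  h.le_of_centralizer ((OZ_le _).trans (J_le T)) ((OZ_cc _).trans (cc_anti h.le_J)) (OZ_elem _).2
theorem le_OZ_J (h1 : X ≤ T) (h2 : X ≤ CC (JJ T)) (h : IsElementaryAbelian 2 X) : X ≤ OZ (JJ T) :=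
  let ⟨_, hA⟩ := exists_maxE 2 T
  le_OZ ((hA.le_of_centralizer h1 (h2.trans (cc_anti hA.le_J)) h.2).trans hA.le_J) h2 h
theorem OZ_le_OZ_J (T : Subgroup G) : OZ T ≤ OZ (JJ T) :=
  le_OZ_J (OZ_le T) ((OZ_cc T).trans (cc_anti (J_le T))) (OZ_elem T)
theorem cc_of_two (h : #U = 2) (h1 : X ≤ NN U) : X ≤ CC U := fun x hx => by
  obtain ⟨u, hu, h0⟩ := exists_ne_one (prime_ne_bot (h ▸ Nat.prime_two : (#U).Prime))
  rw [← prime_cc (h ▸ Nat.prime_two) hu h0]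
  refine mem_C1_of_conj (by_contra fun e => ?_)
  have h3 : ({1, u, x * u * x⁻¹} : Set G) ⊆ U := by
    rintro _ (rfl | rfl | rfl); exacts [one_mem _, hu, conj_mem_of_mem_normalizer (h1 hx) hu]
  have h4 := Set.ncard_le_ncard h3
  rw [Set.ncard_eq_three.2 ⟨_, _, _, h0.symm, fun e => h0 (conj_eq_one_iff.1 e.symm), Ne.symm e, rfl⟩,
    ← Nat.card_coe_set_eq] at h4
  exact absurd (h4.trans_eq h) (by decide)
theorem card_two_or (h : IsPGroup 2 U) (h0 : U ≠ ⊥) : #U = 2 ∨ 4 ≤ #U := by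
  obtain ⟨k, hk⟩ := h.exists_card_eq
  rcases k with _ | _ | k
  · exact absurd (card_eq_one.1 hk) h0
  · exact .inl hk
  · exact .inr (hk ▸ Nat.pow_le_pow_right (by decide : 0 < 2) (by omega : 2 ≤ k + 1 + 1))
theorem four_le (h : IsPGroup 2 U) (h0 : U ≠ ⊥) (h1 : K ≤ NN U) (h2 : U ⊓ CC K = ⊥) : 4 ≤ #U :=
  (card_two_or h h0).resolve_left fun e => h0 (by rwa [inf_eq_left.2 (cc_symm (cc_of_two e h1))] at h2)
theorem irr4 (h : #W = 4) (h2 : W ⊓ CC K = ⊥) (h0 : U ≠ ⊥) (h3 : U ≤ W) (h1 : K ≤ NN U) : U = W :=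
  eq_of_card_le h3 (h ▸ four_le ((IsPGroup.of_card (n := 2) h).to_le h3) h0 h1 (inf_bot_mono h2 h3 le_rfl))
theorem card_two_of_lt (h : #W = 4) (h0 : U ≠ ⊥) (h3 : U < W) : #U = 2 :=
  (card_two_or ((IsPGroup.of_card (n := 2) h).to_le h3.le) h0).resolve_right (by
    have := card_lt_of_lt h3; omega)
theorem comm_comm_res (h : res 2 K = K) (hU : IsPGroup 2 U) (h1 : K ≤ NN U) : ⁅⁅U, K⁆, K⁆ = ⁅U, K⁆ := by
  refine le_antisymm (comm_le_left (right_nn_comm _ _)) ((commutator_mono le_rfl (h.ge.trans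
    (res_le_iff.2 fun g hg ho => le_cm (zpowers_le.2 hg) ((zpowers_le.2 hg).trans (right_nn_comm _ _)) ?_
    (mem_zpowers g)))).trans (comm_cm K _ _))
  rw [← cop_comm_comm ((zpowers_le.2 hg).trans h1) ?_ (sol_of_pg hU)]
  · exact commutator_mono (commutator_mono le_rfl (zpowers_le.2 hg)) (zpowers_le.2 hg)
  · obtain ⟨k, hk⟩ := hU.exists_card_eq
    rw [hk, Nat.card_zpowers]; exact ho.pow_right k

theorem ix2_of_le (h1 : U ≤ S) (h2 : ¬ S ≤ U) (h : #S ≤ 2 * #U) : Ix2 S U := by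
  have h4 := card_mul_relIndex h1
  have h5 : U.relIndex S ≠ 1 := fun e => h2 (relIndex_eq_one.1 e)
  have h6 := relIndex_pos U S
  have h8 := card_pos' U
  exact ⟨h1, le_antisymm (by nlinarith) (by omega)⟩

/-- the normal closure of `J` in `H R` lies in `H` -/
theorem nc_le {J : Subgroup G} (h1 : J ≤ H) (h2 : H ≤ NN R) (h3 : R ≤ NN J) : ⁅J, H ⊔ R⁆ ≤ H :=
  commutator_le.2 fun j hj x hx => by
    obtain ⟨a, ha, b, hb, rfl⟩ := (mem_sup_r h2).1 hx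
    rw [show ⁅j, a * b⁆ = j * (a * (b * j⁻¹ * b⁻¹) * a⁻¹) by simp only [commutatorElement_def]; group]
    exact mul_mem (h1 hj) (mul_mem (mul_mem ha (h1 (conj_mem_of_mem_normalizer (h3 hb) (inv_mem hj))))
      (inv_mem ha))

/-- `K = O²(K)` and `K/O₂(K)` has order 3 -/
structure C3 (K : Subgroup G) : Prop where
  res : res 2 K = K
  idx : (Q2 K).relIndex K = 3

namespace C3
variable (h : C3 K)
include h

theorem syl : IsSyl 2 (Q2 K) K := ⟨O_le _ _, O_pg _, by rw [h.idx]; decide⟩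
theorem not_le : ¬ K ≤ Q2 K := fun e => by have := h.idx; rw [relIndex_eq_one.2 e] at this; omega
theorem not_pg : ¬ IsPGroup 2 K := fun e => h.not_le (le_Q2 le_rfl (le_nn _) e)
theorem le_Q (h1 : X ≤ K) (h2 : IsPGroup 2 X) : X ≤ Q2 K :=
  h.syl.le_of_le_normalizer h2 h1 (nn_O (nn_of_le h1))
theorem sup_eq (h1 : X ≤ K) (h2 : ¬ X ≤ Q2 K) : X ⊔ Q2 K = K :=
  sup_eq_of_prime (O_le _ _) (h.idx ▸ Nat.prime_three) h1 h2
theorem le_of (h1 : K ≤ NN N) (h2 : ¬ K ⊓ N ≤ Q2 K) : K ≤ N := by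
  have := res_sup_le ((O_le {2} K).trans (nn_inf (le_nn K) h1)) (O_pg K)
  rw [h.sup_eq inf_le_left h2, h.res] at this
  exact this.trans inf_le_right
theorem pg_of (hR : IsPGroup 2 R) (h1 : R ≤ NN K) (h2 : X ≤ K ⊔ R) (h3 : K ≤ NN X) (h4 : ¬ K ≤ X) :
    IsPGroup 2 X := pg_of_res ((O_pg K).to_le ((le_inf ((res_mono h2).trans (res_sup_le h1 hR))
      (res_le X)).trans (by_contra fun e => h4 (h.le_of h3 e))))
theorem exists_odd : ∃ d ∈ K, Odd (orderOf d) ∧ d ∉ Q2 K := exists_odd_of_relIndex h.idx.symm.dvd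
theorem cc_inf (hU : IsElementaryAbelian 2 U) (h1 : K ≤ NN U) (h2 : Q2 K ≤ CC U) : ⁅U, K⁆ ⊓ CC K = ⊥ := by
  obtain ⟨d, d1, d2, d3⟩ := h.exists_odd
  have e := h.sup_eq (zpowers_le.2 d1) (mt zpowers_le.1 d3)
  obtain ⟨k, hk⟩ := (elem_isPGroup hU).exists_card_eq
  have := cop_ab_inf hU.1 ((zpowers_le.2 d1).trans h1) (by
    rw [hk, Nat.card_zpowers]; exact (odd_iff_coprime_two.1 d2).pow_right k)
  rw [← commutator_sup_right_of_le_centralizer h2 (nn_O (nn_of_le (zpowers_le.2 d1))), sup_comm, e] at this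
  exact eq_bot_of_le this (le_inf (inf_le_left.trans (comm_le_left h1))
    (inf_le_right.trans (cc_anti (zpowers_le.2 d1)))) inf_le_left
theorem comm_eq (hU : IsPGroup 2 U) (h1 : K ≤ NN U) (h2 : Q2 K ≤ CC U) (h3 : U ⊓ CC K = ⊥) : ⁅U, K⁆ = U := by
  obtain ⟨d, d1, d2, d3⟩ := h.exists_odd
  have e := h.sup_eq (zpowers_le.2 d1) (mt zpowers_le.1 d3)
  obtain ⟨k, hk⟩ := hU.exists_card_eq
  refine le_antisymm (comm_le_left h1) ((cop_comm_eq ((zpowers_le.2 d1).trans h1) (by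
    rw [hk, Nat.card_zpowers]; exact (odd_iff_coprime_two.1 d2).pow_right k) (sol_of_pg hU) ?_).ge.trans
    (commutator_mono le_rfl (zpowers_le.2 d1)))
  rwa [← e, cc_sup, inf_comm (CC _), ← inf_assoc, inf_eq_left.2 (cc_symm h2)] at h3
theorem cj (g : G) : C3 (cj g K) := ⟨by rw [← cj_res, h.res], by rw [← cj_O, relIndex_cj, h.idx]⟩
theorem W_inf : WK K ⊓ CC K = ⊥ := h.cc_inf (OZ_elem _) (nn_OZ (by nrm)) (cc_symm (OZ_cc _))
end C3

theorem W_le_OZ (K : Subgroup G) : WK K ≤ OZ (Q2 K) := comm_le_left (nn_OZ (by nrm))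
theorem W_le_Q (K : Subgroup G) : WK K ≤ Q2 K := (W_le_OZ K).trans (OZ_le _)
theorem W_le (K : Subgroup G) : WK K ≤ K := (W_le_Q K).trans (O_le _ _)
theorem W_elem (K : Subgroup G) : IsElementaryAbelian 2 (WK K) := elem_mono (OZ_elem _) (W_le_OZ K)
theorem nn_W (h : A ≤ NN K) : A ≤ NN (WK K) := nn_comm (nn_OZ (nn_O h)) h
theorem cj_W (g : G) (K : Subgroup G) : cj g (WK K) = WK (cj g K) := by rw [cj_commutator, cj_OZ, cj_O]

structure JC (T K : Subgroup G) : Prop extends C3 K where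
  pg : IsPGroup 2 (JJ T)
  comm : ⁅K, JJ T⁆ = K
  jsyl : ∀ S, IsSyl 2 S (K ⊔ JJ T) → JJ T ≤ S → JJ S = JJ T
  card : #(WK K : Subgroup G) = 4

theorem jc_iff (hT : IsPGroup 2 T) : IsJComponent T K ↔ JC T K := by
  simp only [IsJComponent, wOf_eq, pCoreOf_eq, sylTwo_iff, odd_iff_coprime_two, ← res_eq_closure]
  exact ⟨fun ⟨a, b, c, d, e, _⟩ => ⟨⟨a, c⟩, J_pg hT, b, d, e⟩,
    fun h => ⟨h.res, h.comm, h.idx, h.jsyl, h.card, fun _ => elem_mul_self (W_elem K)⟩⟩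

namespace JC
variable (h : JC T K)
include h

theorem congr (e : JJ S = JJ T) : JC S K := ⟨h.toC3, e ▸ h.pg, e ▸ h.comm, e ▸ h.jsyl, h.card⟩
theorem cj (g : G) : JC (cj g T) (cj g K) :=
  ⟨h.toC3.cj g, cj_J g T ▸ IsPGroup.cj h.pg g, by rw [← cj_J, ← cj_commutator, h.comm], fun S h1 h2 => by
    rw [← cj_J, ← cj_sup] at h1
    rw [← cj_J] at h2 ⊢
    rw [← h.jsyl _ (cj_inv_cj g (K ⊔ JJ T) ▸ h1.cj g⁻¹) (cj_le_iff_le_cj_inv.1 h2), cj_J, cj_cj_inv],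
    by rw [← cj_W, card_cj, h.card]⟩
theorem nn : JJ T ≤ NN K := h.comm ▸ right_nn_comm _ _
theorem nn' : K ⊔ JJ T ≤ NN K := sup_le (le_nn K) h.nn
theorem le_comm : K ≤ ⁅JJ T, K⁆ := by rw [commutator_comm, h.comm]
theorem not_nn (hS : IsPGroup 2 S) (h1 : JJ T ≤ S) : ¬ K ≤ NN S := fun e =>
  h.not_pg (hS.to_le (h.le_comm.trans ((commutator_mono h1 le_rfl).trans (comm_le_left e))))
theorem nn_of (h1 : K ⊔ JJ T ≤ NN Q) (h2 : Q ≤ NN (JJ T)) : Q ≤ NN K := by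
  have e : JJ T ⊔ ⁅JJ T, K ⊔ JJ T ⊔ Q⁆ = K ⊔ JJ T := le_antisymm
    (sup_le le_sup_right (nc_le le_sup_right h1 h2)) (sup_le (h.le_comm.trans
      ((commutator_mono le_rfl (le_sup_left.trans le_sup_left)).trans le_sup_right)) le_sup_left)
  have := nn_res (le_sup_right.trans (Comp.le_normalizer_sup_commutator (JJ T) (K ⊔ JJ T ⊔ Q)))
  rwa [e, res_sup h.res h.nn h.pg] at this
theorem W_ne_bot : WK K ≠ ⊥ := fun e => by have := h.card; rw [e, card_bot] at this; omega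
theorem not_cc : ¬ K ≤ CC (WK K) := fun e => h.W_ne_bot (by simpa [inf_eq_left.2 (cc_symm e)] using h.W_inf)
theorem Q_cc (hR : IsPGroup 2 R) (h1 : R ≤ NN K) (h2 : K ≤ NN R) : R ≤ CC (WK K) := by
  refine cc_symm (inf_eq_left.1 (irr4 h.card h.W_inf (fun e => ?_) inf_le_left
    (nn_inf (nn_W (le_nn K)) (nn_cc h2))))
  exact inf_centralizer_ne_bot (pg_sup_l (elem_isPGroup (W_elem K)) hR (nn_W h1)) le_sup_left
    (sup_le (le_nn _) (nn_W h1)) h.W_ne_bot (inf_bot_mono e le_rfl (cc_anti le_sup_right))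
theorem cc_W (hR : IsPGroup 2 R) (h1 : R ≤ NN K) : (K ⊔ R) ⊓ CC (WK K) = Q2 (K ⊔ R) := by
  have h2 : K ⊔ R ≤ NN K := sup_le (le_nn K) h1
  have h3 : K ⊔ R ≤ NN ((K ⊔ R) ⊓ CC (WK K)) := nn_inf (le_nn _) (nn_cc (nn_W h2))
  exact le_antisymm (le_Q2 inf_le_left h3 (h.pg_of hR h1 inf_le_left (le_sup_left.trans h3)
    fun e => h.not_cc (e.trans inf_le_right))) (le_inf (O_le _ _)
    (h.Q_cc (O_pg _) ((O_le _ _).trans h2) (nn_O (nn_of_le le_sup_left))))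
theorem idx6 (hR : IsPGroup 2 R) (h1 : R ≤ NN K) (h2 : JJ T ≤ R) : (Q2 (K ⊔ R)).relIndex (K ⊔ R) = 6 := by
  have h3 : K ⊔ R ≤ NN K := sup_le (le_nn K) h1
  have h4 := BG.relIndex_Ct_dvd_of_el_two (p := 2) ⟨W_elem K, h.card⟩ (nn_W h3)
  rw [← inf_relIndex_left, h.cc_W hR h1] at h4
  have nq : K ⊔ R ≤ NN (Q2 (K ⊔ R)) := by nrm
  have h5 := relIndex_dvd_of_nn (O_le {2} _) le_sup_left (le_sup_left.trans nq)
  rw [← inf_relIndex_right, ← O_eq_inf le_sup_left h3, h.idx] at h5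
  obtain ⟨k, hk⟩ := hR.index ((Q2 (K ⊔ R)).subgroupOf R)
  have h6 := relIndex_dvd_of_nn (O_le {2} _) le_sup_right (le_sup_right.trans nq)
  have h7 : k ≠ 0 := fun e => h.not_nn (O_pg _) (h2.trans (relIndex_eq_one.1 (by rw [e] at hk; exact hk)))
    (le_sup_left.trans nq)
  have h8 := (dvd_pow_self 2 h7).trans (hk.symm.dvd.trans h6)
  have := Nat.le_of_dvd (by decide) h4
  have := relIndex_pos (Q2 (K ⊔ R)) (K ⊔ R)
  omega

theorem split : #(OZ (JJ T) ⊓ WK K : Subgroup G) = 2 ∧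
    Ix2 (OZ (JJ T)) (OZ (JJ T) ⊓ CC (K ⊔ JJ T)) ∧ ⁅OZ (JJ T), K⁆ ≤ WK K := by
  obtain ⟨S, s1, s2⟩ := exists_isSyl_ge h.pg (le_sup_right : _ ≤ K ⊔ JJ T)
  have s3 := h.jsyl S s1 s2
  have i2 := (idx_of_six s1 (h.idx6 h.pg h.nn le_rfl)).1
  have cw := h.cc_W h.pg h.nn
  have nw := nn_W h.nn'
  have kh : K ≤ K ⊔ JJ T := le_sup_left
  have jh : JJ T ≤ K ⊔ JJ T := le_sup_right
  have gen : ∀ X, JJ T ≤ X → X ≤ K ⊔ JJ T → X ⊔ Q2 (K ⊔ JJ T) = K ⊔ JJ T → K ⊔ JJ T ≤ X := fun X a b c =>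
    sup_le (h.le_comm.trans ((commutator_mono le_rfl (kh.trans c.ge)).trans (nc_le a (nn_O (nn_of_le b))
      ((nn_J (nn_of_le i2.le)).trans_eq (by rw [s3]))))) a
  have pgo := fun X (a : X ≤ K ⊔ JJ T) => h.pg_of h.pg h.nn a
  have nj : ¬ JJ T ≤ Q2 (K ⊔ JJ T) := fun e => h.not_nn (O_pg _) e (nn_O (nn_of_le kh))
  have i3 := (idx_of_six s1 (h.idx6 h.pg h.nn le_rfl)).2
  have wq : WK K ≤ Q2 (K ⊔ JJ T) := (W_le_Q K).trans (O_le_O kh h.nn')
  generalize K ⊔ JJ T = H at *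
  set W := WK K
  set Q := Q2 H
  have qw : Q ≤ CC W := cw.ge.trans inf_le_right
  have nq : H ≤ NN Q := by nrm
  obtain ⟨A, a1, a2⟩ : ∃ A, MaxE 2 S A ∧ ¬ A ≤ Q := by
    by_contra! hn; exact nj (s3 ▸ J_le_iff.2 hn)
  have aj : A ≤ JJ T := s3 ▸ a1.le_J
  have wa : ¬ W ≤ CC A := fun e => a2 ((le_inf (a1.le.trans s1.le) (cc_symm e)).trans cw.le)
  have w2 : ∀ X, X ≤ S → ¬ W ≤ CC X → #(W ⊓ CC X : Subgroup G) = 2 := fun X x1 x2 =>
    card_two_of_lt h.card (fun e => inf_centralizer_ne_bot s1.pgroup (wq.trans i2.le) (s1.le.trans nw)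
      h.W_ne_bot (inf_bot_mono e le_rfl (cc_anti x1))) (inf_lt_left.2 x2)
  have a3 := i2.inf' a1.le a2
  have a4 : IsElementaryAbelian 2 (A ⊓ Q ⊔ W : Subgroup G) :=
    elem_sup (elem_mono a1.elem inf_le_left) (W_elem K) (inf_le_right.trans qw)
  have a5 : MaxE 2 S (A ⊓ Q ⊔ W) := by
    refine a1.of_card_le (sup_le (inf_le_left.trans a1.le) (wq.trans i2.le)) a4 ?_
    have e1 := card_sup_mul_card_inf (nn_of_cc (inf_le_right.trans qw : A ⊓ Q ≤ _))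
    have e2 := card_le_of_le (le_inf inf_le_right ((inf_le_left.trans inf_le_left).trans
      (ab_cc a1.elem.1)) : A ⊓ Q ⊓ W ≤ W ⊓ CC A)
    rw [w2 A a1.le wa] at e2
    rw [h.card] at e1
    have := a3.card
    nlinarith
  have wj : W ≤ JJ T := le_sup_right.trans (s3 ▸ a5.le_J)
  have a6 : A ⊓ Q ⊔ W ≤ Q := sup_le inf_le_right wq
  have a7 := a5.mono a6 i2.le
  have jq : JJ Q ≤ JJ T := s3 ▸ J_mono_of_maxE a5 a6 i2.le
  set Z := OZ (JJ T)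
  have z1 : Z ≤ Q := (le_inf ((OZ_le _).trans jh) ((OZ_cc _).trans (cc_anti wj))).trans cw.le
  have z2 : Z ≤ OZ (JJ Q) := le_OZ_J z1 ((OZ_cc _).trans (cc_anti jq)) (OZ_elem _)
  have w3 : W ≤ OZ (JJ Q) := le_OZ_J wq ((cc_symm qw).trans (cc_anti (J_le Q))) (W_elem K)
  have y1 := OZ_J_le a7
  have y2 : H ≤ NN (OZ (JJ Q)) := nn_OZ (nn_J nq)
  have y3 : ⁅OZ (JJ Q), A⁆ ≤ W := (commutator_mono y1 le_rfl).trans (comm_sup_l (nn_of_cc (inf_le_right.trans qw))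
    (le_nn _) ((comm_eq_bot.2 (inf_le_left.trans (ab_cc a1.elem.1))).le.trans bot_le)
    (comm_le_left ((a1.le.trans s1.le).trans nw)))
  have y4 : ⁅OZ (JJ Q), K⁆ ≤ W := by
    refine (commutator_mono le_rfl (by_contra fun e => a2 ?_)).trans (comm_cm H _ _)
    have n := nn_cm (le_nn H) y2 nw
    exact (le_cm (a1.le.trans s1.le) ((a1.le.trans s1.le).trans nw) y3).trans (le_Q2 (cm_le _ _ _) n
      (pgo _ (cm_le _ _ _) (kh.trans n) e))
  have z3 : Z ⊓ W = W ⊓ CC (JJ T) := le_antisymm (le_inf inf_le_right (inf_le_left.trans (OZ_cc _)))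
    (le_inf (le_OZ (inf_le_left.trans wj) inf_le_right (elem_mono (W_elem K) inf_le_left)) inf_le_left)
  have z4 : #(Z ⊓ W : Subgroup G) = 2 := z3 ▸ w2 _ s2 fun e => wa (e.trans (cc_anti aj))
  have z5 : ⁅Z, K⁆ ≤ W := (commutator_mono z2 le_rfl).trans y4
  refine ⟨z4, ix2_of_le inf_le_left (fun e => ?_) ?_, z5⟩
  · have := eq_bot_of_le h.W_inf inf_le_right (inf_le_left.trans (e.trans (inf_le_right.trans (cc_anti kh))) :
      Z ⊓ W ≤ _)
    rw [this, card_bot] at z4; omega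
  obtain ⟨k, k1, k2⟩ := SetLike.not_le_iff_exists.1 (h.not_nn s1.pgroup s2)
  have k3 : Z ⊓ Transfer.cj k Z ≤ Z ⊓ CC H := by
    refine le_inf inf_le_left (le_trans ?_ (cc_anti (gen (JJ T ⊔ Transfer.cj k (JJ T)) le_sup_left
      (sup_le jh (cj_le' jh (kh k1))) (le_antisymm (sup_le (sup_le jh (cj_le' jh (kh k1))) (O_le _ _)) ?_))))
    · exact le_cc_sup (inf_le_left.trans (OZ_cc _)) (inf_le_right.trans (cc_cj (OZ_cc _) k))
    · rw [← sup_eq_of_prime s1.le (i3 ▸ Nat.prime_three) (cj_le' s1.le (kh k1))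
        fun e => k2 (mem_normalizer_of_cj_le e), ← i2.sup_eq s2 nj, cj_sup, cj_nn (nq (kh k1))]
      order
  have k4 : K ≤ NN (Z ⊔ W) :=
    nn_of_comm_le' (((commutator_mono (sup_le z2 w3) le_rfl).trans y4).trans le_sup_right)
  have k5 := card_mul_le_inf le_sup_left (cj_le le_sup_left (k4 k1))
    (ab_nn (OZ_elem _).1 z2 (cj_le z2 (y2 (kh k1))))
  have k6 := card_sup_mul_card_inf (ab_nn (OZ_elem _).1 z2 w3)
  have k7 := card_le_of_le k3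
  rw [z4, h.card] at k6
  rw [card_cj, show #(Z ⊔ W : Subgroup G) = #Z * 2 by omega, mul_assoc] at k5
  have := Nat.le_of_mul_le_mul_left k5 (card_pos' Z)
  omega
theorem not_cc_Z : ¬ OZ (JJ T) ⊓ WK K ≤ CC K := fun e => by
  have := h.split.1
  rw [eq_bot_of_le h.W_inf inf_le_right e, card_bot] at this; omega
theorem split' : OZ (JJ T) ⊓ CC (K ⊔ JJ T) ⊔ OZ (JJ T) ⊓ WK K = OZ (JJ T) :=
  h.split.2.1.sup_eq inf_le_left fun e => h.not_cc_Z (e.trans (inf_le_right.trans (cc_anti le_sup_left)))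
end JC

end Cfsg.Agent.NG
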