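/-
J-components inside an overgroup of characteristic 2.
-/
import Cfsg.Agent.Lib.NG.JC1

set_option autoImplicit false
set_option linter.unusedSectionVars false
set_option linter.unusedVariables false
set_option linter.style.haveILetI false
set_option linter.unusedSimpArgs false

namespace Cfsg.Agent.NG

open Subgroup Cfsg.Agent.Transfer Cfsg.Agent.MS
open scoped commutatorElement

universe u
variable {G : Type u} [Group G] [Finite G]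
variable {A B C D H K K' L M N P Q R S T U V W X Y Z : Subgroup G} {g t x y z : G}

scoped notation:max "IM " V:max A:max => Cfsg.Agent.Transfer.im V A
scoped notation:max "VV " L:max => OZ (Q2 L)

theorem IM_sup (h1 : A ≤ NN V) (h2 : B ≤ NN V) : IM V (A ⊔ B) = IM V A ⊔ IM V B := MS.im_sup (f := rho V) h1 h2
theorem IM_comm (h1 : A ≤ NN V) (h2 : B ≤ NN V) : IM V ⁅A, B⁆ = ⁅IM V A, IM V B⁆ := MS.im_comm (f := rho V) h1 h2
theorem IM_cj (hg : g ∈ NN V) (h : A ≤ NN V) : IM V (cj g A) = cj (rho V ⟨g, hg⟩) (IM V A) :=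
  MS.im_cj (f := rho V) hg h
theorem IM_eq_bot (h : A ≤ NN V) : IM V A = ⊥ ↔ A ≤ CC V :=
  ⟨fun e a ha => (rho_eq_one (a := ⟨a, h ha⟩)).1 (mem_bot.1 (e ▸ rho_mem_im ha)),
    fun e => eq_bot_iff.2 fun _ ⟨a, ha, l⟩ => l ▸ rho_eq_one.2 (e ha)⟩
theorem IM_sup_cc (h1 : A ≤ NN V) (h2 : B ≤ CC V) : IM V (A ⊔ B) = IM V A := by
  rw [IM_sup h1 (nn_of_cc h2), (IM_eq_bot (nn_of_cc h2)).2 h2, sup_bot_eq]
theorem vm_comm (h1 : U ≤ V) (h2 : A ≤ NN V) : vm V ⁅U, A⁆ = ⁅vm V U, IM V A⁆ := by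
  have e : ∀ (u : V) (a : NN V), ⁅hl u, rho V a⁆ = hl (u * (V.normalizerMonoidHom a u)⁻¹) := fun u a => by
    rw [← commutatorElement_inv, rho, MonoidHom.comp_apply, hol_commutator, ← map_inv, mul_inv_rev, inv_inv]
  have e' : ∀ (u : V) (a : NN V), ((u * (V.normalizerMonoidHom a u)⁻¹ : V) : G) = ⁅(u : G), (a : G)⁆ :=
    fun u a => by
      change (u : G) * ((a : G) * (u : G) * (a : G)⁻¹)⁻¹ = _
      simp only [commutatorElement_def]; group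
  refine le_antisymm ?_ (commutator_le.2 ?_)
  · have : ⁅U, A⁆ ≤ (⁅vm V U, IM V A⁆.comap hl).map V.subtype := commutator_le.2 fun u hu a ha =>
      ⟨_, mem_comap.2 (e ⟨u, h1 hu⟩ ⟨a, h2 ha⟩ ▸ commutator_mem_commutator
        (mem_vm.2 ⟨⟨u, h1 hu⟩, hu, rfl⟩) (rho_mem_im ha)), e' _ _⟩
    rintro _ ⟨v, hv, rfl⟩
    obtain ⟨w, hw, l⟩ := this hv
    exact Subtype.ext l ▸ hw
  · rintro _ ⟨u, hu, rfl⟩ _ ⟨a, ha, rfl⟩
    exact ⟨_, mem_subgroupOf.2 (e' u a ▸ commutator_mem_commutator hu ha), (e u a).symm⟩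
theorem vm_le (h1 : U ≤ V) (h : vm V U ≤ vm V W) : U ≤ W := fun u hu => by
  obtain ⟨w, hw, l⟩ := mem_vm.1 (h (mem_vm.2 ⟨⟨u, h1 hu⟩, hu, rfl⟩))
  rwa [hl_injective l] at hw
theorem cc_of_vm (h1 : U ≤ V) (h2 : A ≤ NN V) (h : vm V U ≤ CC (IM V A)) : U ≤ CC A :=
  cc_symm fun a ha => (rho_mem_cc (a := ⟨a, h2 ha⟩) h1).1 (cc_symm h (rho_mem_im ha))
theorem nn_of_vm (h1 : U ≤ V) (h2 : A ≤ NN V) (h : IM V A ≤ NN (vm V U)) : A ≤ NN U :=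
  fun a ha => (rho_mem_nn (a := ⟨a, h2 ha⟩) h1).1 (h (rho_mem_im ha))

theorem ffp_gen (h : FFP 2 V H) (hH : ∀ K, (∀ A, Tv 2 V H A → A ≤ K) → H ≤ K) (hS : IsSyl 2 S H)
    (h1 : S ≤ M) (h2 : ∀ A, Tv 2 V H A → ⁅O {2}ᶜ H, A⁆ ≤ M) : H ≤ M := hH M fun A hA => by
  have e := (hS.inf_of_le_normalizer (h.EA_le hA) (h.nn_EA hH hA)).sup_eq_of_relIndex (n := 1) le_sup_left
    (Nat.eq_of_mul_eq_mul_left (card_pos' _) ((card_mul_relIndex le_sup_left).trans (h.card_EA hA)))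
  exact (le_sup_right.trans e.ge).trans (sup_le (h2 A hA) (inf_le_left.trans h1))
theorem card_R (h : FFP 2 V H) (hA : Tv 2 V H A) : #(⁅O {2}ᶜ H, A⁆ : Subgroup G) = 3 := by
  have := (h.card_EA hA).symm.trans (h.card_EA' hA); omega
theorem R_comm (h : FFP 2 V H) (hA : Tv 2 V H A) : ⁅⁅O {2}ᶜ H, A⁆, A⁆ = ⁅O {2}ᶜ H, A⁆ :=
  prime_eq_of_le (card_R h hA ▸ Nat.prime_three) (comm_le_left (right_nn_comm _ _)) fun e => h.R_ne_bot hA
    (comm_eq_bot'.2 (cop_stable (pg_coprime (pg_of_card hA.card) ((O_pi _ _).mono (h.R_le hA)) (by simp))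
      le_rfl (comm_eq_bot'.1 e)))
theorem R_eq (h : FFP 2 V H) (hA : Tv 2 V H A) : ⁅O {2}ᶜ H, A⁆ = O {2}ᶜ H ⊓ EA 2 H A := by
  rw [inf_comm, dedekind (h.R_le hA) (right_nn_comm _ _), inf_comm, h.tv_inf hA, sup_bot_eq]

theorem J_cj (h : cj g (JJ T) ≤ T) : cj g (JJ T) = JJ T := by
  obtain ⟨A, hA⟩ := exists_maxE 2 T
  refine eq_of_card_le ?_ (card_cj _ _).ge
  rw [cj_J] at h ⊢
  exact J_le_iff.2 fun B hB => (hA.of_card_le (hB.le_J.trans h)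
    hB.elem (by simpa only [card_cj] using hB.max _ (hA.cj g).le (hA.cj g).elem)).le_J
theorem J_eq_syl (h : IsSyl 2 T L) (h1 : S ≤ L) (hS : IsPGroup 2 S) (h2 : JJ T ≤ S) : JJ S = JJ T := by
  obtain ⟨g, g1, g2⟩ := h.exists_cj_le hS h1
  have e := J_cj ((cj_mono g h2).trans g2)
  exact cj_inj.1 (by rw [e, cj_J]; exact J_eq_of_le (e.ge.trans (cj_mono g h2)) g2)

variable (G) in
structure ZN : Prop where
  ch : ∀ T : Subgroup G, IsPGroup 2 T → T ≠ ⊥ → CC (Q2 (NN T)) ≤ Q2 (NN T)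
  sol : ∀ T : Subgroup G, IsPGroup 2 T → T ≠ ⊥ → Group.IsSolvable (NN T)
  z : ∀ S : Subgroup G, IsSyl 2 S ⊤ → CC (OZ S) ≤ NN S

theorem zn_of (hL : IsCharacteristicTwoType G) (hN : ∀ N : Subgroup G, IsTwoLocal N → Group.IsSolvable N)
    (hZ : ∀ S : Sylow 2 G, CC (OZ (S : Subgroup G)) ≤ NN (S : Subgroup G)) : ZN G :=
  ⟨fun T a b => (le_inf ((cc_anti (le_Q2 (le_nn T) le_rfl a)).trans (cc_le_nn T)) le_rfl).trans
    (pCoreOf_eq (NN T) ▸ Comp.chP_iff.2 (hL.2 T a b)), fun T a b => hN _ ⟨T, a, b, rfl⟩,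
    fun S hS => let ⟨P, e⟩ := hS.exists_sylow; e ▸ hZ P⟩

theorem ZN.not_cc (zn : ZN G) (h : JC T K) (hS : IsSyl 2 S ⊤) (h1 : JJ T ≤ S) : ¬ K ≤ CC (OZ S) :=
  fun e => h.not_nn hS.pgroup h1 (e.trans (zn.z S hS))

structure LT (T L : Subgroup G) : Prop where
  zn : ZN G
  syl : IsSyl 2 T L
  nj : ¬ JJ T ≤ Q2 L
  ch : CC (Q2 L) ≤ Q2 L

theorem lt_of (zn : ZN G) (h : L ∈ jOvergroups T) : LT T L :=
  ⟨zn, sylTwo_iff.1 h.1, pCoreOf_eq L ▸ h.2.1, pCoreOf_eq L ▸ h.2.2⟩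
theorem LT.mem (h : LT T L) : L ∈ jOvergroups T :=
  ⟨sylTwo_iff.2 h.syl, (pCoreOf_eq L).symm ▸ h.nj, (pCoreOf_eq L).symm ▸ h.ch⟩

structure Cmp (L K : Subgroup G) : Prop extends C3 K where
  le : K ≤ JJ L
  nn : JJ L ⊔ L ⊓ CC (VV L) ≤ NN K
  comm : ⁅K, JJ L⁆ = K
  tv : ∃ B, Tv 2 (vm (VV L) (VV L)) (IM (VV L) (JJ L)) B ∧ IM (VV L) K = ⁅O {2}ᶜ (IM (VV L) (JJ L)), B⁆

theorem nn_V (L : Subgroup G) : L ≤ NN (VV L) := nn_OZ (by nrm)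
theorem Q_cc_V (L : Subgroup G) : Q2 L ≤ CC (VV L) := cc_symm (OZ_cc _)
theorem nn_JC (L : Subgroup G) : L ≤ NN (JJ L ⊔ L ⊓ CC (VV L)) :=
  nn_sup (nn_J (le_nn L)) (nn_inf (le_nn L) (nn_cc (nn_V L)))

namespace LT
variable (h : LT T L)
include h

theorem Q_le : Q2 L ≤ T := O_le_syl h.syl
theorem Q_ne_bot : Q2 L ≠ ⊥ := fun e => h.nj (le_top.trans (cc_bot.ge.trans (e ▸ h.ch)))
theorem sol : Group.IsSolvable L := sol_mono (h.zn.sol _ (O_pg L) h.Q_ne_bot) (by nrm)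
theorem Z_le (h1 : Q2 L ≤ S) : OZ S ≤ VV L := OZ_le_OZ h1 (((OZ_cc S).trans (cc_anti h1)).trans h.ch)
theorem C_nn (hS : IsSyl 2 S ⊤) (h1 : Q2 L ≤ S) : CC (VV L) ≤ NN S := (cc_anti (h.Z_le h1)).trans (h.zn.z S hS)
theorem pg_le (h1 : X ≤ L) (h2 : X ≤ CC (VV L)) (hX : IsPGroup 2 X) : X ≤ Q2 L := by
  obtain ⟨S, s1, s2⟩ := exists_isSyl_ge (O_pg (p := 2) L) le_top
  exact (le_inf (le_inf h1 h2) (s1.le_of_le_normalizer hX le_top (h2.trans (h.C_nn s1 s2)))).trans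
    ((le_Q2 inf_le_left (nn_inf (le_nn _) (inf_le_right.trans (h.C_nn s1 s2))) (s1.pgroup.to_le inf_le_right)).trans
    (O_le_O inf_le_left (nn_inf (le_nn L) (nn_cc (nn_V L)))))
theorem comm_C (h1 : X ≤ L) (hX : IsPGroup 2 X) : ⁅L ⊓ CC (VV L), X⁆ ≤ Q2 L := by
  obtain ⟨S, s1, s2⟩ := exists_isSyl_ge (pg_sup_l (O_pg L) hX (nn_O (nn_of_le h1))) le_top
  have := comm_le_left (h1.trans (nn_inf (le_nn L) (nn_cc (nn_V L))))
  exact h.pg_le (this.trans inf_le_left) (this.trans inf_le_right) (s1.pgroup.to_le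
    ((commutator_mono le_rfl (le_sup_right.trans s2)).trans
    (comm_le_right (inf_le_right.trans (h.C_nn s1 (le_sup_left.trans s2))))))
theorem comm_CJ : ⁅L ⊓ CC (VV L), JJ L ⊔ Q2 L⁆ ≤ Q2 L :=
  (commutator_mono le_rfl (sup_le (J_le_iff.2 fun A hA => le_cm hA.le (nn_O (nn_of_le hA.le))
    (h.comm_C hA.le (elem_isPGroup hA.elem))) (le_cm (O_le _ _) (le_nn _) (h.comm_C (O_le _ _) (O_pg L))))).trans
    (comm_cm L _ _)
theorem C_nn_of (h1 : Q2 L ≤ X) (h2 : X ≤ JJ L ⊔ Q2 L) : L ⊓ CC (VV L) ≤ NN X :=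
  nn_of_comm_le' (((commutator_comm _ _).le.trans ((commutator_mono le_rfl h2).trans h.comm_CJ)).trans h1)
theorem J_le : JJ T ≤ JJ L := h.syl.J_le
theorem C_nn_J : L ⊓ CC (VV L) ≤ NN (JJ T) :=
  J_eq_of_le le_sup_left (sup_le (Transfer.J_le T) h.Q_le) ▸
    nn_J (h.C_nn_of le_sup_right (sup_le_sup_right h.J_le _))
theorem tf : TF 2 (VV L) L := by
  refine ⟨OZ_elem _, (OZ_le _).trans (O_le _ _), nn_V L, Comp.pSol_of_isSolvable h.sol, fun D d1 d2 d3 => ?_⟩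
  have d4 := res_le_of_pow d3
  have d5 := (h.syl.inf_of_le_normalizer d1 d2).res_sup
  have d6 : D ⊔ Q2 L ≤ NN (T ⊓ D ⊔ Q2 L) := by
    refine sup_le (d5.ge.trans (sup_le ((le_inf ((res_le D).trans d1) d4).trans (nn_of_comm_le' ?_))
      (nn_of_le le_sup_left))) (nn_of_le le_sup_right)
    rw [commutator_comm]
    exact (h.comm_C (sup_le (inf_le_left.trans h.syl.le) (O_le _ _))
      (h.syl.pgroup.to_le (sup_le inf_le_left h.Q_le))).trans le_sup_right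
  exact d5.ge.trans (sup_le d4 ((le_sup_left.trans ((le_Q2 (sup_le_sup_right inf_le_right _) d6
    (h.syl.pgroup.to_le (sup_le inf_le_left h.Q_le))).trans (O_le_O (sup_le d1 (O_le _ _))
    (nn_sup d2 (by nrm))))).trans (Q_cc_V L)))
theorem inf_C (h1 : A ≤ T) : A ⊓ CC (VV L) = A ⊓ Q2 L := le_antisymm (le_inf inf_le_left (h.pg_le
  (inf_le_left.trans (h1.trans h.syl.le)) inf_le_right (h.syl.pgroup.to_le (inf_le_left.trans h1))))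
  (inf_le_inf_left _ (Q_cc_V L))
theorem maxE_sup (hA : MaxE 2 T A) : MaxE 2 T (A ⊓ Q2 L ⊔ VV L) :=
  (h.inf_C hA.le ▸ h.tf.maxE_sup (h.syl.maxE hA)).mono
    (sup_le (inf_le_left.trans hA.le) ((OZ_le _).trans h.Q_le)) h.syl.le
theorem V_le_J : VV L ≤ JJ T := let ⟨_, hA⟩ := exists_maxE 2 T; le_sup_right.trans (h.maxE_sup hA).le_J
theorem J_eq (h1 : S ≤ L) (hS : IsPGroup 2 S) (h2 : JJ T ≤ S) : JJ S = JJ T := J_eq_syl h.syl h1 hS h2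
theorem fratt : JJ L ⊔ L ⊓ NN (JJ T) = L := le_antisymm (sup_le (Transfer.J_le L) inf_le_left) fun g hg => by
  obtain ⟨k, k1, m, m1, rfl⟩ := h.syl.frattini_J (Transfer.J_le L) (nn_J (le_nn L)) h.J_le hg
  exact mul_mem (mem_sup_left k1) (mem_sup_right ⟨(mul_mem_cancel_left (Transfer.J_le L k1)).1 hg, m1⟩)
theorem genA (hA : MaxE 2 T A) {M : Subgroup (Hol (VV L))}
    (hM : ∀ B ≤ IM (VV L) A, Tv 2 (vm (VV L) (VV L)) (IM (VV L) (JJ L)) B → B ≤ M) : IM (VV L) A ≤ M := by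
  obtain ⟨k, B, h1, -, h2⟩ := h.tf.ffpJ.exists_prod (Transfer.im_mono (h.syl.maxE hA).le_J)
    (best_im ((hA.le.trans h.syl.le).trans (nn_V L)) (hA.bestOffender (OZ_elem _) ((OZ_le _).trans h.Q_le)))
  exact h2.ge.trans (iSup_le fun i => hM _ (h1 i).1 (h1 i).2)
theorem genJ {M : Subgroup (Hol (VV L))} (hM : ∀ A, MaxE 2 T A → IM (VV L) A ≤ M) : IM (VV L) (JJ T) ≤ M :=
  (le_pre_iff (f := rho (VV L)) (((Transfer.J_le T).trans h.syl.le).trans (nn_V L))).1 (J_le_iff.2 fun A hA =>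
    (le_pre_iff (f := rho (VV L)) ((hA.le.trans h.syl.le).trans (nn_V L))).2 (hM A hA))

theorem exists_cmp {B : Subgroup (Hol (VV L))} (hB : Tv 2 (vm (VV L) (VV L)) (IM (VV L) (JJ L)) B) :
    ∃ K, Cmp L K ∧ IM (VV L) K = ⁅O {2}ᶜ (IM (VV L) (JJ L)), B⁆ := by
  have ff := h.tf.ffpJ
  have nv := nn_V L
  have jl := Transfer.J_le (n := 2) L
  have ql : Q2 L ≤ L := O_le _ _
  have nl : JJ L ⊔ Q2 L ≤ L := sup_le jl ql
  have e0 : IM (VV L) (JJ L ⊔ Q2 L) = IM (VV L) (JJ L) := IM_sup_cc (jl.trans nv) (Q_cc_V L)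
  obtain ⟨Y, y1, y2, y3⟩ := exists_im (((ff.R_le hB).trans (O_le _ _)).trans e0.ge)
  obtain ⟨E, e1, e2, e3⟩ := exists_im ((ff.EA_le hB).trans e0.ge)
  obtain ⟨_, ⟨a, a1, rfl⟩, a2⟩ : ∃ b ∈ IM (VV L) (JJ L), B = zpowers b :=
    let ⟨b, b1, b2⟩ := exists_zpowers (prime_cyc (by rw [hB.card]; exact Nat.prime_two)); ⟨b, hB.le b1, b2⟩
  have a1 : (a : G) ∈ JJ L := a1
  have a3 : IM (VV L) (zpowers (a : G)) = B := (MS.im_zpowers (f := rho (VV L)) a.2).trans a2.symm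
  have cy : (JJ L ⊔ Q2 L) ⊓ CC (VV L) ≤ Y := fun x hx => y3 ⟨x, cc_le_nn _ hx.2⟩ hx.1
    (by rw [(rho_eq_one (a := ⟨x, cc_le_nn _ hx.2⟩)).2 hx.2]; exact one_mem _)
  have qy : Q2 L ≤ Y := (le_inf le_sup_right (Q_cc_V L)).trans cy
  have az : zpowers (a : G) ≤ JJ L ⊔ Q2 L := zpowers_le.2 (mem_sup_left a1)
  have e4 : IM (VV L) (Y ⊔ zpowers (a : G)) = EA 2 (IM (VV L) (JJ L)) B := by
    rw [IM_sup ((y1.trans nl).trans nv) ((az.trans nl).trans nv), y2, a3]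
  have e5 : E = Y ⊔ zpowers (a : G) := le_antisymm (le_of_im_le ((e1.trans nl).trans nv) e1 (sup_le y1 az)
    (cy.trans le_sup_left) (e2.trans e4.symm).le) fun x hx => e3 ⟨x, nv (nl (sup_le y1 az hx))⟩
    (sup_le y1 az hx) (e4 ▸ rho_mem_im hx)
  have nrm : ∀ {X : Subgroup G} {Z}, X ≤ JJ L ⊔ Q2 L → IM (VV L) X = Z → IM (VV L) (JJ L) ≤ NN Z →
      (∀ a : NN (VV L), (a : G) ∈ JJ L ⊔ Q2 L → rho _ a ∈ Z → (a : G) ∈ X) → JJ L ⊔ Q2 L ≤ NN X :=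
    fun {X Z} x1 x2 x3 x4 g hg => mem_normalizer_of_conj_mem fun x hx =>
      x4 (⟨g, nv (nl hg)⟩ * ⟨x, nv (nl (x1 hx))⟩ * ⟨g, nv (nl hg)⟩⁻¹) (mul_mem (mul_mem hg (x1 hx)) (inv_mem hg))
        (by rw [map_mul, map_mul, map_inv]
            exact conj_mem_of_mem_normalizer (x3 (e0 ▸ rho_mem_im hg)) (x2 ▸ rho_mem_im hx))
  have ne := nrm e1 e2 (ff.nn_EA h.tf.gen hB) e3
  have ny := nrm y1 y2 (R_eq ff hB ▸ nn_inf (nn_O (le_nn _)) (ff.nn_EA h.tf.gen hB)) y3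
  obtain ⟨Gq, _, _, f, q⟩ := exists_qm ql (by nrm)
  have i3 : (Y ⊓ CC (VV L)).relIndex Y = 3 := by
    have := Transfer.card_im ((y1.trans nl).trans nv)
    rw [y2, card_R ff hB, ← card_mul_relIndex (inf_le_left : Y ⊓ CC (VV L) ≤ Y), mul_comm] at this
    exact (Nat.eq_of_mul_eq_mul_left (card_pos' _) this).symm
  have yl := y1.trans nl
  have al := az.trans nl
  have y0 : Y ⊓ CC (VV L) ≤ L := inf_le_left.trans yl
  have c0 : ∀ X ≤ JJ L ⊔ Q2 L, MS.im f (Y ⊓ CC (VV L)) ≤ CC (MS.im f X) := fun X hX =>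
    (q.cc_iff y0 (hX.trans nl)).2 ((commutator_mono (inf_le_inf_right _ yl) hX).trans h.comm_CJ)
  have i4 := (q.relIndex_im y0 yl (le_inf qy (Q_cc_V L))).trans i3
  have rc : ¬ ⁅Y, zpowers (a : G)⁆ ≤ CC (VV L) := fun e => ff.R_ne_bot hB (by
    rw [← R_comm ff hB, ← y2, ← a3, ← IM_comm (yl.trans nv) (al.trans nv)]
    exact (IM_eq_bot (comm_le (yl.trans nv) (al.trans nv))).2 e)
  have ab : IsMulCommutative (MS.im f Y) := by
    obtain ⟨y, y4, y5⟩ : ∃ y ∈ MS.im f Y, y ∉ MS.im f (Y ⊓ CC (VV L)) :=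
      SetLike.not_le_iff_exists.1 fun e => by rw [relIndex_eq_one.2 e] at i4; omega
    rw [← sup_eq_of_prime (MS.im_mono inf_le_left) (i4 ▸ Nat.prime_three) (zpowers_le.2 y4) (mt zpowers_le.1 y5)]
    exact comm_sup (ab_of_cyc (cyc_zpowers _)) (ab_iff.2 (c0 _ (inf_le_left.trans y1)))
      (cc_symm ((c0 Y y1).trans (cc_anti (zpowers_le.2 y4))))
  have an : MS.im f (zpowers (a : G)) ≤ NN (MS.im f Y) := MS.im_nn al yl (az.trans ny)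
  have c3 : #(⁅MS.im f Y, MS.im f (zpowers (a : G))⁆ : Subgroup Gq) = 3 := by
    have c1 : MS.im f Y ⊓ CC (MS.im f (zpowers (a : G))) = MS.im f (Y ⊓ CC (VV L)) :=
      le_antisymm (by_contra fun e => rc (((q.cc_iff yl al).1 ((sup_eq_of_prime (MS.im_mono inf_le_left)
        (i4 ▸ Nat.prime_three) inf_le_left e).ge.trans (sup_le inf_le_right (c0 _ az)))).trans (Q_cc_V L)))
        (le_inf (MS.im_mono inf_le_left) (c0 _ az))
    rw [MS.im_zpowers (al (mem_zpowers _))] at c1 an ⊢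
    have := card_commutator_zpowers ab (an (mem_zpowers _))
    rw [c1, ← card_mul_relIndex (MS.im_mono (f := f) (inf_le_left : Y ⊓ CC (VV L) ≤ Y)), i4, mul_comm] at this
    exact Nat.eq_of_mul_eq_mul_left (card_pos' _) this
  have z1 : Q2 L ⊔ ⁅E, E⁆ = Q2 L ⊔ ⁅Y, zpowers (a : G)⁆ := by
    refine le_antisymm (sup_le le_sup_left ((q.im_le_iff (comm_le (e1.trans nl) (e1.trans nl)) (comm_le yl al)).1 ?_))
      (sup_le_sup_left (commutator_mono (e5.ge.trans' le_sup_left) (e5.ge.trans' le_sup_right)) _)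
    rw [MS.im_comm (e1.trans nl) (e1.trans nl), MS.im_comm yl al, e5, MS.im_sup yl al]
    refine comm_sup_l (left_nn_comm _ _) (right_nn_comm _ _) (comm_sup_r (left_nn_comm _ _) (right_nn_comm _ _)
      ((ab_iff_der.1 ab).le.trans bot_le) le_rfl) (comm_sup_r (left_nn_comm _ _) (right_nn_comm _ _)
      (commutator_comm _ _).le ((ab_iff_der.1 (MS.im_ab (ab_of_cyc (cyc_zpowers _)) al)).le.trans bot_le))
  have z2 : JJ L ⊔ L ⊓ CC (VV L) ≤ NN (Q2 L ⊔ ⁅Y, zpowers (a : G)⁆) :=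
    sup_le (z1 ▸ nn_sup (nn_O (nn_of_le jl)) (nn_comm (le_sup_left.trans ne) (le_sup_left.trans ne)))
      (h.C_nn_of le_sup_left (sup_le le_sup_right (comm_le y1 az)))
  have z3 : (Q2 L).relIndex (Q2 L ⊔ ⁅Y, zpowers (a : G)⁆) = 3 := by
    rw [relIndex_sup_l (nn_O (nn_of_le (comm_le yl al))), ← q.card_im (comm_le yl al), MS.im_comm yl al, c3]
  have z4 : IM (VV L) (Q2 L ⊔ ⁅Y, zpowers (a : G)⁆) = ⁅O {2}ᶜ (IM (VV L) (JJ L)), B⁆ := by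
    rw [sup_comm, IM_sup_cc (comm_le (yl.trans nv) (al.trans nv)) (Q_cc_V L),
      IM_comm (yl.trans nv) (al.trans nv), y2, a3, R_comm ff hB]
  have z5 : Q2 L ⊔ ⁅Y, zpowers (a : G)⁆ ≤ JJ L ⊔ Q2 L := sup_le le_sup_right (comm_le y1 az)
  have z0 : Q2 L ≤ Q2 L ⊔ ⁅Y, zpowers (a : G)⁆ := le_sup_left
  generalize Q2 L ⊔ ⁅Y, zpowers (a : G)⁆ = Z at z0 z2 z3 z4 z5
  have s : IsSyl 2 (Q2 L) Z := ⟨z0, O_pg _, by rw [z3]; decide⟩
  have kj : res 2 Z ≤ JJ L := (res_mono z5).trans (res_sup_le (nn_J (nn_of_le ql)) (O_pg _))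
  have k1 : IM (VV L) (res 2 Z) = ⁅O {2}ᶜ (IM (VV L) (JJ L)), B⁆ := by
    rw [← z4, ← IM_sup_cc ((kj.trans jl).trans nv) (Q_cc_V L), s.res_sup]
  have k2 : (Q2 L).relIndex (res 2 Z) = 3 := by
    rw [← relIndex_sup_l (nn_O (nn_of_le (kj.trans jl))), sup_comm, s.res_sup, z3]
  have k3 : Q2 (res 2 Z) = Q2 L ⊓ res 2 Z := le_antisymm (le_inf ((O_le_O (res_le Z) (nn_res (le_nn Z))).trans
    (O_le_syl s)) (O_le _ _)) (O_inf_le (kj.trans jl))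
  have c : C3 (res 2 Z) := ⟨res_res Z, by rw [k3, inf_relIndex_right, k2]⟩
  refine ⟨_, ⟨c, kj, nn_res z2, le_antisymm (comm_le_left (le_sup_left.trans (nn_res z2)))
    (c.le_of (left_nn_comm _ _) fun e => ff.R_ne_bot hB ?_), B, hB, k1⟩, k1⟩
  rw [inf_eq_right.2 (comm_le_left (le_sup_left.trans (nn_res z2))), k3] at e
  have := (IM_eq_bot (comm_le ((kj.trans jl).trans nv) (jl.trans nv))).2 (e.trans (inf_le_left.trans (Q_cc_V L)))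
  rw [IM_comm ((kj.trans jl).trans nv) (jl.trans nv), k1] at this
  exact eq_bot_iff.2 ((R_comm ff hB).ge.trans ((commutator_mono le_rfl hB.le).trans this.le))
end LT

end Cfsg.Agent.NG
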