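/-
J-components are the components of the overgroups.
-/
import Cfsg.Agent.Lib.NG.JC2

set_option autoImplicit false
set_option linter.unusedSectionVars false
set_option linter.unusedVariables false
set_option linter.style.haveILetI false
set_option linter.unusedSimpArgs false

namespace Cfsg.Agent.NG

open Subgroup Cfsg.Agent.Transfer Cfsg.Agent.MS
open scoped commutatorElement

universe u
variable {G : Type u} [Group G] [Finite G]
variable {A B C D H K K' L M N P Q R S T U V W X Y Z : Subgroup G} {g t x y z : G}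

namespace Cmp
variable (c : Cmp L K)
include c

theorem leL : K ≤ L := c.le.trans (J_le L)
theorem nv : K ≤ NN (VV L) := c.leL.trans (nn_V L)
theorem subn : Comp.SubnIn K L := (Comp.SubnIn.of_normalizer (c.le.trans le_sup_left) c.nn).trans
  (.of_normalizer (sup_le (J_le L) inf_le_left) (nn_JC L))
theorem Q_le : Q2 K ≤ Q2 L := (O_le_O (c.le.trans le_sup_left) c.nn).trans
  (O_le_O (sup_le (J_le L) inf_le_left) (nn_JC L))
theorem Q_nn : Q2 L ≤ NN K := (le_inf (O_le _ _) (Q_cc_V L)).trans (le_sup_right.trans c.nn)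
theorem comm_Q : ⁅Q2 L, K⁆ ≤ Q2 K := c.le_Q (comm_le_right c.Q_nn)
  ((O_pg L).to_le (comm_le_left (nn_O (nn_of_le c.leL))))
theorem not_cc (h : LT T L) : ¬ K ≤ CC (VV L) := fun e => c.not_pg ((O_pg L).to_le
  (c.comm.ge.trans ((commutator_mono (le_inf c.leL e) le_sup_left).trans h.comm_CJ)))
theorem card_VK (h : LT T L) : #(⁅VV L, K⁆ : Subgroup G) = 4 := by
  obtain ⟨B, b1, b2⟩ := c.tv
  rw [← card_vm (comm_le_left c.nv), vm_comm le_rfl c.nv, b2, h.tf.ffpJ.W_eq b1, h.tf.ffpJ.card_W b1]; rfl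
theorem VK_le : ⁅VV L, K⁆ ≤ WK K := by
  have h1 : ⁅VV L, K⁆ ≤ VV L := comm_le_left c.nv
  rw [← comm_comm_res c.res (elem_isPGroup (OZ_elem _)) c.nv]
  exact commutator_mono (le_OZ (c.le_Q (comm_le_right ((OZ_le _).trans c.Q_nn))
    ((elem_isPGroup (OZ_elem _)).to_le h1)) (h1.trans ((OZ_cc _).trans (cc_anti c.Q_le)))
    (elem_mono (OZ_elem _) h1)) le_rfl
theorem cj (hg : g ∈ L) : Cmp L (cj g K) := by
  obtain ⟨B, b1, b2⟩ := c.tv
  have jv := (J_le (n := 2) L).trans (nn_V L)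
  have e1 : Transfer.cj g (JJ L) = JJ L := cj_nn (nn_J (le_nn L) hg)
  have e2 : Transfer.cj (rho _ ⟨g, nn_V L hg⟩) (IM (VV L) (JJ L)) = IM (VV L) (JJ L) := by
    rw [← IM_cj _ jv, e1]
  refine ⟨c.toC3.cj g, e1 ▸ cj_mono g c.le, nn_cj_of c.nn (nn_JC L hg),
    by rw [← e1, ← cj_commutator, c.comm], Transfer.cj (rho _ ⟨g, nn_V L hg⟩) B,
    ⟨e2 ▸ cj_mono _ b1.le, by rw [card_cj, b1.card], ?_⟩, ?_⟩
  · rw [← cj_nn ((rho_mem_nn (a := ⟨g, nn_V L hg⟩) le_rfl).2 (nn_V L hg)), ← cj_commutator, card_cj, b1.comm]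
  · rw [IM_cj (nn_V L hg) c.nv, b2, cj_commutator, cj_O, e2]
theorem le_of (h : LT T L) (h0 : K' ≤ L) (h1 : IM (VV L) K' ≤ IM (VV L) K) (h2 : Transfer.res 2 K' = K')
    (h3 : K' ≤ ⁅K', JJ L⁆) : K' ≤ K := by
  have h4 : K' ≤ K ⊔ L ⊓ CC (VV L) := le_of_im_le (h0.trans (nn_V L)) h0 (sup_le c.leL inf_le_left) le_sup_right
    (h1.trans (Transfer.im_mono le_sup_left))
  have h5 : K' ≤ K ⊔ Q2 L := h3.trans ((commutator_mono h4 le_rfl).trans (comm_sup_l (nn_of_le le_sup_left)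
    (nn_sup (le_sup_right.trans c.nn) (nn_O (nn_of_le inf_le_left))) (c.comm.le.trans le_sup_left)
    (((commutator_mono le_rfl le_sup_left).trans h.comm_CJ).trans le_sup_right)))
  exact h2.ge.trans ((res_mono h5).trans (res_sup_le c.Q_nn (O_pg L)))
theorem dich (h : LT T L) (c' : Cmp L K') : K = K' ∨ ⁅VV L, K⁆ ≤ CC K' := by
  obtain ⟨B, b1, b2⟩ := c.tv
  obtain ⟨B', b3, b4⟩ := c'.tv
  have ff := h.tf.ffpJ
  by_cases e : EA 2 (IM (VV L) (JJ L)) B' = EA 2 (IM (VV L) (JJ L)) B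
  · have : IM (VV L) K = IM (VV L) K' := by rw [b2, b4, R_eq ff b1, R_eq ff b3, e]
    exact .inl (le_antisymm (c'.le_of h c.leL this.le c.res c.comm.ge) (c.le_of h c'.leL this.ge c'.res c'.comm.ge))
  · refine .inr (cc_of_vm (comm_le_left c.nv) c'.nv ?_)
    rw [vm_comm le_rfl c.nv, b2, b4, ff.W_eq b1]
    exact (ff.dichot b1 b3 e).1.trans (cc_anti le_sup_left)
theorem not_J (h : LT T L) : ¬ ⁅K, JJ T⁆ ≤ Q2 L := fun e => by
  have n : L ⊓ NN (JJ T) ≤ NN (JJ T) := inf_le_right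
  have jl := J_le (n := 2) L
  have h1 : JJ T ≤ cm (JJ L) K (Q2 L) := le_cm h.J_le (nn_O (nn_of_le (h.J_le.trans jl))) e
  have h2 : JJ L ≤ NN (cm (JJ L) K (Q2 L)) := nn_cm (le_nn _) (le_sup_left.trans c.nn) (nn_O (nn_of_le jl))
  have h3 : JJ L ≤ cm (JJ L) K (Q2 L) := J_le_iff.2 fun A hA => by
    obtain ⟨g, g1, g2⟩ := h.syl.exists_cj_le (elem_isPGroup hA.elem) hA.le
    have a1 : Transfer.cj g A ≤ JJ T := ((cj_eq_of_mem g1 ▸ hA.cj g).mono g2 h.syl.le).le_J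
    obtain ⟨k, k1, m, m1, e⟩ := (mem_sup_l (nn_J (nn_of_le inf_le_left))).1 (h.fratt.ge (inv_mem g1))
    refine (cj_le_iff_le_cj_inv.1 a1).trans ?_
    rw [e, ← cj_cj, cj_nn m1.2]
    exact cj_le h1 (h2 k1)
  exact c.not_pg ((O_pg L).to_le (c.comm.ge.trans ((commutator_mono le_rfl h3).trans (comm_cm _ _ _))))
theorem comm_T (h : LT T L) : ⁅K, JJ T⁆ = K :=
  have := comm_le_left (h.J_le.trans (le_sup_left.trans c.nn))
  le_antisymm this (c.toC3.le_of (left_nn_comm _ _) fun e => c.not_J h ((le_inf this le_rfl).trans (e.trans c.Q_le)))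

theorem exists_A (h : LT T L) : ∃ A, MaxE 2 T A ∧ Ix2 A (A ⊓ Q2 L) ∧ ¬ ⁅K, A⁆ ≤ Q2 L := by
  have nv := nn_V L
  have ff := h.tf.ffpJ
  obtain ⟨A, a1, B, b1, b2, b3⟩ : ∃ A, MaxE 2 T A ∧ ∃ B ≤ IM (VV L) A,
      Tv 2 (vm (VV L) (VV L)) (IM (VV L) (JJ L)) B ∧ ¬ B ≤ CC (IM (VV L) K) := by
    by_contra! hn
    have := comm_eq_bot'.2 (h.genJ fun A hA => h.genA hA (hn A hA))
    have jv := h.J_le.trans ((J_le L).trans nv)
    rw [← IM_comm c.nv jv, IM_eq_bot (comm_le c.nv jv), c.comm_T h] at this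
    exact c.not_cc h this
  obtain ⟨A₁, c1, c2, c3⟩ := exists_im b1
  have av := (a1.le.trans h.syl.le).trans nv
  have a1v := c1.trans av
  have c4 : A₁ ⊓ CC (VV L) = A ⊓ CC (VV L) := le_antisymm (inf_le_inf_right _ c1) (le_inf (fun x hx =>
    c3 ⟨x, av hx.1⟩ hx.1 (by rw [(rho_eq_one (a := ⟨x, av hx.1⟩)).2 hx.2]; exact one_mem _)) inf_le_right)
  have c5 := Transfer.card_im a1v
  have c6 := ff.idx b2
  rw [← c2, vm_inf_cc a1v, card_vm inf_le_left, card_vm le_rfl] at c6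
  rw [c2, b2.card, c4] at c5
  have vt : VV L ≤ T := (OZ_le _).trans h.Q_le
  have c7 := card_sup_mul_card_inf (nn_of_cc (cc_symm (inf_le_right : VV L ⊓ CC A₁ ≤ _)))
  have c8 := card_sup_mul_card_inf (nn_of_cc (inf_le_right : A ⊓ CC (VV L) ≤ _))
  have c9 : A₁ ⊓ (VV L ⊓ CC A₁) = A ⊓ CC (VV L) ⊓ VV L := by
    have := ab_cc (OZ_elem (Q2 L)).1
    have := (ab_cc a1.elem.1).trans (cc_anti c1)
    rw [← c4]; order
  have m := h.maxE_sup a1
  rw [← h.inf_C a1.le] at m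
  have l : A₁ ⊔ VV L ⊓ CC A₁ ≤ T := sup_le (c1.trans a1.le) (inf_le_left.trans vt)
  have m2 : MaxE 2 T (A₁ ⊔ VV L ⊓ CC A₁) := by
    refine m.of_card_le l (elem_sup (elem_mono a1.elem c1) (elem_mono (OZ_elem _) inf_le_left)
      (cc_symm inf_le_right)) (Nat.eq_of_mul_eq_mul_right (card_pos' (A ⊓ CC (VV L) ⊓ VV L)) ?_).le
    rw [c8, ← c9, c7, ← c5, ← c6]; ring
  have e : IM (VV L) (A₁ ⊔ VV L ⊓ CC A₁) = B := by
    rw [IM_sup_cc a1v (inf_le_left.trans (ab_cc (OZ_elem _).1)), c2]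
  have lv := (l.trans h.syl.le).trans nv
  refine ⟨_, m2, ix2_of_card inf_le_left ?_, fun k => b3 (comm_eq_bot'.1 ?_)⟩
  · rw [← Transfer.card_im lv, e, b2.card, h.inf_C l]
  · rw [← e, ← IM_comm c.nv lv]
    exact (IM_eq_bot (comm_le c.nv lv)).2 (k.trans (Q_cc_V L))

theorem card_W (h : LT T L) : #(WK K : Subgroup G) = 4 := by
  obtain ⟨A, a1, a2, a3⟩ := c.exists_A h
  have a0 := h.maxE_sup a1
  have w4 := c.card_VK h
  have wu := c.VK_le
  have wv : ⁅VV L, K⁆ ≤ VV L := comm_le_left c.nv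
  have ak : A ≤ NN K := a1.le_J.trans (h.J_le.trans (le_sup_left.trans c.nn))
  have aw : A ≤ NN ⁅VV L, K⁆ := nn_comm ((a1.le.trans h.syl.le).trans (nn_V L)) ak
  have kw : K ≤ NN ⁅VV L, K⁆ := right_nn_comm _ _
  have au := nn_W ak
  have ku := nn_W (le_nn K)
  have uq : WK K ≤ Q2 L := (W_le_Q K).trans c.Q_le
  have ue := W_elem K
  have ui := c.W_inf
  have uc : WK K ≤ CC (Q2 K) := (W_le_OZ K).trans (OZ_cc _)
  have av : ⁅VV L, A⁆ ≤ VV L := comm_le_left ((a1.le.trans h.syl.le).trans (nn_V L))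
  have vq : VV L ≤ Q2 L := OZ_le _
  have vc : VV L ≤ CC (Q2 L) := OZ_cc _
  generalize ⁅VV L, K⁆ = W at *
  generalize WK K = U at *
  generalize VV L = V at *
  have ut := uq.trans h.Q_le
  have inv : ∀ X ≤ Q2 L, K ≤ NN (U ⊓ CC X) := fun X hX => by
    rw [← inf_eq_left.2 uc, inf_assoc, inf_comm (CC _), ← cc_sup]
    exact nn_inf ku (nn_cc (nn_of_comm_le' (((commutator_mono (sup_le hX c.Q_le) le_rfl).trans c.comm_Q).trans
      le_sup_right)))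
  have i0 : Ix2 (A ⊓ Q2 L ⊔ V) (A ⊓ Q2 L) := ix2_of_card le_sup_left
    ((le_antisymm (a1.max _ a0.le a0.elem) (a0.max _ a1.le a1.elem)).trans a2.card)
  have q0 : A ⊓ Q2 L ⊔ V ≤ Q2 L := sup_le inf_le_right vq
  have y0 : U ⊓ CC (A ⊓ Q2 L) ≤ A ⊓ Q2 L ⊔ V := a0.le_of_centralizer (inf_le_left.trans ut)
    (le_cc_sup inf_le_right (inf_le_left.trans (uq.trans (cc_symm vc)))) (elem_mono ue inf_le_left).2
  have wy : W ≤ U ⊓ CC (A ⊓ Q2 L) := le_inf wu (wv.trans (vc.trans (cc_anti inf_le_right)))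
  have ky := inv _ (inf_le_right : A ⊓ Q2 L ≤ _)
  have ya : U ⊓ CC A ≤ U ⊓ CC (A ⊓ Q2 L) ⊓ (A ⊓ Q2 L) := le_inf (inf_le_inf_left _ (cc_anti inf_le_left))
    (le_inf (a1.le_of_centralizer (inf_le_left.trans ut) inf_le_right (elem_mono ue inf_le_left).2)
    (inf_le_left.trans uq))
  have yu : U ⊓ CC (A ⊓ Q2 L) ≤ U := inf_le_left
  have yy : U ⊓ (A ⊓ Q2 L ⊔ V) ≤ U ⊓ CC (A ⊓ Q2 L) :=
    inf_le_inf_left _ ((ab_cc a0.elem.1).trans (cc_anti le_sup_left))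
  generalize U ⊓ CC (A ⊓ Q2 L) = Y at *
  have y1 : #Y ≤ 2 * #(Y ⊓ (A ⊓ Q2 L) : Subgroup G) := by
    by_cases e : Y ≤ A ⊓ Q2 L
    · rw [inf_eq_left.2 e]; omega
    · exact (i0.inf' y0 e).card.le
  have y2 : #(Y ⊓ (A ⊓ Q2 L) : Subgroup G) ≤ 2 := by
    obtain ⟨k, k1, a, k2, k3⟩ : ∃ k ∈ K, ∃ a ∈ A, ⁅k, a⁆ ∉ Q2 K := by
      by_contra! hn; exact a3 ((commutator_le.2 hn).trans c.Q_le)
    have k4 : Y ⊓ (A ⊓ Q2 L) ≤ CC A := (inf_le_right.trans inf_le_left).trans (ab_cc a1.elem.1)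
    have k5 := eq_bot_of_le ui ((inf_le_left.trans inf_le_left).trans yu) (?_ : Y ⊓ (A ⊓ Q2 L) ⊓
      Transfer.cj k (Y ⊓ (A ⊓ Q2 L)) ≤ _)
    · have := card_mul_le_inf (A := Y ⊓ (A ⊓ Q2 L)) inf_le_left (cj_le inf_le_left (ky k1))
        (ab_nn ue.1 (inf_le_left.trans yu)
        ((cj_le (inf_le_left : Y ⊓ (A ⊓ Q2 L) ≤ _) (ky k1)).trans yu))
      rw [k5, card_bot, card_cj] at this
      have := card_pos' (Y ⊓ (A ⊓ Q2 L))
      nlinarith
    rw [← c.sup_eq (zpowers_le.2 (comm_le_left ak (commutator_mem_commutator k1 k2))) (mt zpowers_le.1 k3)]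
    refine le_cc_sup (cc_symm (zpowers_le.2 (mul_mem ?_ (inv_mem ?_))))
      ((inf_le_left.trans inf_le_left).trans (yu.trans uc))
    · exact cc_symm (inf_le_right.trans (cc_cj k4 k)) (conj_mem_cj k2)
    · exact cc_symm (inf_le_left.trans k4) k2
  have y3 : W = Y := eq_of_card_le wy (by omega)
  subst y3
  by_contra hne
  have lt : W < U := lt_of_le_of_ne wu fun e => hne (e ▸ w4)
  have pp := h.syl.pgroup.to_le (sup_le ut a1.le)
  have nw : U ⊔ A ≤ NN W := sup_le (ab_nn ue.1 le_rfl wu) aw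
  obtain ⟨X, -, ⟨x1, x2, x3⟩, x4⟩ := Comp.exists_minimal_subgroup
    (P := fun X => W < X ∧ X ≤ U ∧ U ⊔ A ≤ NN X) ⟨lt, le_rfl, sup_le (le_nn U) au⟩
  have x5 : ⁅X, A⁆ ≤ W := by
    refine (commutator_mono le_rfl (le_sup_right : A ≤ U ⊔ A)).trans (by_contra fun e => x1.not_ge ?_)
    have l : W ⊔ ⁅X, U ⊔ A⁆ ≤ X := sup_le x1.le (comm_le_left x3)
    exact le_of_le_sup_commutator pp (x2.trans le_sup_left) (wu.trans le_sup_left) nw (x4 _
      ⟨left_lt_sup.2 e, l.trans x2, nn_sup nw (right_nn_comm _ _)⟩ l).ge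
  obtain ⟨u, u1, u2⟩ := SetLike.exists_of_lt x1
  have u3 : zpowers u ≤ X := zpowers_le.2 u1
  have u4 : zpowers u ≤ CC V := (u3.trans x2).trans (uq.trans (cc_symm vc))
  have u5 : ⁅zpowers u, A⁆ ≤ W := (commutator_mono u3 le_rfl).trans x5
  have wc : W ≤ CC (A ⊓ Q2 L ⊔ V) := wv.trans (vc.trans (cc_anti q0))
  have u6 : ⁅A ⊓ Q2 L ⊔ V, zpowers u⁆ ≤ W := comm_sup_l (inf_le_left.trans aw) (nn_of_cc ((cc_symm wc).trans' le_sup_right))
    ((commutator_comm _ _).le.trans ((commutator_mono le_rfl inf_le_left).trans u5))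
    ((comm_eq_bot'.2 u4).le.trans bot_le)
  have u7 : ⁅A ⊓ Q2 L ⊔ V, zpowers u⁆ ≤ CC A := by
    refine comm_eq_bot.1 (le_bot_iff.1 (three_sub nn_bot nn_bot nn_bot (comm_eq_bot.2 (u5.trans wc)).le
      (comm_eq_bot.2 (le_trans ?_ (cc_symm u4))).le))
    exact comm_sup_r (nn_of_cc (inf_le_right.trans (cc_symm vc))) (le_nn V)
      ((comm_eq_bot'.2 (inf_le_left.trans (ab_cc a1.elem.1))).le.trans bot_le) ((commutator_comm _ _).le.trans av)
  have u8 := card_commutator_zpowers a0.elem.1 (nn_of_comm_le' (u6.trans (wv.trans le_sup_right)) (mem_zpowers u))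
  have u9 := (card_le_of_le ((le_inf (u6.trans wu) u7).trans ya)).trans y2
  have x0 : (A ⊓ Q2 L ⊔ V) ⊓ CC (zpowers u) ≤ A ⊓ Q2 L ⊔ V := inf_le_left
  have x6 : (A ⊓ Q2 L ⊔ V) ⊓ CC (zpowers u) ≤ CC (zpowers u) := inf_le_right
  generalize (A ⊓ Q2 L ⊔ V) ⊓ CC (zpowers u) = X₀ at *
  have n1 := inv X₀ (x0.trans q0)
  have n2 : W < U ⊓ CC X₀ := lt_of_le_of_ne (le_inf wu (wc.trans (cc_anti x0))) fun e =>
    u2 (e.ge ⟨x2 u1, cc_symm x6 (mem_zpowers u)⟩)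
  have n3 : 16 ≤ #(U ⊓ CC X₀ : Subgroup G) := by
    have pg := (elem_isPGroup ue).to_le (inf_le_left : U ⊓ CC X₀ ≤ U)
    obtain ⟨k, hk⟩ := pg.exists_card_eq
    have := card_lt_of_lt n2
    have : #(U ⊓ CC X₀ : Subgroup G) ≠ 8 := fun e => n2.not_ge ((c.comm_eq pg n1 (cc_symm (inf_le_left.trans uc))
      (inf_bot_mono ui inf_le_left le_rfl)).ge.trans ((ix2_of_card n2.le (by omega)).comm_le n1 kw))
    rw [hk] at *
    rcases k with _ | _ | _ | _ | k <;> omega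
  have n4 := a0.max _ (sup_le (x0.trans a0.le) (inf_le_left.trans ut)) (elem_sup (elem_mono a0.elem x0)
    (elem_mono ue inf_le_left) (cc_symm (inf_le_right : U ⊓ CC X₀ ≤ _)))
  have n5 := card_sup_mul_card_inf (nn_of_cc (cc_symm (inf_le_right : U ⊓ CC X₀ ≤ _)))
  have n6 := card_le_of_le ((le_inf (inf_le_right.trans inf_le_left) (inf_le_left.trans x0)).trans yy :
    X₀ ⊓ (U ⊓ CC X₀) ≤ W)
  have := card_pos' X₀
  nlinarith

theorem W_eq (h : LT T L) : ⁅VV L, K⁆ = WK K := eq_of_card_le c.VK_le (by rw [c.card_W h, c.card_VK h])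
theorem jc (h : LT T L) : JC T K := ⟨c.toC3, J_pg h.syl.pgroup, c.comm_T h, fun S s1 s2 =>
  h.J_eq (s1.le.trans (sup_le c.leL (h.J_le.trans (J_le L)))) s1.pgroup s2, c.card_W h⟩
theorem W_le_V (h : LT T L) : WK K ≤ VV L := c.W_eq h ▸ comm_le_left c.nv
theorem dich' (h : LT T L) (c' : Cmp L K') : K = K' ∨ WK K ≤ CC K' := c.W_eq h ▸ c.dich h c'
theorem nn_of (h : LT T L) (hg : g ∈ L) (h1 : WK K ⊓ Transfer.cj g (WK K) ≠ ⊥) : g ∈ NN K := by
  rcases (c.cj hg).dich' h c with e | e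
  · exact mem_normalizer_iff_cj.2 e
  · exact absurd (inf_bot_mono c.W_inf le_rfl ((cj_W g K).le.trans e)) h1
end Cmp

namespace LT
variable (h : LT T L)
include h

theorem sylJ : IsSyl 2 (IM (VV L) (T ⊓ JJ L)) (IM (VV L) (JJ L)) :=
  im_syl (f := rho (VV L)) (h.syl.inf_of_le_normalizer (Transfer.J_le L) (nn_J (le_nn L)))
    ((Transfer.J_le L).trans (nn_V L))

theorem gen (h1 : L ⊓ NN (JJ T) ≤ U) (h2 : ∀ K, Cmp L K → K ≤ U) : L ≤ U := by
  have nv := nn_V L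
  refine h.fratt.ge.trans (sup_le ((le_of_im_le ((Transfer.J_le L).trans nv) (Transfer.J_le L) inf_le_left
    (le_inf inf_le_left ((le_inf inf_le_left h.C_nn_J).trans h1)) (ffp_gen h.tf.ffpJ h.tf.gen h.sylJ
    (Transfer.im_mono (inf_le_left.trans (le_inf h.syl.le ((le_inf h.syl.le (nn_J (le_nn T))).trans h1))))
    fun A hA => ?_)).trans (inf_le_right : L ⊓ U ≤ U)) h1)
  obtain ⟨K, c, e⟩ := h.exists_cmp hA
  exact e ▸ Transfer.im_mono (le_inf c.leL (h2 K c))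

theorem not_nn : ¬ L ≤ NN (JJ T) := fun e => h.nj (le_Q2 (h.J_le.trans (Transfer.J_le L)) e (J_pg h.syl.pgroup))
theorem exists_cmp' : ∃ K, Cmp L K := by
  by_contra! hn
  exact h.not_nn (h.gen inf_le_right fun K c => absurd c (hn K))

theorem cmp (j : JC T K) (hK : K ≤ L) : Cmp L K := by
  have nv := nn_V L
  have ff := h.tf.ffpJ
  have kv := hK.trans nv
  have jl := Transfer.J_le (n := 2) L
  have jv := h.J_le.trans (jl.trans nv)
  have k1 : K ≤ JJ L := j.le_comm.trans ((commutator_mono h.J_le le_rfl).trans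
    (comm_le_left (nn_J (nn_of_le hK))))
  have k2 : IM (VV L) K ≤ O {2}ᶜ (IM (VV L) (JJ L)) := by
    have := (res_mono (ffp_gen ff h.tf.gen h.sylJ le_sup_right fun A hA => (ff.R_le hA).trans le_sup_left)).trans
      (res_sup_le (nn_O (nn_of_le h.sylJ.le)) h.sylJ.pgroup)
    refine (le_pre_iff (f := rho (VV L)) kv).1 (j.res.ge.trans (res_le_iff.2 fun g hg ho => mem_pre.2
      ⟨kv hg, this (mem_res (rho_mem_im (k1 hg)) (ho.coprime_dvd_left ?_))⟩))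
    exact (orderOf_map_dvd _ _).trans (orderOf_coe _).symm.dvd
  have k3 : Q2 K ≤ CC (VV L) := (IM_eq_bot ((O_le _ _).trans kv)).1 (eq_bot_of_le (pg_inf
    (im_pg (f := rho (VV L)) (O_pg (p := 2) K)) (O_pi {2}ᶜ _) (by simp)) le_rfl
    ((Transfer.im_mono (O_le _ _)).trans k2))
  have k4 : ¬ K ≤ CC (VV L) := fun e => j.not_pg ((O_pg L).to_le (j.comm.ge.trans ((commutator_mono
    (le_inf hK e) (h.J_le.trans le_sup_left)).trans h.comm_CJ)))
  have k5 : K ⊓ CC (VV L) = Q2 K := le_antisymm (by_contra fun e => k4 (j.le_of (nn_cc kv) e))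
    (le_inf (O_le _ _) k3)
  have k6 : #(IM (VV L) K) = 3 := by
    have := Transfer.card_im kv
    rw [k5, ← card_mul_relIndex (O_le {2} K), j.idx, mul_comm] at this
    exact Nat.eq_of_mul_eq_mul_left (card_pos' _) this
  obtain ⟨B, b1, b2, b3⟩ : ∃ B ≤ IM (VV L) (JJ T),
      Tv 2 (vm (VV L) (VV L)) (IM (VV L) (JJ L)) B ∧ ¬ B ≤ CC (IM (VV L) K) := by
    by_contra! hn
    have := comm_eq_bot'.2 (h.genJ fun A hA => h.genA hA fun B hB => hn B (hB.trans (Transfer.im_mono hA.le_J)))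
    rw [← IM_comm kv jv, IM_eq_bot (comm_le kv jv), j.comm] at this
    exact k4 this
  have k7 : IM (VV L) K = ⁅O {2}ᶜ (IM (VV L) (JJ L)), B⁆ := eq_of_card_le ((prime_eq_of_le
    (k6 ▸ Nat.prime_three) (comm_le_left (b1.trans (Transfer.im_nn j.nn))) (mt comm_eq_bot'.1 b3)).ge.trans
    (commutator_mono k2 le_rfl)) (by rw [k6, card_R ff b2])
  obtain ⟨K', c, e⟩ := h.exists_cmp b2
  have k8 := c.le_of h hK (k7.trans e.symm).le j.res (j.comm.ge.trans (commutator_mono le_rfl h.J_le))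
  have k9 := res_sup_le (c.Q_le.trans (j.nn_of (nn_O (nn_of_le (sup_le hK (h.J_le.trans jl))))
    (nn_J (nn_of_le h.Q_le)))) (O_pg K')
  rw [c.sup_eq k8 fun l => j.not_pg ((O_pg K').to_le l), c.res] at k9
  exact le_antisymm k8 k9 ▸ c

theorem T_nn (j : JC T K) (hK : K ≤ L) (h1 : WK K ⊓ CC T ≠ ⊥) : T ≤ NN K := fun t ht =>
  (h.cmp j hK).nn_of h (h.syl.le ht) fun e => h1 (eq_bot_of_le e inf_le_left
    ((cj_cc (cc_symm inf_le_right ht)).ge.trans (cj_mono t inf_le_left)))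
end LT

end Cfsg.Agent.NG
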