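/-
J-components: the family 𝒦₀ and the uniqueness theorem.
-/
import Cfsg.Agent.Lib.NG.JC3

set_option autoImplicit false
set_option linter.unusedSectionVars false
set_option linter.unusedVariables false
set_option linter.style.haveILetI false
set_option linter.unusedSimpArgs false

namespace Cfsg.Agent.NG

open Subgroup Cfsg.Agent.Transfer Cfsg.Agent.MS
open scoped commutatorElement

universe u
variable {G : Type u} [Group G] [Finite G]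
variable {A B C D H K K' L L' M N P Q R S T T₀ U V W X Y Z : Subgroup G} {g t x y z : G}

theorem loc_ch (zn : ZN G) (hL : IsTwoLocal L) : CC (Q2 L) ≤ Q2 L := by
  obtain ⟨R, a, b, rfl⟩ := hL; exact zn.ch R a b
theorem loc_Q (hL : IsTwoLocal L) : Q2 L ≠ ⊥ := by
  obtain ⟨R, a, b, rfl⟩ := hL
  exact fun e => b (le_bot_iff.1 ((le_Q2 (le_nn R) le_rfl a).trans e.le))
theorem loc_nn (h : IsPGroup 2 R) (h0 : R ≠ ⊥) : IsTwoLocal (NN R) := ⟨R, h, h0, rfl⟩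
theorem JC.loc (j : JC T K) : IsTwoLocal (NN (WK K)) := loc_nn (elem_isPGroup (W_elem K)) j.W_ne_bot
theorem exists_maxLoc (h : IsTwoLocal N) : ∃ L, IsMaximalTwoLocal L ∧ N ≤ L :=
  let ⟨L, a, b, c⟩ := Comp.exists_maximal_subgroup h
  ⟨L, ⟨b, c⟩, a⟩
theorem max_eq (h : IsMaximalTwoLocal L) (hR : IsPGroup 2 R) (h0 : R ≠ ⊥) (h1 : L ≤ NN R) : NN R = L :=
  h.2 _ (loc_nn hR h0) h1
theorem max_nnQ (h : IsMaximalTwoLocal L) : NN (Q2 L) = L := max_eq h (O_pg L) (loc_Q h.1) (by nrm)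
theorem max_nn (h : IsMaximalTwoLocal L) : NN L ≤ L := (nn_O le_rfl).trans (max_nnQ h).le
theorem loc_cj (h : IsTwoLocal L) (g : G) : IsTwoLocal (cj g L) := by
  obtain ⟨R, a, b, rfl⟩ := h
  exact ⟨_, IsPGroup.cj a g, mt cj_eq_bot_iff.1 b, cj_normalizer g R⟩
theorem max_cj (h : IsMaximalTwoLocal L) (g : G) : IsMaximalTwoLocal (cj g L) :=
  ⟨loc_cj h.1 g, fun N a b => cj_eq_iff_eq_cj_inv.1 ((h.2 _ (loc_cj a g⁻¹) (cj_le_iff_le_cj_inv.1 b))) |>.trans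
    (by rw [inv_inv])⟩
theorem JC.lt (j : JC T K) (zn : ZN G) (hL : IsTwoLocal L) (h1 : K ≤ L) (h2 : IsSyl 2 T₀ L)
    (h3 : JJ T₀ = JJ T) : LT T₀ L :=
  ⟨zn, h2, fun e => j.not_nn (O_pg L) (h3 ▸ e) (nn_O (nn_of_le h1)), loc_ch zn hL⟩

structure J0 (T K : Subgroup G) : Prop extends JC T K where
  zero : ∀ S, JJ T ≤ S → IsSyl 2 S (NN (WK K)) → JJ S = JJ T

theorem j0_iff (hT : IsPGroup 2 T) : K ∈ jComponentsZero T ↔ J0 T K := by
  simp only [jComponentsZero, Set.mem_setOf_eq, jc_iff hT, wOf_eq, sylTwo_iff]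
  exact ⟨fun h => ⟨h.1, h.2⟩, fun h => ⟨h.1, h.2⟩⟩

namespace J0
variable (j : J0 T K) (zn : ZN G)
include j zn

theorem lt : ∃ T₀, JJ T₀ = JJ T ∧ LT T₀ (NN (WK K)) :=
  let ⟨S, a, b⟩ := exists_isSyl_ge j.pg (nn_W j.nn)
  ⟨S, j.zero S b a, j.toJC.lt zn j.loc (nn_W (le_nn K)) a (j.zero S b a)⟩
theorem nn_eq : NN K = NN (WK K) := le_antisymm (nn_W le_rfl) fun g hg =>
  let ⟨S, a, b⟩ := j.lt zn
  (b.cmp (j.congr a) (nn_W (le_nn K))).nn_of b hg (by rw [cj_nn hg, inf_idem]; exact j.W_ne_bot)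
theorem jc_cj (h : JJ (Transfer.cj g T) ≤ NN (WK K)) : JC (Transfer.cj g T) K := by
  obtain ⟨S, a, b⟩ := j.lt zn
  obtain ⟨x, x1, x2⟩ := b.syl.exists_cj_le (cj_J g T ▸ IsPGroup.cj j.pg g) h
  rw [← cj_J, cj_cj, ← a] at x2
  have := (j.toJC.cj x⁻¹).congr (S := Transfer.cj g T) (by
    rw [← cj_J, ← cj_J, ← a, ← cj_eq_iff_eq_cj_inv, cj_cj, J_cj x2])
  rwa [cj_nn (inv_mem ((j.nn_eq zn).ge x1))] at this
end J0

theorem LT.jc_of_subn (h : LT T L) (hK : K ≤ L) (hs : Comp.SubnIn K (K ⊔ JJ T)) (j : J0 (cj g T) K) :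
    JC T K := by
  suffices JJ T ≤ NN (WK K) by simpa only [cj_inv_cj] using j.jc_cj h.zn (g := g⁻¹) (by rwa [cj_inv_cj])
  have qn := Q_nn_of_subn j.res hs
  have jp := J_pg h.syl.pgroup
  by_cases kn : K ≤ NN (JJ T)
  · exact nn_W ((le_Q2 le_sup_right (sup_le kn (le_nn _)) jp).trans qn)
  have hl : K ⊔ JJ T ≤ L := sup_le hK ((Transfer.J_le T).trans h.syl.le)
  have kh : K ≤ K ⊔ JJ T := le_sup_left
  have jh : JJ T ≤ K ⊔ JJ T := le_sup_right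
  generalize K ⊔ JJ T = H at *
  have hl1 : H ⊔ Q2 L ≤ L := sup_le hl (O_le _ _)
  obtain ⟨S, s1, s2⟩ := exists_isSyl_ge jp (jh.trans (le_sup_left : H ≤ H ⊔ Q2 L))
  have s3 := h.J_eq (s1.le.trans hl1) s1.pgroup s2
  have ql := O_le_O_of_le (π := {2}) hl1 le_sup_right
  have k1 : K ≤ H ⊔ Q2 L := kh.trans le_sup_left
  have lt : LT S (H ⊔ Q2 L) := ⟨h.zn, s1, fun e => kn (s3 ▸ J_eq_of_le e (O_le_syl s1) ▸
    nn_J (nn_O (nn_of_le k1))), (cc_anti ql).trans (h.ch.trans ql)⟩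
  have q1 : Q2 K ≤ Q2 (H ⊔ Q2 L) := (le_O_of_subn ((Comp.SubnIn.of_normalizer (O_le _ _) (by nrm)).trans hs)
    (O_pi _ _)).trans (le_sup_left.trans (le_Q2 (sup_le_sup_right (O_le _ _) _) (sup_le (nn_sup (by nrm)
      (nn_O (nn_of_le hl))) (nn_of_le le_sup_right)) (pg_sup_l (O_pg L) (O_pg H)
      (nn_O (nn_of_le ((O_le _ _).trans hl))) |>.to_le (sup_comm _ _).le)))
  have e0 : IM (VV (H ⊔ Q2 L)) (H ⊔ Q2 L) = IM (VV (H ⊔ Q2 L)) H :=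
    IM_sup_cc (le_sup_left.trans (nn_V _)) (ql.trans (Q_cc_V _))
  have hl2 : H ≤ H ⊔ Q2 L := le_sup_left
  generalize H ⊔ Q2 L = N at *
  have nv := nn_V N
  have kv := k1.trans nv
  have ve := OZ_elem (Q2 N)
  have vk : VV N ≤ NN K := (le_Q2 ((s3 ▸ lt.V_le_J).trans jh) (hl2.trans nv) (elem_isPGroup ve)).trans qn
  have k2 : ¬ K ≤ CC (VV N) := fun e => kn (s3 ▸ (le_inf k1 e).trans lt.C_nn_J)
  have w1 : ⁅VV N, K⁆ ≤ VV N := comm_le_left kv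
  have w2 : ⁅VV N, K⁆ = WK K := irr4 j.card j.W_inf (mt comm_eq_bot'.1 k2) (by
    rw [← comm_comm_res j.res (elem_isPGroup ve) kv]
    exact commutator_mono (le_OZ (j.le_Q (comm_le_right vk) ((elem_isPGroup ve).to_le w1))
      (w1.trans ((OZ_cc _).trans (cc_anti q1))) (elem_mono ve w1)) le_rfl) (right_nn_comm _ _)
  have k5 : K ⊓ CC (VV N) = Q2 K := le_antisymm (by_contra fun e => k2 (j.le_of (nn_cc kv) e))
    (le_inf (O_le _ _) (q1.trans (Q_cc_V _)))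
  have k6 : #(IM (VV N) K) = 3 := by
    have := Transfer.card_im kv
    rw [k5, ← card_mul_relIndex (O_le {2} K), j.idx, mul_comm] at this
    exact Nat.eq_of_mul_eq_mul_left (card_pos' _) this
  have k7 : IM (VV N) K ≤ O {2}ᶜ (IM (VV N) N) := le_O_of_subn (e0 ▸ (hs.comap _).map _)
    (pi_of_card k6 Nat.prime_three (by simp))
  have ff := lt.tf.ffp le_rfl (le_nn N)
  have w3 : vm (VV N) (WK K) = ⁅vm (VV N) (VV N), IM (VV N) K⁆ := by rw [← w2, vm_comm le_rfl kv]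
  rw [w2] at w1
  refine nn_of_vm w1 (s2.trans (s1.le.trans nv)) (s3 ▸ lt.genJ fun A hA => lt.genA hA fun B _ b => ?_)
  have b : Tv 2 _ (IM (VV N) N) B := ⟨b.le.trans (Transfer.im_mono (Transfer.J_le N)), b.card, b.comm⟩
  have n1 := k7.trans (ff.Q_nn_W b)
  have n2 : B ≤ NN ⁅vm (VV N) (VV N), EA 2 (IM (VV N) N) B⁆ := le_sup_right.trans (right_nn_comm _ _)
  by_cases e : IM (VV N) K ≤ CC ⁅vm (VV N) (VV N), EA 2 (IM (VV N) N) B⁆
  · rw [w3]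
    exact nn_comm (b.le.trans ff.norm) (nn_of_cc (comm_eq_bot'.1 (eq_bot_of_le (ff.EA_faith b)
      ((commutator_mono k7 le_rfl).trans le_sup_left) ((commutator_mono e le_rfl).trans (comm_le_left (nn_cc n2))))))
  obtain ⟨U, u1, u2⟩ := exists_vm (inf_le_right.trans (ff.W_le b) : vm (VV N) (WK K) ⊓ _ ≤ _)
  have u3 := irr4 j.card j.W_inf (fun l => e (comm_eq_bot'.1 (le_bot_iff.1 ?_))) (vm_le u1 (u2.le.trans inf_le_left))
    (nn_of_vm u1 kv (u2 ▸ nn_inf (w3 ▸ right_nn_comm _ _) n1))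
  · rw [u3] at u2
    rwa [eq_of_card_le (u2.le.trans inf_le_right) (by rw [ff.card_W b, card_vm w1, j.card]; rfl)]
  · refine (le_inf (w3 ▸ commutator_mono (ff.W_le b) le_rfl) (comm_le_left n1)).trans (u2.ge.trans ?_)
    rw [l, vm, bot_subgroupOf, Subgroup.map_bot]

theorem ea_eq (h : MaxE 2 T A) : maxElemAbelianOrder T = #A := by
  refine IsGreatest.csSup_eq ⟨⟨_, (maxE_iff_subgroupOf h.le).1 h,
    Nat.card_congr (subgroupOfEquivOfLe h.le).toEquiv⟩, ?_⟩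
  rintro _ ⟨B, hB, rfl⟩
  have := maxE_map_subtype.2 hB
  exact (card_map_of_injective T.subtype_injective).ge.trans (h.max _ this.le this.elem)

abbrev Str (M T : Subgroup G) : Prop := T ∈ straddlingTwoSubgroups M

structure ST (M T : Subgroup G) : Prop where
  zn : ZN G
  str : Str M T
  max : ∀ T₁, Str M T₁ → JJ T ≤ T₁ → JJ T₁ = JJ T ∧ #T₁ ≤ #T
  syl : ∃ S, IsSyl 2 S ⊤ ∧ NN (JJ S) ≤ M

theorem st_of (zn : ZN G) (hS : IsSyl 2 S ⊤) (h1 : NN (JJ S) ≤ M) (h : T ∈ maxStraddlingTwoSubgroups M) :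
    ST M T := by
  refine ⟨zn, h.1, fun T₁ a b => ?_, S, hS, h1⟩
  obtain ⟨A, hA⟩ := exists_maxE 2 T
  obtain ⟨B, hB⟩ := exists_maxE 2 T₁
  obtain ⟨c, d⟩ := h.2 T₁ a
  rw [ea_eq hA, ea_eq hB] at c d
  obtain ⟨d, e⟩ := d (le_antisymm c (hB.max A (hA.le_J.trans b) hA.elem))
  have := eq_of_card_le (J_le_iff.2 fun C hC => (hB.of_card_le (hC.le_J.trans b) hC.elem
    (c.trans (hC.max A hA.le hA.elem))).le_J) d
  exact ⟨this.symm, e (by rw [this])⟩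

theorem exists_max (h : Str M T) : ∃ T, T ∈ maxStraddlingTwoSubgroups M := by
  obtain ⟨T, h1, h2⟩ := Set.exists_max_image (straddlingTwoSubgroups M) (fun T =>
    (toLex (maxElemAbelianOrder T, toLex (#(JJ T), #T)) : ℕ ×ₗ ℕ ×ₗ ℕ)) (Set.toFinite _) ⟨T, h⟩
  refine ⟨T, h1, fun T' h3 => ?_⟩
  have := h2 T' h3
  simp only [Prod.Lex.toLex_le_toLex] at this
  omega

/-- `K J(T)` lies in the unique maximal 2-local `L`, with Sylow subgroup `T` -/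
structure UU (T K L : Subgroup G) : Prop where
  jc : JC T K
  lt : LT T L
  le : K ≤ L
  mx : IsMaximalTwoLocal L
  uq : ∀ R : Subgroup G, IsPGroup 2 R → R ≠ ⊥ → K ⊔ JJ T ≤ NN R → NN R ≤ L

theorem UU.eq (u : UU T K L) (h : IsMaximalTwoLocal L') (h1 : K ⊔ JJ T ≤ L') : L' = L :=
  (h.2 L u.mx.1 ((max_nnQ h).ge.trans (u.uq _ (O_pg _) (loc_Q h.1) (h1.trans (by nrm))))).symm

namespace ST
variable (h : ST M T)
include h

theorem pg : IsPGroup 2 T := h.str.1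
theorem ne : T ≠ ⊥ := h.str.2.1
theorem le : T ≤ M := h.str.2.2.1
theorem J_ne : JJ T ≠ ⊥ := J_ne_bot (.inl rfl) h.pg h.ne
theorem exists_syl : ∃ S, IsSyl 2 S ⊤ ∧ NN (JJ S) ≤ M ∧ T ≤ S := by
  obtain ⟨S, a, b⟩ := h.syl
  obtain ⟨g, c, d⟩ := (a.mono ((nn_J (le_nn S)).trans b) le_top).exists_cj_le h.pg h.le
  refine ⟨cj g⁻¹ S, a.cj_of_mem_normalizer (nn_top (mem_top _)), ?_, cj_le_iff_le_cj_inv.1 d⟩
  rw [← cj_J, ← cj_normalizer]; exact cj_le' b (inv_mem c)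
theorem nn_J_le : NN (JJ T) ≤ M := by_contra fun hn => by
  obtain ⟨S, a, b, c⟩ := h.exists_syl
  have d : T ≤ S ⊓ NN (JJ T) := le_inf c (nn_J (le_nn T))
  have e := eq_of_card_le d (h.max _ ⟨a.pgroup.to_le inf_le_left, fun e => h.ne (le_bot_iff.1 (d.trans e.le)),
    inf_le_left.trans ((nn_J (le_nn S)).trans b), _, loc_nn (J_pg h.pg) h.J_ne, inf_le_right, hn⟩
    ((J_le T).trans d)).2
  rcases c.eq_or_lt with rfl | c
  · exact hn b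
  · exact (lt_inf_normalizer a.pgroup c).not_ge ((inf_le_inf_left _ (nn_J le_rfl)).trans e.ge)
theorem ovg (hL : IsTwoLocal L) (h1 : ¬ L ≤ M) (h2 : IsSyl 2 T₀ L) (h3 : JJ T ≤ T₀) :
    JJ T₀ = JJ T ∧ Str M T₀ ∧ LT T₀ L := by
  have a : JJ T ≤ T₀ ⊓ M := le_inf h3 ((J_le T).trans h.le)
  have s : Str M (T₀ ⊓ M) := ⟨h2.pgroup.to_le inf_le_left, fun e => h.J_ne (le_bot_iff.1 (a.trans e.le)),
    inf_le_right, L, hL, inf_le_left.trans h2.le, h1⟩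
  have b := (h.max _ s a).1
  have c : T₀ ⊓ M = T₀ := by_contra fun e => (lt_inf_normalizer h2.pgroup (lt_of_le_of_ne inf_le_left e)).not_ge
    (inf_le_inf_left _ ((b ▸ nn_J le_rfl).trans h.nn_J_le))
  rw [c] at b s
  refine ⟨b, s, h.zn, h2, fun e => h1 (le_trans ?_ h.nn_J_le), loc_ch h.zn hL⟩
  rw [← b, ← J_eq_of_le e (O_le_syl h2)]; exact nn_J (by nrm)
theorem lt (hL : IsTwoLocal L) (h1 : ¬ L ≤ M) (h2 : T ≤ L) : LT T L := by
  obtain ⟨S, a, b⟩ := exists_isSyl_ge h.pg h2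
  obtain ⟨c, d, e⟩ := h.ovg hL h1 a ((J_le T).trans b)
  rwa [eq_of_card_le b (h.max S d ((J_le T).trans b)).2]
theorem lt' (hL : IsTwoLocal L) (h1 : ¬ L ≤ M) (h2 : JJ T ≤ L) : ∃ T₀, JJ T₀ = JJ T ∧ LT T₀ L :=
  let ⟨S, a, b⟩ := exists_isSyl_ge (J_pg h.pg) h2
  ⟨S, (h.ovg hL h1 a b).1, (h.ovg hL h1 a b).2.2⟩
theorem j0 (j : JC T K) (h1 : ¬ K ≤ M) : J0 T K :=
  ⟨j, fun S a b => (h.ovg j.loc (fun e => h1 ((nn_W (le_nn K)).trans e)) b a).1⟩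
theorem exists_out : ∃ K, JC T K ∧ ¬ K ≤ M ∧ Q2 (K ⊔ T) ≠ ⊥ := by
  obtain ⟨L, a, b, c⟩ := h.str.2.2.2
  have l := h.lt a c b
  obtain ⟨K, d, e⟩ : ∃ K, Cmp L K ∧ ¬ K ≤ M := by
    by_contra! hn; exact c (l.gen (inf_le_right.trans h.nn_J_le) hn)
  exact ⟨K, d.jc l, e, fun f => l.Q_ne_bot (le_bot_iff.1 ((O_le_O_of_le (sup_le d.leL b)
    (l.Q_le.trans le_sup_right)).trans f.le))⟩

theorem uniq (j : JC T K) (h1 : ¬ K ≤ M) (h2 : Q2 (K ⊔ T) ≠ ⊥) : ∃ L, UU T K L := by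
  let X := fun U : Subgroup G => sSup {K' | JC T K' ∧ K' ≤ U}
  have xl : ∀ {U K'}, JC T K' → K' ≤ U → K' ≤ X U := fun a b => le_sSup ⟨a, b⟩
  have xs : ∀ {U Y}, (∀ K', JC T K' → K' ≤ U → K' ≤ Y) → X U ≤ Y := fun a => sSup_le fun K' l => a K' l.1 l.2
  have ml : ∀ {U}, K ⊔ JJ T ≤ U → ¬ U ≤ M := fun a b => h1 (le_sup_left.trans (a.trans b))
  have nk : ∀ {U K₁ K₂}, IsTwoLocal U → K ⊔ JJ T ≤ U → JC T K₁ → K₁ ≤ U → JC T K₂ → K₂ ≤ U → K₁ ≤ NN K₂ :=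
    fun a b c d e f => by
      obtain ⟨S, s1, s2⟩ := h.lt' a (ml b) (le_sup_right.trans b)
      exact (s2.cmp (c.congr s1) d).le.trans (le_sup_left.trans (s2.cmp (e.congr s1) f).nn)
  have kn : K ⊔ JJ T ≤ NN (WK K) := nn_W j.nn'
  have key : ∀ U, IsMaximalTwoLocal U → K ⊔ JJ T ≤ U → U = NN (Q2 (X (NN (WK K)))) := fun U a b => by
    obtain ⟨S, s1, s2⟩ := h.lt' a.1 (ml b) (le_sup_right.trans b)
    have ku := le_sup_left.trans b
    have c : ∀ K', JC T K' → K' ≤ U → K' ≤ NN (WK K) := fun K' c d => nn_W (nk a.1 b c d j ku)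
    have d : NN (Q2 (X U)) = U := by
      refine max_eq a (O_pg _) (fun e => j.W_ne_bot (le_bot_iff.1 ((W_le_Q K).trans ((O_le_O
        (xl j ku) (xs fun K' l m => nk a.1 b l m j ku)).trans e.le)))) (nn_O fun g hg =>
        mem_normalizer_of_cj_le (cj_le_iff_le_cj_inv.2 (xs fun K' l m => cj_le_iff_le_cj_inv.1
        (xl ((((s2.cmp (l.congr s1) m).cj hg).jc s2).congr s1.symm) (cj_le' m hg)))))
    have e : X U = X (NN (WK K)) := by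
      refine le_antisymm (xs fun K' l m => xl l (c K' l m)) (xs fun K' l m => xl l ((nn_O fun g hg =>
        mem_normalizer_of_cj_le (cj_le_iff_le_cj_inv.2 (xs fun K₁ n o => cj_le_iff_le_cj_inv.1 ?_))).trans d.le))
      rw [cj_nn (nk j.loc kn l m n (c _ n o) hg)]; exact xl n o
    rw [← e, d]
  obtain ⟨L, a, b⟩ := exists_maxLoc (loc_nn (O_pg _) h2)
  have c : K ⊔ T ≤ L := le_trans (by nrm) b
  have d : K ⊔ JJ T ≤ L := (sup_le_sup_left (J_le T) K).trans c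
  refine ⟨L, j, h.lt a.1 (ml d) (le_sup_right.trans c), le_sup_left.trans c, a, fun R e f l => ?_⟩
  obtain ⟨L', a', b'⟩ := exists_maxLoc (loc_nn e f)
  exact b'.trans ((key _ a' (l.trans b')).trans (key _ a d).symm).le
end ST

end Cfsg.Agent.NG
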