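/-
J-components: pairs of uniqueness subgroups form an amalgam.
-/
import Cfsg.Agent.Lib.NG.JC4

set_option autoImplicit false
set_option linter.unusedSectionVars false
set_option linter.unusedVariables false
set_option linter.style.haveILetI false
set_option linter.unusedSimpArgs false

namespace Cfsg.Agent.NG

open Subgroup Cfsg.Agent.Transfer Cfsg.Agent.MS
open scoped commutatorElement

universe u
variable {G : Type u} [Group G] [Finite G]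
variable {A B C D H K K' L L' M N P Q R S T T' U V W X Y Z : Subgroup G} {g t x y z : G}

theorem line3 (hZ : IsElementaryAbelian 2 Z) (h4 : #Z = 4) (a1 : A ≤ Z) (b1 : B ≤ Z) (c1 : C ≤ Z) (d1 : D ≤ Z)
    (a2 : #A = 2) (b2 : #B = 2) (c2 : #C = 2) (d2 : #D = 2) (ab : A ≠ B) (ac : A ≠ C) (bc : B ≠ C) :
    D = A ∨ D = B ∨ D = C := by
  obtain ⟨a, b, -, -, -, -, -, h⟩ := exists_klein_elems (klein_of_elem hZ h4)
  have key : ∀ X ≤ Z, #X = 2 → X = zpowers a ∨ X = zpowers b ∨ X = zpowers (a * b) := fun X h1 h2 => by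
    have p : (#X).Prime := h2 ▸ Nat.prime_two
    obtain ⟨x, x1, x2⟩ := exists_ne_one (prime_ne_bot p)
    rw [← prime_eq_zpowers p x1 x2]
    rcases (h x).1 (h1 x1) with rfl | rfl | rfl | rfl
    exacts [absurd rfl x2, .inl rfl, .inr (.inl rfl), .inr (.inr rfl)]
  rcases key A a1 a2 with rfl | rfl | rfl <;> rcases key B b1 b2 with rfl | rfl | rfl <;>
    rcases key C c1 c2 with rfl | rfl | rfl <;> rcases key D d1 d2 with rfl | rfl | rfl <;> simp_all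

theorem inf_two (h1 : #A = 2) (h2 : #B = 2) (h : A ⊓ B ≠ ⊥) : A = B :=
  eq_of_card_le ((prime_le (h1 ▸ Nat.prime_two) h)) (by omega)

theorem LT.cj (h : LT T L) (g : G) : LT (cj g T) (cj g L) :=
  ⟨h.zn, h.syl.cj g, by rw [← cj_J, ← cj_O, cj_le_cj_iff]; exact h.nj,
    by rw [← cj_O, ← cj_centralizer, cj_le_cj_iff]; exact h.ch⟩
theorem LT.OZ_le (h : LT T L) (h1 : T ≤ S) : OZ S ≤ OZ T :=
  OZ_le_OZ h1 ((h.Z_le (h.Q_le.trans h1)).trans ((NG.OZ_le _).trans h.Q_le))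
theorem ZN.nn_Z (zn : ZN G) (hS : IsSyl 2 S ⊤) : NN (OZ S) ≤ NN S :=
  (nn_cc le_rfl).trans (syl_nn (hS.mono (cc_symm (OZ_cc S)) le_top) (zn.z S hS) le_rfl)

/-- the fixed points of `K J(T)` in `Ω₁Z(J(T))` -/
abbrev Yc (T K : Subgroup G) : Subgroup G := OZ (JJ T) ⊓ CC (K ⊔ JJ T)
theorem cj_Yc (g : G) (T K : Subgroup G) : cj g (Yc T K) = Yc (cj g T) (cj g K) := by
  rw [cj_inf, cj_OZ, cj_centralizer, cj_sup, cj_J]
theorem Yc_pg : IsPGroup 2 (Yc T K) := (elem_isPGroup (OZ_elem _)).to_le inf_le_left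

namespace UU
variable (u : UU T K L)
include u

theorem cj (g : G) : UU (cj g T) (cj g K) (cj g L) :=
  ⟨u.jc.cj g, u.lt.cj g, cj_mono g u.le, max_cj u.mx g, fun R a b c => le_cj_iff_cj_inv_le.2 (by
    rw [cj_normalizer]
    refine u.uq _ (IsPGroup.cj a _) (mt cj_eq_bot_iff.1 b) ?_
    rw [← cj_normalizer, ← cj_le_iff_le_cj_inv, cj_sup, cj_J]; exact c)⟩
theorem cmp : Cmp L K := u.lt.cmp u.jc u.le
theorem KJ_le : K ⊔ JJ T ≤ L := sup_le u.le ((J_le T).trans u.lt.syl.le)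
theorem eq_bot (u' : UU T' K' L') (ne : L ≠ L') (hR : IsPGroup 2 R) (h1 : K ⊔ JJ T ≤ NN R)
    (h2 : K' ⊔ JJ T' ≤ NN R) : R = ⊥ := by_contra fun e =>
  let ⟨_, a, b⟩ := exists_maxLoc (loc_nn hR e)
  ne ((u.eq a (h1.trans b)).symm.trans (u'.eq a (h2.trans b)))
theorem Y_inf (u' : UU T' K' L') (ne : L ≠ L') : Yc T K ⊓ Yc T' K' = ⊥ :=
  u.eq_bot u' ne (Yc_pg.to_le inf_le_left) (nn_of_cc (cc_symm (inf_le_left.trans inf_le_right)))
    (nn_of_cc (cc_symm (inf_le_right.trans inf_le_right)))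
theorem card_Z (u' : UU T' K' L') (ne : L ≠ L') (e : JJ T' = JJ T) :
    #(OZ (JJ T)) = 2 ∨ (#(OZ (JJ T)) = 4 ∧ #(Yc T K) = 2 ∧ #(Yc T' K') = 2) := by
  have a := u.jc.split.2.1.card
  have b := u'.jc.split.2.1.card
  have l : Yc T' K' ≤ OZ (JJ T) := e ▸ inf_le_left
  have c := card_mul_le_inf (A := Yc T K) inf_le_left l (ab_nn (OZ_elem _).1 inf_le_left l)
  rw [u.Y_inf u' ne, card_bot] at c
  rw [show #(OZ (JJ T')) = #(OZ (JJ T)) by rw [e]] at b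
  change _ = 2 * #(Yc T K) at a
  change _ = 2 * #(Yc T' K') at b
  have := card_pos' (Yc T K)
  have : #(Yc T K) ≤ 2 := by nlinarith
  omega
theorem nz (hS : IsSyl 2 S ⊤) (h1 : JJ T ≤ S) : ¬ OZ S ≤ Yc T K := fun e =>
  u.lt.zn.not_cc u.jc hS h1 (cc_symm (e.trans (inf_le_right.trans (cc_anti le_sup_left))))

theorem T_nn (u' : UU T K' L') (ne : L ≠ L') : T ≤ NN K := by
  have w2 := u.jc.split.1
  have z0 := OZ_ne_bot u.lt.syl.pgroup fun e => u.lt.nj (((J_le T).trans e.le).trans bot_le)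
  suffices ¬ ¬ OZ (JJ T) ⊓ WK K ≤ CC T from u.lt.T_nn u.jc u.le fun e => this fun l => by
    rw [eq_bot_of_le e inf_le_right l, card_bot] at w2; omega
  intro hn
  rcases u.card_Z u' ne rfl with h | ⟨h, y1, y2⟩
  · exact hn (inf_le_left.trans (cc_symm (cc_of_two h (nn_OZ (nn_J (le_nn T))))))
  obtain ⟨t, t1, t2⟩ : ∃ t ∈ T, t ∉ NN K := SetLike.not_le_iff_exists.1 fun e =>
    hn (cc_symm (cc_of_two w2 (nn_inf (nn_OZ (nn_J (le_nn T))) (nn_W e))))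
  have tl := u.lt.syl.le t1
  have ut := u.cj t
  rw [cj_eq_of_mem t1, cj_eq_of_mem tl] at ut
  have e1 : Transfer.cj t (Yc T K) = Yc T (Transfer.cj t K) := by rw [cj_Yc, cj_eq_of_mem t1]
  have e2 : OZ (JJ T) ⊓ WK K = Yc T (Transfer.cj t K) := eq_of_card_le (le_inf inf_le_left (le_cc_sup
    (inf_le_right.trans ((u.cmp.dich' u.lt ut.cmp).resolve_left fun e => t2 (mem_normalizer_iff_cj.2 e.symm)))
    (inf_le_left.trans (OZ_cc _)))) (by rw [← e1, card_cj, y1, w2])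
  have n1 : Yc T K ≠ OZ (JJ T) ⊓ WK K := fun e =>
    u.jc.not_cc_Z (e.ge.trans (inf_le_right.trans (cc_anti le_sup_left)))
  have n2 : Yc T K ≠ Yc T K' := fun e => by
    have := u.Y_inf u' ne
    rw [← e, inf_idem] at this; rw [this, card_bot] at y1; omega
  have n3 : OZ (JJ T) ⊓ WK K ≠ Yc T K' := fun e => by
    have := ut.Y_inf u' ne
    rw [← e2, ← e, inf_idem] at this; rw [this, card_bot] at w2; omega
  have z1 := OZ_le_OZ_J T
  have z2 : #(OZ T) = 2 := card_two_of_lt h z0 (lt_of_le_of_ne z1 fun e =>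
    hn (inf_le_left.trans (e.ge.trans (OZ_cc T))))
  rcases line3 (OZ_elem _) h inf_le_left inf_le_left inf_le_left z1 y1 w2 y2 z2 n1 n2 n3 with e | e | e
  · exact n1 (by rw [e2, ← e1, Yc, ← e, cj_cc (cc_symm (OZ_cc T) t1)])
  · exact hn (e.ge.trans (OZ_cc T))
  · obtain ⟨S, s1, s2⟩ := exists_isSyl_ge u.lt.syl.pgroup le_top
    exact u'.nz s1 ((J_le T).trans s2) ((u.lt.OZ_le s2).trans e.le)

theorem Z_eq (u' : UU T K' L') (ne : L ≠ L') : OZ (JJ T) = OZ T := by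
  have n := u.T_nn u' ne
  have nz := nn_OZ (nn_J (le_nn T))
  refine le_antisymm (le_OZ ((OZ_le _).trans (J_le T)) (cc_symm ?_) (OZ_elem _)) (OZ_le_OZ_J T)
  rcases u.card_Z u' ne rfl with h | ⟨h, y1, -⟩
  · exact cc_of_two h nz
  · rw [← u.jc.split']
    exact le_cc_sup (cc_of_two y1 (nn_inf nz (nn_cc (nn_sup n (nn_J (le_nn T))))))
      (cc_of_two u.jc.split.1 (nn_inf nz (nn_W n)))
theorem P_le : K ⊔ T ≤ L := sup_le u.le u.lt.syl.le
theorem Q_le : Q2 L ≤ Q2 (K ⊔ T) := O_le_O_of_le u.P_le (u.lt.Q_le.trans le_sup_right)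
theorem P_ch : CC (Q2 (K ⊔ T)) ≤ Q2 (K ⊔ T) := (cc_anti u.Q_le).trans (u.lt.ch.trans u.Q_le)
theorem s3 (u' : UU T K' L') (ne : L ≠ L') : S3 (K ⊔ T) T :=
  ⟨u.lt.syl.mono le_sup_right u.P_le, u.jc.idx6 u.lt.syl.pgroup (u.T_nn u' ne) (J_le T),
    inf_le_right.trans u.P_ch, fun e => u.jc.not_cc_Z (inf_le_left.trans
      ((u.Z_eq u' ne).le.trans (cc_symm (le_sup_left.trans e))))⟩
theorem am (u' : UU T K' L') (ne : L ≠ L') : AM (K ⊔ T) (K' ⊔ T) T :=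
  ⟨u.s3 u' ne, u'.s3 u ne.symm, fun N a b c => u.eq_bot u' ne (u.lt.syl.pgroup.to_le a)
    ((sup_le_sup_left (J_le T) K).trans b) ((sup_le_sup_left (J_le T) K').trans c)⟩
theorem L_eq (u' : UU T K' L') (ne : L ≠ L') : K ⊔ T = L := by
  have am := u.am u' ne
  have n := u.T_nn u' ne
  have q : Q2 L = Q2 (K ⊔ T) := le_antisymm u.Q_le (((ab_cc am.elem.1).trans (cc_anti u.Q_le)).trans u.lt.ch)
  have wq : WK K ≤ Q2 L := (u.cmp.W_le_V u.lt).trans (OZ_le _)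
  have qe : IsElementaryAbelian 2 (Q2 L) := q ▸ am.elem
  have q8 : #(Q2 L) ≤ 8 := by
    have := am.a.ix2.card; have := am.card_T; have := am.card_Z; rw [q]; omega
  have nq : L ≤ NN (Q2 L) := by nrm
  have w4 := u.jc.card
  have lk : L ≤ NN K := fun g hg => u.cmp.nn_of u.lt hg fun e => by
    have := card_mul_le_inf wq (cj_le wq (nq hg)) (ab_nn qe.1 wq (cj_le wq (nq hg)))
    rw [e, card_bot, card_cj, w4] at this; omega
  have c1 : Q2 L ⊓ CC K ⊓ WK K = ⊥ := eq_bot_of_le u.jc.W_inf inf_le_right (inf_le_left.trans inf_le_right)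
  have c2 := card_sup_r (ab_nn qe.1 (inf_le_left : Q2 L ⊓ CC K ≤ _) wq) c1
  have c3 := card_le_of_le (sup_le (inf_le_left : Q2 L ⊓ CC K ≤ _) wq)
  rw [w4] at c2
  have c4 : Q2 L ⊓ CC K ⊔ WK K = Q2 L := by
    obtain ⟨d, d1, d2, d3⟩ := u.jc.exists_odd
    obtain ⟨k, hk⟩ := (O_pg (p := 2) L).exists_card_eq
    refine le_antisymm (sup_le inf_le_left wq) ((cop_comm_sup (nn_O (nn_of_le ((zpowers_le.2 d1).trans u.le))) (by
      rw [hk, Nat.card_zpowers]; exact (odd_iff_coprime_two.1 d2).pow_right k) (sol_of_pg (O_pg L))).ge.trans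
      (sup_le (le_sup_right.trans' ?_) (le_sup_left.trans' (le_inf inf_le_left ?_))))
    · rw [← u.cmp.W_eq u.lt]
      exact commutator_mono (le_OZ le_rfl (ab_cc qe.1) qe) (zpowers_le.2 d1)
    · rw [← u.jc.sup_eq (zpowers_le.2 d1) (mt zpowers_le.1 d3)]
      exact le_cc_sup inf_le_right (inf_le_left.trans ((ab_cc qe.1).trans (cc_anti u.cmp.Q_le)))
  have c5 : L ≤ CC (Q2 L ⊓ CC K) := by
    by_cases e : Q2 L ⊓ CC K = ⊥
    · rw [e, cc_bot]; exact le_top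
    · exact cc_of_two ((card_two_or ((O_pg L).to_le inf_le_left) e).resolve_right (by omega)) (nn_inf nq (nn_cc lk))
  have c6 : L ⊓ CC (WK K) = Q2 L := le_antisymm ((c4 ▸ le_cc_sup (inf_le_left.trans c5) inf_le_right).trans u.lt.ch)
    (le_inf (O_le _ _) ((ab_cc qe.1).trans (cc_anti wq)))
  have c7 := Nat.le_of_dvd (by decide) (BG.relIndex_Ct_dvd_of_el_two (p := 2) ⟨W_elem K, w4⟩ (nn_W lk))
  rw [← inf_relIndex_left, c6] at c7
  refine eq_of_card_le u.P_le ?_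
  rw [← card_mul_relIndex (O_le {2} L), ← card_mul_relIndex (O_le {2} (K ⊔ T)), am.a.idx, ← q]
  exact Nat.mul_le_mul_left _ c7
theorem am' (u' : UU T K' L') (ne : L ≠ L') : AM L L' T := u.L_eq u' ne ▸ u'.L_eq u ne.symm ▸ u.am u' ne

theorem pair_of (h : ¬ NN T ≤ L) : ∃ K' L', UU T K' L' ∧ L ≠ L' := by
  obtain ⟨g, g1, g2⟩ := SetLike.not_le_iff_exists.1 h
  exact ⟨_, _, cj_nn g1 ▸ u.cj g, fun e => g2 (max_nn u.mx (mem_normalizer_iff_cj.2 e.symm))⟩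
theorem eq_syl (h : NN T ≤ L) (hS : IsPGroup 2 S) (h1 : T ≤ S) : T = S := by_contra fun e =>
  (lt_inf_normalizer hS (lt_of_le_of_ne h1 e)).ne' (u.lt.syl.eq_of_le (hS.to_le inf_le_left)
    (inf_le_right.trans h) (le_inf h1 (le_nn T)))
theorem nnJ_le (hS : IsSyl 2 T ⊤) (h : NN T ≤ L) : NN (JJ T) ≤ L := fun g hg => by_contra fun g2 => by
  have zn := u.lt.zn
  have e0 : JJ (Transfer.cj g T) = JJ T := by rw [← cj_J, cj_nn hg]
  have ne : L ≠ Transfer.cj g L := fun e => g2 (max_nn u.mx (mem_normalizer_iff_cj.2 e.symm))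
  have z1 := OZ_le_OZ_J T
  have gz : g ∈ NN (OZ (JJ T)) := nn_OZ le_rfl hg
  have n0 : Transfer.cj g (OZ T) ≠ OZ T := fun e => g2 (h (zn.nn_Z hS (mem_normalizer_iff_cj.2 e)))
  have z0 := OZ_ne_bot hS.pgroup fun e => u.lt.nj (((J_le T).trans e.le).trans bot_le)
  have lt : OZ T < OZ (JJ T) := lt_of_le_of_ne z1 fun e => n0 (by rw [e, cj_nn gz])
  rcases u.card_Z (u.cj g) ne e0 with h4 | ⟨h4, y1, -⟩
  · have := card_lt_of_lt lt
    exact z0 (card_eq_one.1 (by have := card_pos' (OZ T); omega))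
  have z2 := card_two_of_lt h4 z0 lt
  have hn : ∀ x ∈ NN (JJ T), Transfer.cj x (OZ T) ≠ Yc T K := fun x hx e =>
    u.nz (hS.cj_of_mem_normalizer (nn_top (mem_top x))) ((cj_nn hx).ge.trans (cj_mono x (J_le T)))
      (cj_OZ x T ▸ e.le)
  have z3 : Transfer.cj g (OZ T) ≤ OZ (JJ T) := cj_le z1 gz
  have z4 : #(Transfer.cj g (OZ T)) = 2 := by rw [card_cj, z2]
  obtain ⟨s, s1, s2⟩ : ∃ s ∈ T, s ∉ NN (Transfer.cj g (OZ T)) := SetLike.not_le_iff_exists.1 fun e => lt.not_ge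
    (le_OZ ((OZ_le _).trans (J_le T)) (cc_symm (by
      rw [← El.sup_lines (p := 2) ⟨le_rfl, OZ_elem _, h4⟩ z1 z3 z2 z4 n0.symm]
      exact le_cc_sup (cc_symm (OZ_cc T)) (cc_of_two z4 e))) (OZ_elem _))
  have sj := nn_J (le_nn T) s1
  rcases line3 (OZ_elem _) h4 z1 z3 inf_le_left (cj_le z3 (nn_OZ le_rfl sj)) z2 z4 y1 (by rw [card_cj, z4])
    n0.symm (by simpa using hn 1 (one_mem _)) (hn g hg) with e | e | e
  · exact n0 (by rw [cj_eq_iff_eq_cj_inv.1 e, cj_cc (inv_mem (cc_symm (OZ_cc T) s1))])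
  · exact s2 (mem_normalizer_iff_cj.2 e)
  · exact hn _ (mul_mem sj hg) (cj_cj s g _ ▸ e)
end UU

namespace AM
variable (h : AM A B T)
include h

theorem mem_or (ht : t ∈ T) (h2 : t * t = 1) : t ∈ Q2 A ∨ t ∈ Q2 B := by
  by_contra! hn
  obtain ⟨a, a1, b, b1, rfl⟩ := (mem_sup_l (h.b.ix2.le.trans h.a.ix2.nn)).1 (h.Q_sup.ge ht)
  have a2 : a ∉ Q2 B := fun e => hn.2 (mul_mem e b1)
  have b2 : b ∉ Q2 A := fun e => hn.1 (mul_mem a1 e)
  have c : b * a = a * b := by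
    rw [← inv_eq_of_mul_eq_one_right h2, mul_inv_rev, inv_eq_of_mul_eq_one_right (elem_mul_self h.elem a1),
      inv_eq_of_mul_eq_one_right (elem_mul_self h.symm.elem b1)]
  exact b2 (h.a.ch ⟨h.a.syl.le (h.b.ix2.le b1), le_C1_iff.1 (h.ix2Q.le_of a1 (fun e => a2 e.2)
    (inf_le_right.trans (le_C1_iff.2 (ab_cc h.symm.elem.1 b1))) (mem_C1.2 c.symm))⟩)
theorem le_or (hX : X ≤ T) (h2 : IsElementaryAbelian 2 X) : X ≤ Q2 A ∨ X ≤ Q2 B := by
  by_contra! hn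
  obtain ⟨a, a1, a2⟩ := SetLike.not_le_iff_exists.1 hn.1
  obtain ⟨b, b1, b2⟩ := SetLike.not_le_iff_exists.1 hn.2
  have a3 := (h.mem_or (hX a1) (elem_mul_self h2 a1)).resolve_left a2
  have b3 := (h.mem_or (hX b1) (elem_mul_self h2 b1)).resolve_right b2
  rcases h.mem_or (hX (mul_mem a1 b1)) (elem_mul_self h2 (mul_mem a1 b1)) with e | e
  exacts [a2 ((mul_mem_cancel_right b3).1 e), b2 ((mul_mem_cancel_left a3).1 e)]
theorem card_Q : #(Q2 A) = #(Q2 B) := by have := h.a.ix2.card; have := h.b.ix2.card; omega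
theorem swap (h1 : g ∈ NN T) (h2 : g ∉ NN (Q2 A)) : Transfer.cj g (Q2 A) = Q2 B :=
  eq_of_card_le ((h.le_or (cj_le h.a.ix2.le h1) (elem_cj h.elem g)).resolve_left
    fun e => h2 (mem_normalizer_of_cj_le e)) (by rw [card_cj, h.card_Q])
theorem swap' (h1 : g ∈ NN T) (h2 : g ∉ NN (Q2 A)) : Transfer.cj g (Q2 B) = Q2 A :=
  h.symm.swap h1 fun e => h.Q_not_le (cj_le_cj_iff.1 ((h.swap h1 h2).trans (cj_nn e).symm).le)
theorem le_D (hX : X ≤ T) (h0 : IsElementaryAbelian 2 X) (h1 : g ∈ NN T) (h2 : g ∉ NN (Q2 A)) (h3 : g ∈ NN X) :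
    X ≤ OZ T := by
  rw [← h.D_eq]
  rcases h.le_or hX h0 with e | e
  · exact le_inf e ((cj_nn h3).ge.trans ((cj_mono g e).trans (h.swap h1 h2).le))
  · exact le_inf ((cj_nn h3).ge.trans ((cj_mono g e).trans (h.swap' h1 h2).le)) e
end AM

theorem cc_Z_eq (h : IsMaximalTwoLocal A) (h2 : #(A ⊓ CC A : Subgroup G) = 2) : CC (A ⊓ CC A) = A :=
  le_antisymm ((cc_le_nn _).trans (max_eq h (pg_of_card h2) (prime_ne_bot (h2 ▸ Nat.prime_two))
    (nn_of_cc (cc_symm inf_le_right))).le) (cc_symm inf_le_right)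

theorem LT.not_se (u : LT T L) : ¬ IsStronglyEmbedded L := fun se => by
  obtain ⟨v, v1, v2⟩ := se_exists_invol_notMem se
  obtain ⟨s, s1, s2, s3⟩ := exists_pow_prime_eq_one (O_pg (p := 2) L) u.Q_ne_bot
  refine u.nj (J_le_iff.2 fun A hA a ha => ?_)
  by_cases e : a = 1
  · exact e ▸ one_mem _
  obtain ⟨d, d1, -, d2⟩ := se_exists_inverted_conj se v2 v1 (O_le _ _ s1) (orderOf_eq_prime s3 s2)
    (u.syl.le (hA.le ha)) (orderOf_eq_prime (hA.elem.2 a ha) e)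
  exact d2 ▸ conj_mem_of_mem_normalizer (nn_O (le_nn L) d1) s1

theorem se_of (hO : Q2 (⊤ : Subgroup G) = ⊥) (hS : IsSyl 2 S ⊤) (h1 : S ≤ M) (hM : IsTwoLocal M)
    (h : ∀ T, ¬ Str M T) : IsStronglyEmbedded M := by
  obtain ⟨S, rfl⟩ := hS.exists_sylow
  have b := loc_Q hM
  refine Comp.spe_two_iff.1 (Comp.spe_of_normalizers le_top (fun e => b (e ▸ hO)) (Comp.sylIn_top S)
    (fun e' => b (le_bot_iff.1 ((O_le_syl ((isSyl_top S).mono h1 le_top)).trans e'.le)))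
    fun Q c d => inf_le_right.trans (by_contra fun hn => ?_))
  exact h Q ⟨S.isPGroup'.to_le c, d, c.trans h1, _, ⟨Q, S.isPGroup'.to_le c, d, rfl⟩, le_normalizer, hn⟩

theorem UU.exists_pair (u : UU T K L) (hO : Q2 (⊤ : Subgroup G) = ⊥) : ∃ K' L', UU T K' L' ∧ L ≠ L' := by
  by_cases hn : NN T ≤ L
  swap
  · exact u.pair_of hn
  obtain ⟨S₀, hS, s0⟩ := exists_isSyl_ge u.lt.syl.pgroup le_top
  rw [← u.eq_syl hn hS.pgroup s0] at hS
  obtain ⟨T₁, t1⟩ : ∃ T, Str L T := by_contra fun e =>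
    u.lt.not_se (se_of hO hS u.lt.syl.le u.mx.1 fun T l => e ⟨T, l⟩)
  obtain ⟨T', t2⟩ := exists_max t1
  have st := st_of u.lt.zn hS (u.nnJ_le hS hn) t2
  obtain ⟨S, s1, s2, s3⟩ := st.exists_syl
  have sl := s1.mono ((nn_J (le_nn S)).trans s2) le_top
  obtain ⟨x, x1, x2⟩ := u.lt.syl.exists_cj_eq sl
  obtain ⟨K', k1, k2, k3⟩ := st.exists_out
  obtain ⟨L', u1⟩ := st.uniq k1 k2 k3
  rcases s3.eq_or_lt with rfl | lt
  · refine ⟨_, _, x2 ▸ u1.cj x, fun e => k2 (u1.le.trans ?_)⟩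
    rw [← cj_eq_of_mem x1, cj_inj] at e; exact e.ge
  exfalso
  have v := u.cj x⁻¹
  rw [cj_eq_of_mem (inv_mem x1), ← x2, cj_inv_cj] at v
  generalize Transfer.cj x⁻¹ K = K₁ at v
  obtain ⟨K'', L'', u2, ne⟩ := u1.pair_of fun e => lt.ne (u1.eq_syl e s1.pgroup s3)
  have am := u1.am' u2 ne
  have sL : S ⊓ L' ≤ T' := (u1.lt.syl.eq_of_le (s1.pgroup.to_le inf_le_left) inf_le_right
    (le_inf s3 u1.lt.syl.le)).le
  obtain ⟨s, s4, s5, s6⟩ := exists_mem_normalizer_notMem s1.pgroup lt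
  have sv : S ≤ NN (VV L) := sl.le.trans (nn_V L)
  have vs : VV L ≤ S := (OZ_le _).trans v.lt.Q_le
  have v1 : VV L ⊓ T' ≤ OZ T' := am.le_D inf_le_right (elem_mono (OZ_elem _) inf_le_left) s5
    (fun e => s6 (sL ⟨s4, (max_nnQ u1.mx).le e⟩)) (mem_normalizer_inf (sv s4) s5)
  have qs := u1.lt.Q_le.trans s3
  have v2 : VV L ≤ Q2 L' := by_contra fun e => by
    obtain ⟨y, y1, y2, y3⟩ := exists_mem_normalizer_notMem (s1.pgroup.to_le (sup_le qs vs)) (left_lt_sup.2 e)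
    obtain ⟨q, q1, w, w1, rfl⟩ := (mem_sup_r (qs.trans sv)).1 y1
    exact y3 (mul_mem q1 (am.ix2Z.le (v1 ⟨w1, sL ⟨vs w1, (max_nnQ u1.mx).le
      ((mul_mem_cancel_left (le_nn _ q1)).1 y2)⟩⟩)))
  have v3 : VV L ≤ OZ T' := (le_inf le_rfl (v2.trans u1.lt.Q_le)).trans v1
  have w1 := v.cmp.W_le_V v.lt
  have w4 := v.jc.card
  have z4 := am.ix2D.card
  have z2 : #(L' ⊓ CC L' : Subgroup G) = 2 := by
    have := card_le_of_le (w1.trans v3); have := am.card_Z; omega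
  have w2 : WK K₁ = OZ T' := eq_of_card_le (w1.trans v3) (by omega)
  obtain ⟨z, ⟨z1, z3⟩, z5⟩ := exists_ne_one (inf_centralizer_ne_bot s1.pgroup vs sv
    fun e => v.jc.W_ne_bot (le_bot_iff.1 (w1.trans e.le)))
  have p : (#(L' ⊓ CC L' : Subgroup G)).Prime := z2 ▸ Nat.prime_two
  obtain ⟨y, y1, y2⟩ := exists_ne_one (prime_ne_bot p)
  obtain ⟨d, d1, d2, d3⟩ := v.jc.exists_odd
  obtain ⟨c, -, c1⟩ := klein_conj_of_odd (klein_of_elem (W_elem K₁) w4) (nn_W (le_nn _) d1) d2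
    (fun e => v.jc.not_cc ((v.jc.sup_eq (zpowers_le.2 d1) (mt zpowers_le.1 d3)).ge.trans (sup_le (zpowers_le.2 e)
      (cc_symm ((W_le_OZ _).trans (OZ_cc _)))))) (w2.ge (v3 z1)) z5 (w2.ge (am.Z_le y1)) y2
  have c2 : Transfer.cj c S ≤ L' := by
    rw [← cc_Z_eq u1.mx z2, ← prime_cc p y1 y2, ← c1, ← cj_centralizer_singleton]
    exact cj_mono c (le_C1_iff.2 z3)
  have := u1.lt.syl.card_le (IsPGroup.cj s1.pgroup c) c2
  rw [card_cj] at this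
  exact (card_lt_of_lt lt).not_ge this

theorem ST.exists_pair (h : ST M T) (hO : Q2 (⊤ : Subgroup G) = ⊥) :
    ∃ K L K' L', UU T K L ∧ UU T K' L' ∧ L ≠ L' :=
  let ⟨K, a, b, c⟩ := h.exists_out
  let ⟨L, u⟩ := h.uniq a b c
  let ⟨K', L', d⟩ := u.exists_pair hO
  ⟨K, L, K', L', u, d⟩

theorem Q_top (h : pCore 2 G = ⊥) : Q2 (⊤ : Subgroup G) = ⊥ := by rw [O_top, ← Solv.pCore_eq_piCore, h]

theorem UU.idx_Z (u : UU T K L) (u' : UU T K' L') (ne : L ≠ L') (hS : IsSyl 2 S ⊤) (lt : T < S)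
    (h4 : #(OZ T) = 4) : (L ⊓ CC (OZ T)).relIndex (NN (OZ T)) = 2 := by
  have am := u.am' u' ne
  have z2 : #(L ⊓ CC L : Subgroup G) = 2 := by have := am.ix2D.card; omega
  have p : (#(L ⊓ CC L : Subgroup G)).Prime := z2 ▸ Nat.prime_two
  have c1 : CC (OZ T) ≤ L := (cc_anti am.Z_le).trans (cc_Z_eq u.mx z2).le
  have c2 : CC (OZ T) ≤ T := by_contra fun e => am.a.nz ((am.a.sup_eq c1 e).ge.trans
    (sup_le le_rfl (cc_symm (OZ_cc T))))
  obtain ⟨s, s4, s5, s6⟩ := exists_mem_normalizer_notMem hS.pgroup lt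
  rw [inf_eq_right.2 c1]
  refine (two_or_six (BG.relIndex_Ct_dvd_of_el_two (p := 2) ⟨OZ_elem T, h4⟩ le_rfl) (nn_cc le_rfl)
    (nn_OZ le_rfl s5) (fun e => s6 (c2 e)) (hS.pgroup.to_le (zpowers_le.2 s4))).resolve_right fun e => ?_
  obtain ⟨d, d1, d2, d3⟩ := exists_odd_of_relIndex (e ▸ (by decide : 3 ∣ 6))
  obtain ⟨z, z1, z5⟩ := exists_ne_one (OZ_ne_bot hS.pgroup (bot_le.trans_lt lt).ne')
  obtain ⟨y, y1, y2⟩ := exists_ne_one (prime_ne_bot p)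
  obtain ⟨c, -, c1⟩ := klein_conj_of_odd (klein_of_elem (OZ_elem T) h4) d1 d2 d3 (u.lt.OZ_le lt.le z1) z5
    (am.Z_le y1) y2
  have c2 : Transfer.cj c S ≤ L := by
    rw [← cc_Z_eq u.mx z2, ← prime_cc p y1 y2, ← c1, ← cj_centralizer_singleton]
    exact cj_mono c (le_C1_iff.2 (OZ_cc S z1))
  have := u.lt.syl.card_le (IsPGroup.cj hS.pgroup c) c2
  rw [card_cj] at this
  exact (card_lt_of_lt lt).not_ge this

end Cfsg.Agent.NG
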