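/-
The case C₂ × S₄: transfer.
-/
import Cfsg.Agent.Lib.NG.JC5

set_option autoImplicit false
set_option linter.unusedSectionVars false
set_option linter.unusedVariables false
set_option linter.style.haveILetI false
set_option linter.unusedSimpArgs false

namespace Cfsg.Agent.NG

open Subgroup Cfsg.Agent.Transfer Cfsg.Agent.MS
open scoped commutatorElement

universe u
variable {G : Type u} [Group G] [Finite G]
variable {A B C D H K K' L L' M N P Q R S T T' U V W X Y Z : Subgroup G} {g s t x y z : G}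

theorem tt (hS : IsSyl 2 S ⊤) (h : Ix2 S U) (h1 : y ∈ S) (h2 : y * y = 1) (h3 : ∀ g, g * y * g⁻¹ ∉ U) :
    y ∉ res 2 (⊤ : Subgroup G) := fun e => by
  obtain ⟨P, rfl⟩ := hS.exists_sylow
  obtain ⟨M, a, b, c⟩ := (thompson_transfer (odd_index_sylow_two P) h.idx (by rw [sq, h2]) h1).resolve_right
    fun ⟨g, l⟩ => h3 g l
  exact c (pResidual_le_of_index (n := 1) b (res_top (G := G) (p := 2) ▸ e))
theorem eq_of_two (h : #U = 2) (h1 : x ∈ U) (h2 : y ∈ U) (h3 : x ≠ 1) (h4 : y ≠ 1) : x = y := by_contra fun e => by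
  have h5 : ({1, x, y} : Set G) ⊆ U := by rintro _ (rfl | rfl | rfl); exacts [one_mem _, h1, h2]
  have h6 := Set.ncard_le_ncard h5
  rw [Set.ncard_eq_three.2 ⟨_, _, _, h3.symm, h4.symm, e, rfl⟩, ← Nat.card_coe_set_eq] at h6
  exact absurd (h6.trans_eq h) (by decide)
theorem JC.conj (j : JC T K) (h1 : x ∈ WK K) (h2 : x ≠ 1) (h3 : y ∈ WK K) (h4 : y ≠ 1) : ∃ c, c * x * c⁻¹ = y :=
  let ⟨d, d1, d2, d3⟩ := j.exists_odd
  let ⟨c, _, e⟩ := klein_conj_of_odd (klein_of_elem (W_elem K) j.card) (nn_W (le_nn _) d1) d2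
    (fun e => j.not_cc ((j.sup_eq (zpowers_le.2 d1) (mt zpowers_le.1 d3)).ge.trans (sup_le (zpowers_le.2 e)
      (cc_symm ((W_le_OZ _).trans (OZ_cc _)))))) h1 h2 h3 h4
  ⟨c, e⟩

structure PR (T K L K' L' : Subgroup G) : Prop where
  u : UU T K L
  u' : UU T K' L'
  ne : L ≠ L'

namespace PR
variable (h : PR T K L K' L')
include h

theorem symm : PR T K' L' K L := ⟨h.u', h.u, h.ne.symm⟩
theorem am : AM L L' T := h.u.am' h.u' h.ne
theorem L_eq : K ⊔ T = L := h.u.L_eq h.u' h.ne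
theorem tn : T ≤ NN K := h.u.T_nn h.u' h.ne
theorem pg : IsPGroup 2 T := h.u.lt.syl.pgroup
theorem nn_K : L ≤ NN K := h.L_eq ▸ sup_le (le_nn K) h.tn
theorem res_L : res 2 L = K := h.L_eq ▸ res_sup h.u.jc.res h.tn h.pg
theorem W_le : WK K ≤ Q2 L := (h.u.cmp.W_le_V h.u.lt).trans (OZ_le _)
theorem WT : WK K ≤ T := h.W_le.trans h.am.a.ix2.le
theorem nnW : NN (WK K) = L := max_eq h.u.mx (elem_isPGroup (W_elem K)) h.u.jc.W_ne_bot (nn_W h.nn_K)
theorem ccW : CC (WK K) = Q2 L := by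
  have := h.u.jc.cc_W h.pg h.tn
  rwa [h.L_eq, inf_eq_right.2 ((cc_le_nn _).trans h.nnW.le)] at this
theorem WZ : WK K ⊓ (L ⊓ CC L) = ⊥ := inf_bot_mono h.u.jc.W_inf le_rfl (inf_le_right.trans (cc_anti h.u.le))
theorem Q_eq : WK K ⊔ L ⊓ CC L = Q2 L := eq_of_card_le (sup_le h.W_le (h.am.Z_le.trans h.am.ix2Z.le)) (by
  rw [card_sup_l (inf_le_left.trans h.nnW.ge) h.WZ, h.u.jc.card, h.am.ix2Z.card, h.am.ix2D.card]; omega)
theorem card_WD : #(OZ T ⊓ WK K : Subgroup G) = 2 := h.u.Z_eq h.u' h.ne ▸ h.u.jc.split.1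
theorem W_not_le : ¬ WK K ≤ Q2 L' := fun e => by
  have := h.card_WD
  rw [← h.am.D_eq, inf_eq_right.2 (le_inf h.W_le e), h.u.jc.card] at this; omega
theorem T_eq : Q2 L' ⊔ WK K = T := h.am.b.ix2.sup_eq h.WT h.W_not_le
theorem der : ⁅T, T⁆ = OZ T ⊓ WK K := by
  refine prime_eq_of_le (by rw [h.card_WD]; exact Nat.prime_two) (le_inf (h.am.D_eq ▸ le_inf h.am.a.ix2.der_le
    h.am.b.ix2.der_le) ?_) fun e => h.am.a.ix2.ne (le_antisymm h.am.a.ix2.le
    ((comm_eq_bot.1 e).trans ((cc_anti h.am.a.ix2.le).trans h.u.lt.ch)))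
  have := der_sup_le (h.am.b.ix2.le.trans (nn_W h.tn))
  rwa [sup_comm (WK K), h.T_eq, ab_iff_der.1 h.am.symm.elem.1, sup_bot_eq] at this
theorem T0_le : WK K ⊔ WK K' ≤ T := sup_le h.WT h.symm.WT
theorem T0_inf : (WK K ⊔ WK K') ⊓ Q2 L = WK K := by
  rw [dedekind h.W_le (h.symm.WT.trans (nn_W h.tn)), sup_eq_left]
  exact (le_inf (h.am.D_eq ▸ le_inf inf_le_right (inf_le_left.trans h.symm.W_le)) inf_le_left).trans
    ((h.symm.der.symm.trans h.der).le.trans inf_le_right)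
theorem T_eq' : WK K ⊔ WK K' ⊔ L ⊓ CC L = T := by rw [sup_right_comm, h.Q_eq, h.symm.T_eq]

theorem sub_am (h1 : L ⊓ CC L ⊓ res 2 ⊤ = ⊥) :
    S3 (L ⊓ res 2 ⊤) (T ⊓ res 2 ⊤) ∧ Q2 (L ⊓ res 2 ⊤) = WK K ∧ L ⊓ res 2 ⊤ ⊔ L ⊓ CC L = L := by
  have kh : ∀ {T K : Subgroup G}, JC T K → K ≤ res 2 ⊤ := fun j => j.res.ge.trans (res_mono le_top)
  have n : L ≤ NN (L ⊓ res 2 ⊤) := nn_inf (le_nn L) (le_top.trans (le_normalizer_res ⊤))
  have wh := (NG.W_le K).trans (kh h.u.jc)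
  have q : Q2 (L ⊓ res 2 ⊤) = WK K := by
    rw [O_eq_inf inf_le_left n, ← inf_assoc, inf_eq_left.2 (O_le _ _), ← h.Q_eq,
      dedekind wh (inf_le_left.trans h.nnW.ge), h1, sup_bot_eq]
  have ka : K ≤ L ⊓ res 2 ⊤ := le_inf h.u.le (kh h.u.jc)
  have e : L ⊓ res 2 ⊤ ⊔ L ⊓ CC L = L := le_antisymm (sup_le inf_le_left inf_le_left) (h.L_eq.ge.trans (sup_le
    (ka.trans le_sup_left) (h.T_eq'.ge.trans (sup_le_sup_right (le_inf (h.T0_le.trans h.u.lt.syl.le)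
    (sup_le wh ((NG.W_le K').trans (kh h.u'.jc)))) _))))
  refine ⟨⟨?_, ?_, by rw [q, h.ccW, ← q]; exact (inf_comm _ _).le.trans (O_inf_le inf_le_left), fun l => ?_⟩, q, e⟩
  · simpa only [← inf_assoc, inf_eq_left.2 h.u.lt.syl.le] using h.u.lt.syl.inf_of_le_normalizer inf_le_left n
  · have a := card_sup_l (inf_le_left.trans n : L ⊓ CC L ≤ _) (eq_bot_of_le h1 inf_le_right
      (inf_le_left.trans inf_le_right))
    have b := card_mul_relIndex (O_le {2} (L ⊓ res 2 ⊤))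
    rw [e, h.am.card_A] at a
    rw [← Nat.eq_of_mul_eq_mul_right (card_pos' _) a] at b
    have c := h.u.jc.card
    rw [← q] at c; rw [c] at b; omega
  · refine h.u.jc.not_cc_Z (cc_symm (ka.trans (l.trans (cc_anti ?_))))
    rw [h.u.Z_eq h.u' h.ne]
    exact le_OZ (le_inf (inf_le_left.trans (OZ_le _)) (inf_le_right.trans wh))
      (inf_le_left.trans ((OZ_cc _).trans (cc_anti inf_le_left))) (elem_mono (OZ_elem _) inf_le_left)

theorem sub_max (h1 : L ⊓ CC L ⊓ res 2 ⊤ = ⊥) :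
    IsMaximalTwoLocal ((L ⊓ res 2 ⊤).subgroupOf (res 2 ⊤)) := by
  have kh : K ≤ res 2 ⊤ := h.u.jc.res.ge.trans (res_mono le_top)
  have wh := (NG.W_le K).trans kh
  have wp := elem_isPGroup (W_elem K)
  have q := (h.sub_am h1).2.1
  have e : (L ⊓ res 2 ⊤).subgroupOf (res 2 ⊤) = NN ((WK K).subgroupOf (res 2 ⊤)) := by
    rw [← subgroupOf_normalizer_eq wh, h.nnW, inf_subgroupOf_right]
  refine ⟨⟨_, wp.comap_subtype, fun l => h.u.jc.W_ne_bot (by
    rw [← map_subgroupOf_eq_of_le wh, subgroupOf, l, Subgroup.map_bot]), e⟩, ?_⟩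
  rintro _ ⟨R', r1, r2, rfl⟩ r3
  have a1 := r1.map (res 2 (⊤ : Subgroup G)).subtype
  have a2 : R'.map (res 2 (⊤ : Subgroup G)).subtype ≠ ⊥ := by rwa [Ne, map_eq_bot_iff_of_injective _ (subtype_injective _)]
  have a3 := map_nn (res 2 (⊤ : Subgroup G)).subtype r3
  rw [map_subgroupOf_eq_of_le inf_le_right] at a3
  have a4 := map_subtype_le R'
  suffices R'.map (res 2 (⊤ : Subgroup G)).subtype = WK K by
    rw [e, ← this, subgroupOf, comap_map_eq_self_of_injective (subtype_injective _)]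
  generalize R'.map (res 2 (⊤ : Subgroup G)).subtype = R at *
  have wa : WK K ≤ L ⊓ res 2 ⊤ := q ▸ O_le _ _
  have b1 : R ⊓ CC (WK K) = WK K := irr4 h.u.jc.card h.u.jc.W_inf (fun l => inf_centralizer_ne_bot
    (pg_sup_l a1 wp (wa.trans a3)) le_sup_left (sup_le (le_nn R) (wa.trans a3)) a2
    (inf_bot_mono l le_rfl (cc_anti le_sup_right))) (by
      rw [h.ccW]
      exact (le_inf inf_le_right (le_inf (inf_le_right.trans (O_le _ _)) (inf_le_left.trans a4))).trans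
        ((O_inf_le inf_le_left).trans q.le)) (nn_inf ((le_inf h.u.le kh).trans a3) (nn_cc (nn_W (le_nn K))))
  by_contra hne
  refine (lt_inf_normalizer a1 (lt_of_le_of_ne (b1.ge.trans inf_le_left) (Ne.symm hne))).not_ge ?_
  rw [h.nnW]
  exact (le_Q2 (le_inf inf_le_right (inf_le_left.trans a4)) (nn_inf a3 (nn_of_le inf_le_left))
    (a1.to_le inf_le_left)).trans q.le

theorem not_conj (hy : y ∈ L ⊓ CC L) (y1 : y ≠ 1) (g : G) : g * y * g⁻¹ ∉ WK K ⊔ WK K' := fun e => by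
  have z2 : #(L ⊓ CC L : Subgroup G) = 2 := h.am.card_Z.resolve_left fun l => y1 (mem_bot.1 (card_eq_one.1 l ▸ hy))
  have p : (#(L ⊓ CC L : Subgroup G)).Prime := by rw [z2]; exact Nat.prime_two
  obtain ⟨z, z1, z3⟩ := exists_ne_one (prime_ne_bot (show (#(OZ T ⊓ WK K : Subgroup G)).Prime by
    rw [h.card_WD]; exact Nat.prime_two))
  have g1 : g * y * g⁻¹ ≠ 1 := mt conj_eq_one_iff.1 y1
  obtain ⟨c, c1⟩ : ∃ c, c * (g * y * g⁻¹) * c⁻¹ = z := by
    rcases h.am.mem_or (h.T0_le e) (conj_mul_self (elem_mul_self (OZ_elem T) (h.am.Z_le hy)) g) with l | l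
    · exact h.u.jc.conj (h.T0_inf.le ⟨e, l⟩) g1 z1.2 z3
    · exact h.u'.jc.conj (h.symm.T0_inf.le ⟨sup_comm (WK K) _ ▸ e, l⟩) g1 ((h.der.symm.trans h.symm.der).le z1).2 z3
  rw [show c * (g * y * g⁻¹) * c⁻¹ = c * g * y * (c * g)⁻¹ by group] at c1
  generalize c * g = c at c1
  have c2 : Transfer.cj c L = C1 z := by
    rw [← c1, ← cj_centralizer_singleton, prime_cc p hy y1, cc_Z_eq h.u.mx z2]
  have s := h.u.lt.syl.cj c
  obtain ⟨x, x1, x2⟩ := (s.of_card_le h.pg (c2 ▸ le_C1_iff.2 (OZ_cc T z1.1)) (card_cj _ _).le).exists_cj_eq s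
  rw [cj_cj] at x2
  have n := cc_of_two (h.der ▸ h.card_WD) (nn_comm le_rfl le_rfl) (mem_normalizer_iff_cj.2 x2)
  have e1 : x * c * y * (x * c)⁻¹ = x * c * z * (x * c)⁻¹ := by
    rw [conj_eq_of_cc n (h.der.ge z1), ← conj_eq_of_C1 (c2.le x1), ← c1]; group
  rw [mul_left_inj, mul_right_inj] at e1
  exact y1 (eq_one_of_inf h.WZ (e1 ▸ z1.2) hy)

theorem inf_L (hS : IsPGroup 2 S) (h1 : T ≤ S) : S ⊓ L ≤ T :=
  (h.u.lt.syl.eq_of_le (hS.to_le inf_le_left) inf_le_right (le_inf h1 h.u.lt.syl.le)).le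
theorem ix2S (z2 : #(L ⊓ CC L : Subgroup G) = 2) (hS : IsPGroup 2 S) (lt : T < S) : Ix2 S T := by
  have out : ∀ s ∈ S, s ∉ T → s ∉ NN (Q2 L) := fun s a b c => b (h.inf_L hS lt.le ⟨a, (max_nnQ h.u.mx).le c⟩)
  obtain ⟨s, s1, s2, s3⟩ := exists_mem_normalizer_notMem hS lt
  have mul : ∀ x ∈ S ⊓ NN T, x ∉ T → x * s ∈ T := fun x a b => by_contra fun e => out _ (mul_mem a.1 s1) e
    (mem_normalizer_iff_cj.2 (by rw [← cj_cj, h.am.swap s2 (out s s1 s3), h.am.swap' a.2 (out x a.1 b)]))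
  have i := ix2_sup s2 (mul s ⟨s1, s2⟩ s3) s3
  have e : T ⊔ zpowers s = S ⊓ NN T := le_antisymm (sup_le (le_inf lt.le (le_nn T)) (zpowers_le.2 ⟨s1, s2⟩))
    fun x hx => by
      by_cases l : x ∈ T
      · exact mem_sup_left l
      · exact (mul_mem_cancel_right (mem_sup_right (mem_zpowers s))).1 (mem_sup_left (mul x hx l))
  rw [e] at i
  have q8 : #(Q2 L) = 8 := by rw [h.am.ix2Z.card, h.am.ix2D.card, z2]
  have m : ∀ A, MaxE 2 (S ⊓ NN T) A → A ≤ T := fun A hA => by_contra fun l => by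
    have i2 := i.inf' hA.le l
    obtain ⟨a, a1, a2⟩ := SetLike.not_le_iff_exists.1 l
    have b1 := h.am.le_D inf_le_right (elem_mono hA.elem inf_le_left) (hA.le a1).2 (out a (hA.le a1).1 a2)
      (mem_normalizer_inf (le_nn A a1) (hA.le a1).2)
    have b2 := hA.max _ (h.am.a.ix2.le.trans i.le) h.am.elem
    have b3 := eq_of_card_le b1 (by have := i2.card; have := h.am.ix2D.card; omega)
    exact a2 (h.inf_L hS lt.le ⟨(hA.le a1).1, (cc_Z_eq h.u.mx z2).le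
      (cc_anti (h.am.Z_le.trans (b3.ge.trans inf_le_left)) (ab_cc hA.elem.1 a1))⟩)
  have j : JJ (S ⊓ NN T) = T := by
    obtain ⟨A, hA⟩ := exists_maxE 2 (S ⊓ NN T)
    have : #A ≤ 8 := by
      rcases h.am.le_or (m A hA) hA.elem with l | l
      exacts [q8 ▸ card_le_of_le l, q8 ▸ h.am.card_Q ▸ card_le_of_le l]
    exact le_antisymm (J_le_iff.2 m) (h.am.Q_sup.ge.trans (sup_le
      (hA.of_card_le (h.am.a.ix2.le.trans i.le) h.am.elem (q8 ▸ this)).le_J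
      (hA.of_card_le (h.am.b.ix2.le.trans i.le) h.am.symm.elem (h.am.card_Q ▸ q8 ▸ this)).le_J))
  by_cases l : S ⊓ NN T = S
  · rwa [l] at i
  · exact absurd (inf_le_inf_left S ((nn_J le_rfl).trans_eq (by rw [j]))) (lt_inf_normalizer hS (lt_of_le_of_ne inf_le_left l)).not_ge

theorem Z_res : L ⊓ CC L ⊓ res 2 ⊤ = ⊥ := eq_bot_iff.2 fun y ⟨hy, yr⟩ => by_contra fun y1 => by
  have z2 : #(L ⊓ CC L : Subgroup G) = 2 := h.am.card_Z.resolve_left fun l => y1 (card_eq_one.1 l ▸ hy)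
  have p : (#(L ⊓ CC L : Subgroup G)).Prime := by rw [z2]; exact Nat.prime_two
  have yd := h.am.Z_le hy
  have y2 := elem_mul_self (OZ_elem T) yd
  have nc := h.not_conj hy y1
  have y0 : y ∉ WK K ⊔ WK K' := by simpa using nc 1
  have i0 : Ix2 T (WK K ⊔ WK K') := by
    have := ix2_sup (cc_le_nn _ (cc_anti h.T0_le (OZ_cc T yd))) (y2 ▸ one_mem _) y0
    rwa [prime_eq_zpowers p hy y1, h.T_eq'] at this
  obtain ⟨S, hS, ts⟩ := exists_isSyl_ge h.pg le_top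
  rcases ts.eq_or_lt with rfl | lt
  · exact tt hS i0 (OZ_le T yd) y2 nc yr
  have i := h.ix2S z2 hS.pgroup lt
  have out : ∀ s ∈ S, s ∉ T → s ∉ L := fun s a b c => b (h.inf_L hS.pgroup ts ⟨a, c⟩)
  have sw : ∀ s ∈ S, s ∉ T → Transfer.cj s (WK K) = WK K' ∧ Transfer.cj s (WK K') = WK K := fun s a b => by
    have c : s ∉ NN (Q2 L) := fun e => out s a b ((max_nnQ h.u.mx).le e)
    constructor
    · rw [cj_W, ← h.res_L, cj_res, ← max_nnQ h.u.mx, cj_normalizer, h.am.swap (i.nn a) c, max_nnQ h.u'.mx, h.symm.res_L]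
    · rw [cj_W, ← h.symm.res_L, cj_res, ← max_nnQ h.u'.mx, cj_normalizer, h.am.swap' (i.nn a) c, max_nnQ h.u.mx, h.res_L]
  obtain ⟨z, z1, z3⟩ := exists_ne_one (prime_ne_bot (show (#(OZ T ⊓ WK K : Subgroup G)).Prime by
    rw [h.card_WD]; exact Nat.prime_two))
  have z4 := elem_mul_self (OZ_elem T) z1.1
  have zs : ∀ s ∈ S, s * z * s⁻¹ = z := fun s a =>
    conj_eq_of_cc (cc_of_two (h.der ▸ h.card_WD) (nn_comm i.nn i.nn) a) (h.der.ge z1)
  have zc : ∀ s ∈ S, z * s = s * z := fun s a => (mul_inv_eq_iff_eq_mul.1 (zs s a)).symm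
  have iD : Ix2 (OZ T) (OZ T ⊓ WK K) := ix2_of_card inf_le_left (by rw [h.am.ix2D.card, z2, h.card_WD])
  have zz : ∀ t ∈ OZ T ⊓ WK K, t = 1 ∨ t = z := fun t a =>
    or_iff_not_imp_left.2 fun b => eq_of_two h.card_WD a z1 b z3
  have k2 : ∀ s ∈ S, s ∉ T → ∀ d ∈ OZ T, s * d * s⁻¹ = d → d ∈ WK K := fun s a b d c e => by_contra fun f =>
    out s a b ((cc_Z_eq h.u.mx z2).le (cc_anti h.am.Z_le (le_C1_iff.1 (iD.le_of c (fun l => f l.2) (fun t l => by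
      rcases zz t l with rfl | rfl
      exacts [one_mem _, mem_C1.2 (zc s a)]) (mem_C1_comm.1 (mem_C1_of_conj e))))))
  have k1 : ∀ {K L K' L'}, PR T K L K' L' → ∀ f ∈ Q2 L, f ∉ OZ T → ∀ t ∈ T, t ∉ Q2 L → t * f * t⁻¹ = z * f :=
    fun h' f a b t c d => by
      rcases zz _ (h.der.le (commutator_mem_commutator c (h'.am.a.ix2.le a))) with e | e
      · exact absurd (h'.u.lt.ch (le_C1_iff.1 (h'.am.ix2Z.le_of a b (le_C1_iff.2 (cc_symm (OZ_cc T) c))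
          (mem_C1.2 (commutatorElement_eq_one_iff_mul_comm.1 e).symm)))) d
      · rw [← e, commutatorElement_def]; group
  obtain ⟨f, f1, f2⟩ : ∃ f ∈ WK K, f ∉ OZ T := SetLike.not_le_iff_exists.1 fun e =>
    h.W_not_le (e.trans h.am.symm.ix2Z.le)
  have fq := h.W_le f1
  have fq' : f ∉ Q2 L' := fun e => f2 (h.am.D_eq.le ⟨fq, e⟩)
  have f0 := elem_mul_self (W_elem K) f1
  have ft := h.WT f1
  have ff : ∀ s ∈ S, s ∉ T → s * f * s⁻¹ ∈ WK K' ∧ s * f * s⁻¹ ∉ OZ T ∧ s * f * s⁻¹ ∉ Q2 L := fun s a b => by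
    have c := (sw s a b).1.le (conj_mem_cj f1)
    have d : s * f * s⁻¹ ∉ OZ T := fun e => f2 ((mem_normalizer_iff.1 (nn_OZ i.nn a) f).2 e)
    exact ⟨c, d, fun e => d (h.am.D_eq.le ⟨e, h.symm.W_le c⟩)⟩
  have inv : ∀ s ∈ S, s ∉ T → s * s ∈ Q2 L → s * (f * (s * f * s⁻¹)) * s⁻¹ = z * (f * (s * f * s⁻¹)) :=
    fun s a b c => by
      have e1 := k1 h f fq f2 _ (h.symm.WT (ff s a b).1) (ff s a b).2.2
      have e2 := conj_eq_of_cc (ab_cc h.am.elem.1 c) fq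
      calc _ = s * f * s⁻¹ * (s * s * f * (s * s)⁻¹) := by group
        _ = s * f * s⁻¹ * f * (s * f * s⁻¹)⁻¹ * (s * f * s⁻¹) := by rw [e2]; group
        _ = _ := by rw [e1, mul_assoc]
  have dw : ∀ d ∈ OZ T, d ∈ WK K ⊔ WK K' → d ∈ WK K := fun d a b => h.T0_inf.le ⟨b, h.am.ix2Z.le a⟩
  have cA : ∀ s ∈ S, s ∉ T → s * s ∈ WK K ⊔ WK K' := fun s a b => by
    have c := i.sq_mem a
    have sq : s ∉ NN (Q2 L) := fun e => out s a b ((max_nnQ h.u.mx).le e)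
    have e0 : s * (s * s) * s⁻¹ = s * s := by group
    obtain ⟨g1, g2, g3⟩ := ff s a b
    by_cases d : s * s ∈ Q2 L
    · exact mem_sup_left (k2 s a b _ (h.am.D_eq.le ⟨d, e0 ▸ (h.am.swap (i.nn a) sq).le (conj_mem_cj d)⟩) e0)
    have d' : s * s ∉ Q2 L' := fun e => d (e0 ▸ (h.am.swap' (i.nn a) sq).le (conj_mem_cj e))
    have r0 : f * (s * f * s⁻¹) ∈ WK K ⊔ WK K' := mul_mem (mem_sup_left f1) (mem_sup_right g1)
    refine (mul_mem_cancel_right (inv_mem r0)).1 (mem_sup_left (k2 s a b _ (h.am.D_eq.le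
      ⟨h.am.a.ix2.div_mem c d (h.T0_le r0) fun e => g3 ((mul_mem_cancel_left fq).1 e), h.am.b.ix2.div_mem c d'
      (h.T0_le r0) fun e => fq' ((mul_mem_cancel_right (h.symm.W_le g1)).1 e)⟩) ?_))
    have e1 := k1 h f fq f2 _ (h.symm.WT g1) g3
    have e2 := k1 h f fq f2 _ c d
    have e3 : s * (f * (s * f * s⁻¹)) * s⁻¹ = f * (s * f * s⁻¹) :=
      calc _ = s * f * s⁻¹ * (s * s * f * (s * s)⁻¹) := by group
        _ = z * (s * f * s⁻¹ * f * (s * f * s⁻¹)⁻¹) * (s * f * s⁻¹) := by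
          rw [e2, ← mul_assoc, ← zc _ (ts (h.symm.WT g1))]; group
        _ = _ := by rw [e1, ← mul_assoc z, z4, one_mul]
    calc _ = s * s * (s * (f * (s * f * s⁻¹)) * s⁻¹)⁻¹ := by simp [mul_assoc]
      _ = _ := by rw [e3]
  have cB : ∀ s ∈ S, s ∉ T → s * s = 1 → ∀ t ∈ WK K ⊔ WK K', t * (s * y) * (t * (s * y)) ≠ 1 := fun s a b c t d e => by
    have tT := h.T0_le d
    have yT := OZ_le T yd
    have yc : ∀ x ∈ T, y * x * y⁻¹ = x := fun x l => conj_eq_of_cc (OZ_cc T yd) l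
    obtain ⟨g1, g2, g3⟩ := ff s a b
    have a' : t * (s * y) ∈ S := mul_mem (ts tT) (mul_mem a (ts yT))
    have b' : t * (s * y) ∉ T := fun l => b ((mul_mem_cancel_right yT).1 ((mul_mem_cancel_left tT).1 l))
    have e1 := inv s a b (c ▸ one_mem _)
    have e2 := inv _ a' b' (e ▸ one_mem _)
    have e3 : t * (s * y) * f * (t * (s * y))⁻¹ = t * (s * f * s⁻¹) * t⁻¹ := by
      conv_rhs => rw [← yc f ft]
      group
    have sy : s * y * s⁻¹ = z * y := by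
      rcases zz _ (iD.div_mem (conj_mem_of_mem_normalizer (nn_OZ i.nn a) yd) (fun l => nc s (mem_sup_left l.2)) yd
        fun l => y0 (mem_sup_left l.2)) with l | l
      · exact absurd (k2 s a b y yd (mul_inv_eq_one.1 l)) fun l => y0 (mem_sup_left l)
      · exact mul_inv_eq_iff_eq_mul.1 l
    have g4 := h.symm.WT g1
    have g5 := h.symm.W_le g1
    have e0 := k1 h f fq f2 _ g4 g3
    have g0 := conj_mul_self f0 s
    generalize s * f * s⁻¹ = f' at *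
    have rT := mul_mem ft g4
    have e4 : t * (s * y) * (f * f') * (t * (s * y))⁻¹ = z * (t * (f * f') * t⁻¹) := by
      calc _ = t * (s * (y * (f * f') * y⁻¹) * s⁻¹) * t⁻¹ := by group
        _ = _ := by rw [yc _ rT, e1, ← mul_assoc, ← zc t (ts tT)]; group
    have e5 : t * (f * f') * t⁻¹ = f * f' := by
      rw [e3] at e2
      by_cases l : t ∈ Q2 L'
      · rw [conj_eq_of_cc (ab_cc h.am.symm.elem.1 l) g5, e4] at e2; exact mul_left_cancel e2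
      · rw [k1 h.symm f' g5 g2 t tT l, ← mul_assoc f, ← zc f (ts ft), mul_assoc z, ← mul_assoc _ z,
          ← zc _ a', mul_assoc z, mul_assoc z, e4] at e2
        exact mul_left_cancel (mul_left_cancel e2)
    have e6 : s * t * s⁻¹ * t = 1 := by
      have q1 : t ∈ Q2 L ↔ t ∈ Q2 L' := ⟨fun l => by_contra fun l' => z3 (by
        rw [← conj_mul, conj_eq_of_cc (ab_cc h.am.elem.1 l) fq, k1 h.symm f' g5 g2 t tT l'] at e5
        simpa using e5), fun l' => by_contra fun l => z3 (by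
        rw [← conj_mul, conj_eq_of_cc (ab_cc h.am.symm.elem.1 l') g5, k1 h f fq f2 t tT l] at e5
        simpa using e5)⟩
      have rr : f * f' * (f * f') = z := by
        calc _ = f * (f' * f * f'⁻¹) := by rw [inv_eq_of_mul_eq_one_right g0]; group
          _ = _ := by rw [e0, ← mul_assoc, ← zc f (ts ft), mul_assoc, f0, mul_one]
      by_cases l : t ∈ Q2 L
      · have m := h.am.D_eq.le ⟨l, q1.1 l⟩
        rcases zz t ⟨m, dw t m d⟩ with rfl | rfl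
        exacts [by group, by rw [zs s a, z4]]
      · have m := h.am.D_eq.le ⟨h.am.a.ix2.div_mem tT l rT fun e => g3 ((mul_mem_cancel_left fq).1 e),
          h.am.b.ix2.div_mem tT (mt q1.2 l) rT fun e => fq' ((mul_mem_cancel_right g5).1 e)⟩
        rcases zz _ ⟨m, dw _ m (mul_mem d (inv_mem (mul_mem (mem_sup_left f1) (mem_sup_right g1))))⟩ with n | n
        · rw [mul_inv_eq_one.1 n, e1, mul_assoc, rr, z4]
        · rw [mul_inv_eq_iff_eq_mul.1 n, ← conj_mul, zs s a, e1, ← mul_assoc z z, z4, one_mul, ← mul_assoc,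
            ← zc _ (ts rT), mul_assoc, rr, z4]
    refine z3 ?_
    calc z = t * (s * t * s⁻¹) * (s * y * s⁻¹) * (s * s) * y := by
          rw [eq_inv_of_mul_eq_one_left e6, sy, c]; simp [mul_assoc, y2]
      _ = t * s * (y * t * y⁻¹) * y * s * y := by rw [yc t tT]; group
      _ = 1 := by rw [← e]; group
  obtain ⟨s, s1, s2, s3⟩ : ∃ s ∈ S, s ∉ T ∧ ∀ t ∈ WK K ⊔ WK K', t * s * (t * s) ≠ 1 := by
    by_cases e : ∃ s ∈ S, s ∉ T ∧ s * s = 1
    · obtain ⟨s, a, b, c⟩ := e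
      exact ⟨s * y, mul_mem a (ts (OZ_le T yd)), fun l => b ((mul_mem_cancel_right (OZ_le T yd)).1 l), cB s a b c⟩
    · obtain ⟨s, a, b⟩ := i.exists_out
      exact ⟨s, a, b, fun t c d => e ⟨_, mul_mem (ts (h.T0_le c)) a,
        fun l => b ((mul_mem_cancel_left (h.T0_le c)).1 l), d⟩⟩
  have s4 : s ∉ WK K ⊔ WK K' := fun e => s2 (h.T0_le e)
  have i1 := ix2_sup (mem_normalizer_iff_cj.2 (by rw [cj_sup, (sw s s1 s2).1, (sw s s1 s2).2, sup_comm]))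
    (cA s s1 s2) s4
  refine tt hS (ix2_of_card (sup_le (h.T0_le.trans ts) (zpowers_le.2 s1)) (by rw [i1.card, i.card, i0.card]))
    (ts (OZ_le T yd)) y2 (fun g e => ?_) yr
  obtain ⟨t, t1, t2⟩ := (i1.cases (mem_sup_right (mem_zpowers s)) s4 e).resolve_left (nc g)
  exact s3 t t1 (t2 ▸ conj_mul_self y2 g)

theorem final : ∃ M₁ M₂ : Subgroup (res 2 (⊤ : Subgroup G)), M₁ ≠ M₂ ∧ IsMaximalTwoLocal M₁ ∧ IsMaximalTwoLocal M₂ ∧
    Nonempty (M₁ ≃* S4) ∧ Nonempty (M₂ ≃* S4) ∧ Nat.card ↥(M₁ ⊓ M₂) = 8 := by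
  obtain ⟨a1, a2, a3⟩ := h.sub_am h.Z_res
  obtain ⟨b1, b2, b3⟩ := h.symm.sub_am h.symm.Z_res
  have am : AM (L ⊓ res 2 ⊤) (L' ⊓ res 2 ⊤) (T ⊓ res 2 ⊤) := ⟨a1, b1, fun N n1 n2 n3 => h.am.core N
    (n1.trans inf_le_left) (a3.ge.trans (sup_le n2 ((cc_le_nn N).trans' (inf_le_right.trans
      (cc_anti (n1.trans (inf_le_left.trans h.u.lt.syl.le))))))) (b3.ge.trans (sup_le n3 ((cc_le_nn N).trans'
      (inf_le_right.trans (cc_anti (n1.trans (inf_le_left.trans h.u'.lt.syl.le)))))))⟩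
  have c8 : #(T ⊓ res 2 ⊤ : Subgroup G) = 8 := by rw [a1.ix2.card, a2, h.u.jc.card]
  obtain ⟨-, ⟨e1⟩⟩ := am.iso.resolve_right fun l => by omega
  obtain ⟨-, ⟨e2⟩⟩ := am.symm.iso.resolve_right fun l => by omega
  refine ⟨_, _, fun e => am.not_le fun x hx => (SetLike.ext_iff.1 e ⟨x, hx.2⟩).1 hx, h.sub_max h.Z_res,
    h.symm.sub_max h.symm.Z_res, ⟨(subgroupOfEquivOfLe inf_le_right).trans e1⟩,
    ⟨(subgroupOfEquivOfLe inf_le_right).trans e2⟩, ?_⟩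
  rw [← c8, ← am.inf_eq]
  exact Nat.card_congr (subgroupOfEquivOfLe (H := L ⊓ res 2 ⊤ ⊓ (L' ⊓ res 2 ⊤))
    (inf_le_left.trans inf_le_right)).toEquiv
end PR

theorem zn_thm (zn : ZN G) (h2 : Even (Nat.card G)) (hO : Q2 (⊤ : Subgroup G) = ⊥) :
    (∃ K : Subgroup G, IsStronglyEmbedded K) ∨ ∃ T K L K' L' : Subgroup G, PR T K L K' L' := by
  obtain ⟨S, hS, -⟩ := exists_isSyl_ge (p := 2) (IsPGroup.of_bot (G := G)) le_top
  have h1 : S ≠ ⊥ := fun e => by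
    have := hS.not_dvd
    rw [e, relIndex_bot_left, card_top] at this
    exact this h2.two_dvd
  by_cases h : ∀ T, ¬ Str (NN (JJ S)) T
  · exact .inl ⟨_, se_of hO hS (nn_J (le_nn S)) (loc_nn (hS.pgroup.to_le (J_le S)) (J_ne_bot (.inl rfl) hS.pgroup h1)) h⟩
  · obtain ⟨T, hT⟩ := not_forall_not.1 h
    obtain ⟨T, hT⟩ := exists_max hT
    obtain ⟨K, L, K', L', u, u', ne⟩ := (st_of zn hS le_rfl hT).exists_pair hO
    exact .inr ⟨T, K, L, K', L', u, u', ne⟩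

theorem OZ_coe (S : Subgroup G) : (OZ S : Set G) = {z : G | z ∈ S ∧ z ^ 2 = 1 ∧ ∀ s ∈ S, s * z = z * s} := by
  ext z
  exact (Comp.mem_omegaOne_iff (inf_le_right.trans (cc_anti inf_le_left))).trans
    ⟨fun h => ⟨h.1.1, h.2, h.1.2⟩, fun h => ⟨⟨h.1, h.2.2⟩, h.2.1⟩⟩
theorem res_odd : res 2 (⊤ : Subgroup G) = closure {g : G | Odd (orderOf g)} := by
  rw [res_top, pResidual]; simp only [odd_iff_coprime_two]

end Cfsg.Agent.NG
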