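/-
Control of Sylow intersections.
-/
import Cfsg.Agent.Lib.NG.Am
import Cfsg.Prelude.Def_SylowChains

set_option autoImplicit false
set_option linter.unusedSectionVars false
set_option linter.unusedVariables false
set_option linter.style.haveILetI false
set_option linter.unusedSimpArgs false

namespace Cfsg.Agent.NG

open Subgroup Cfsg.Agent.Transfer Cfsg.Agent.MS Relation

theorem rtg_of_fin {α : Type*} {r : α → α → Prop} : ∀ (n : ℕ) (c : Fin (n + 1) → α),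
    (∀ i : Fin n, r (c i.castSucc) (c i.succ)) → ReflTransGen r (c 0) (c (Fin.last n))
  | 0, _, _ => .refl
  | n + 1, c, h => .head (h 0) (rtg_of_fin n (fun i => c i.succ) fun i => h i.succ)
theorem fin_of_rtg {α : Type*} {r : α → α → Prop} {a b : α} (h : ReflTransGen r a b) :
    ∃ (n : ℕ) (c : Fin (n + 1) → α), c 0 = a ∧ c (Fin.last n) = b ∧ ∀ i : Fin n, r (c i.castSucc) (c i.succ) := by
  induction h using ReflTransGen.head_induction_on with
  | refl => exact ⟨0, fun _ => b, rfl, rfl, fun i => i.elim0⟩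
  | @head a a' h _ ih =>
    obtain ⟨n, c, rfl, c2, c3⟩ := ih
    exact ⟨n + 1, Fin.cons a c, rfl, c2, fun i => Fin.cases h (fun j => c3 j) i⟩

universe u
variable {G : Type u} [Group G] [Finite G] {p : ℕ} [Fact p.Prime] {𝓕 𝓖 : Set (Subgroup G)}
variable {A B C D E H K L M N P Q R S T U V W X Y Z : Subgroup G} {g s t w x y z : G}

def Stp (p : ℕ) (𝓕 : Set (Subgroup G)) (D S T : Subgroup G) : Prop :=
  ∃ X ∈ 𝓕, IsSyl p (S ⊓ X) X ∧ ∃ x ∈ X, cj x S = T ∧ D ≤ T ⊓ X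
abbrev Ch (p : ℕ) (𝓕 : Set (Subgroup G)) (D : Subgroup G) := ReflTransGen (Stp p 𝓕 D)
def Ctl (p : ℕ) (𝓕 : Set (Subgroup G)) (M : Subgroup G) : Prop :=
  ∀ S T, IsSyl p S M → IsSyl p T M → S ⊓ T ≠ ⊥ → Ch p 𝓕 (S ⊓ T) S T

theorem mem_sm : X ∈ sylowMembers p 𝓕 S ↔ X ∈ 𝓕 ∧ IsSyl p (S ⊓ X) X :=
  and_congr_right' ⟨fun ⟨P, e⟩ => e ▸ isSyl_map_subtype P, fun h => h.exists_sylow_map⟩
theorem syl_cj_inf (h : IsSyl p (S ⊓ X) X) (g : G) : IsSyl p (cj g S ⊓ cj g X) (cj g X) := cj_inf g S X ▸ h.cj g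
theorem nset_cj (hn : IsNormalSet 𝓕) (h : X ∈ 𝓕) (g : G) : cj g X ∈ 𝓕 := inv_inv g ▸ hn X h g⁻¹
theorem nset_sm (hn : IsNormalSet 𝓕) (h : X ∈ 𝓕) (h1 : IsSyl p (cj w S ⊓ X) X) : cj w⁻¹ X ∈ sylowMembers p 𝓕 S :=
  mem_sm.2 ⟨hn X h w, by simpa only [cj_inv_cj] using syl_cj_inf h1 w⁻¹⟩
theorem rtg_lift {α β : Type*} {r : α → α → Prop} {s : β → β → Prop} {a b : α} (h : ReflTransGen r a b) (f : α → β)
    (h1 : ∀ a b, r a b → s (f a) (f b)) : ReflTransGen s (f a) (f b) := h.lift f h1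
theorem Stp.mono (h : Stp p 𝓕 D S T) (h1 : 𝓕 ⊆ 𝓖) (h2 : E ≤ D) : Stp p 𝓖 E S T :=
  let ⟨X, a, b, x, c, d, e⟩ := h
  ⟨X, h1 a, b, x, c, d, h2.trans e⟩
theorem Ch.mono' (h : Ch p 𝓕 D S T) (h1 : 𝓕 ⊆ 𝓖) (h2 : E ≤ D) : Ch p 𝓖 E S T :=
  h.lift id fun _ _ l => Stp.mono l h1 h2
theorem Stp.syl (h : Stp p 𝓕 D S T) (h1 : ∀ X ∈ 𝓕, X ≤ M) (h2 : IsSyl p S M) : IsSyl p T M :=
  let ⟨X, a, _, x, c, d, _⟩ := h
  d ▸ h2.cj_of_mem_normalizer (le_nn M (h1 X a c))
theorem Ch.ind {r : Subgroup G → Subgroup G → Prop} (h : Ch p 𝓕 D S T) (h1 : ∀ X ∈ 𝓕, X ≤ M) (h2 : IsSyl p S M)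
    (h3 : ∀ S T, IsSyl p S M → IsSyl p T M → Stp p 𝓕 D S T → ReflTransGen r S T) : ReflTransGen r S T := by
  induction h using ReflTransGen.head_induction_on with
  | refl => exact .refl
  | head h _ ih => exact (h3 _ _ h2 (h.syl h1 h2) h).trans (ih (h.syl h1 h2))

theorem ctl_iff : ControlsSylowIntersections p 𝓕 ↔ Ctl p 𝓕 ⊤ := by
  constructor
  · intro h S T a b c
    obtain ⟨S, rfl⟩ := a.exists_sylow
    obtain ⟨T, rfl⟩ := b.exists_sylow
    rcases eq_or_ne S T with rfl | e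
    · exact .refl
    obtain ⟨n, c, X, x, c1, c2, l⟩ := h S T e c
    have := rtg_of_fin (r := Stp p 𝓕 (S ⊓ T)) n (fun i => (c i : Subgroup G)) fun i => let ⟨a, _, b, c, d⟩ := l i
      ⟨_, (mem_sm.1 a).1, (mem_sm.1 a).2, _, b, cj_eq_iff_eq_cj_inv.2 c.symm, d⟩
    simp only [c1, c2] at this
    exact this
  · intro h S T _ c
    have key : ∀ {D A B : Subgroup G}, Ch p 𝓕 D A B → ∀ S T : Sylow p G, (S : Subgroup G) = A → (T : Subgroup G) = B →
        ReflTransGen (fun S T : Sylow p G => Stp p 𝓕 D S T) S T := fun h => by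
      induction h using ReflTransGen.head_induction_on with
      | refl => exact fun S T a b => Sylow.ext (a.trans b.symm) ▸ .refl
      | head h _ ih =>
        rintro S T rfl b
        obtain ⟨U, rfl⟩ := (h.syl (fun _ _ => le_top) (isSyl_top S)).exists_sylow
        exact .head h (ih U T rfl b)
    obtain ⟨n, c, c1, c2, l⟩ := fin_of_rtg (key (h S T (isSyl_top S) (isSyl_top T) c) S T rfl rfl)
    choose X a b x d e f using l
    exact ⟨n, c, X, x, c1, c2, fun i => ⟨mem_sm.2 ⟨a i, b i⟩, mem_sm.2 ⟨a i, by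
      have := syl_cj_inf (b i) (x i); rwa [e i, cj_eq_of_mem (d i)] at this⟩, d i,
      (cj_eq_iff_eq_cj_inv.1 (e i)).symm, f i⟩⟩

theorem syl_subgroupOf (h : IsSyl p P H) (h1 : H ≤ M) : IsSyl p (P.subgroupOf M) (H.subgroupOf M) :=
  ⟨comap_mono h.le, h.pgroup.comap_subtype, by rw [relIndex_subgroupOf h1]; exact h.not_dvd⟩

theorem ctl_sub (h1 : ∀ X ∈ 𝓕, X ≤ M) :
    ControlsSylowIntersections p ((fun X : Subgroup G => X.subgroupOf M) '' 𝓕) ↔ Ctl p 𝓕 M := by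
  have inj := subtype_injective M
  rw [ctl_iff]
  constructor
  · intro h S T a b c
    have := h _ _ (subgroupOf_self M ▸ syl_subgroupOf a le_rfl) (subgroupOf_self M ▸ syl_subgroupOf b le_rfl)
      fun e => c (by rw [← map_subgroupOf_eq_of_le (inf_le_left.trans a.le : S ⊓ T ≤ M), subgroupOf, comap_inf]
                     exact (congrArg (map M.subtype) e).trans (Subgroup.map_bot _))
    have := rtg_lift (s := Stp p 𝓕 (S ⊓ T)) this (map M.subtype) (by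
      rintro S' _ ⟨_, ⟨X, x1, rfl⟩, b, x, c, rfl, e⟩
      have e1 := map_subgroupOf_eq_of_le (h1 X x1)
      refine ⟨X, x1, by simpa only [map_inf _ _ _ inj, e1] using b.map M.subtype, x, c, ?_, fun y l => ?_⟩
      · rw [cj, cj, Subgroup.map_map, Subgroup.map_map]; rfl
      · have := @e ⟨y, a.le l.1⟩ l
        exact ⟨⟨_, this.1, rfl⟩, this.2⟩)
    rwa [map_subgroupOf_eq_of_le a.le, map_subgroupOf_eq_of_le b.le] at this
  · intro h S T a b c
    have e0 : (⊤ : Subgroup M).map M.subtype = M := by rw [← MonoidHom.range_eq_map, range_subtype]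
    have := h _ _ (e0 ▸ a.map M.subtype) (e0 ▸ b.map M.subtype) fun e => c (by
      rwa [← map_inf _ _ _ inj, map_eq_bot_iff_of_injective _ inj] at e)
    have := rtg_lift (s := Stp p ((fun X : Subgroup G => X.subgroupOf M) '' 𝓕) (S ⊓ T)) this (comap M.subtype) (by
      rintro S' _ ⟨X, x1, b, x, c, rfl, e⟩
      refine ⟨_, ⟨X, x1, rfl⟩, syl_subgroupOf b (h1 X x1), ⟨x, h1 X x1 c⟩, c, ?_, fun y l => ?_⟩
      · ext y; simp only [mem_cj, mem_comap]; rfl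
      · exact e ⟨⟨_, l.1, rfl⟩, ⟨_, l.2, rfl⟩⟩)
    rwa [comap_map_eq_self_of_injective inj, comap_map_eq_self_of_injective inj] at this

theorem conjRight_sub {A : Set G} : conjRight w A ⊆ (S : Set G) ↔ A ⊆ cj w S :=
  ⟨fun h a b => mem_cj.2 (h ⟨a, b, rfl⟩), by rintro h _ ⟨a, b, rfl⟩; exact mem_cj.1 (h b)⟩

theorem ctl_iff_fusion (hn : IsNormalSet 𝓕) : Ctl p 𝓕 ⊤ ↔ FamilyStronglyControlsFusion p 𝓕 := by
  constructor
  · rintro h S A g a1 ⟨a, a2, a3⟩ a4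
    replace a4 := (conjRight_sub (S := (S : Subgroup G)) (w := g) (A := A)).1 a4
    have key : ∀ {D U T : Subgroup G}, Ch p 𝓕 D U T → ∀ w, U = cj w S → ∃ (n : ℕ) (Y : Fin n → Subgroup G)
        (y : Fin n → G), T = cj (w * (List.ofFn y).prod) S ∧ (∀ i, Y i ∈ sylowMembers p 𝓕 S ∧ y i ∈ Y i) ∧
        ∀ i : Fin n, D ≤ cj (w * ((List.ofFn y).take (i.val + 1)).prod) (S ⊓ Y i) := fun h => by
      induction h using ReflTransGen.head_induction_on with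
      | refl => exact fun w e => ⟨0, Fin.elim0, Fin.elim0, by simpa using e, fun i => i.elim0, fun i => i.elim0⟩
      | head h _ ih =>
        rintro w rfl
        obtain ⟨X, a, b, x, c, rfl, e⟩ := h
        obtain ⟨n, Y, y, y1, y2, y3⟩ := ih (x * w) (cj_cj ..)
        have e1 : w * (w⁻¹ * x * w) = x * w := by group
        refine ⟨n + 1, Fin.cons (cj w⁻¹ X) Y, Fin.cons (w⁻¹ * x * w) y, by
          rw [y1, List.ofFn_succ, List.prod_cons, ← mul_assoc, Fin.cons_zero, e1]; rfl,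
          Fin.cases ⟨nset_sm hn a b,
          mem_cj.2 (by simpa [mul_assoc] using c)⟩ y2, fun i => ?_⟩
        rw [List.ofFn_succ, List.take_succ_cons, List.prod_cons, ← mul_assoc, Fin.cons_zero, e1]
        refine Fin.cases ?_ (fun j => y3 j) i
        simpa [cj_inf, cj_cj, cj_eq_of_mem c] using e
    obtain ⟨n, Y, y, y1, y2, y3⟩ := key (h S (cj g S) (isSyl_top S) (by simpa using (isSyl_top S).cj g)
      fun e => a3 (eq_one_of_inf e (a1 a2) (a4 a2))) 1 (cj_one _).symm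
    refine ⟨n, Y, y, (List.ofFn y).prod⁻¹ * g, mem_normalizer_iff_cj.2 (by rw [← cj_cj, y1, one_mul, cj_inv_cj]),
      y2, by group, fun i => (conjRight_sub (S := S ⊓ Y i)).2 fun a l => ?_⟩
    have := y3 i ⟨a1 l, a4 l⟩
    rwa [one_mul] at this
  · intro h S T a b c
    obtain ⟨S, rfl⟩ := a.exists_sylow
    obtain ⟨g, -, rfl⟩ := b.exists_cj_eq a
    obtain ⟨n, Y, y, y₀, y1, y2, e, y3⟩ := h S (S ⊓ cj g S : Subgroup G) g inf_le_left (exists_ne_one c)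
      (conjRight_sub.2 inf_le_right)
    have key : ∀ (D : Subgroup G) (n : ℕ) (Y : Fin n → Subgroup G) (y : Fin n → G) (w : G),
        (∀ i, Y i ∈ sylowMembers p 𝓕 S ∧ y i ∈ Y i) →
        (∀ i : Fin n, D ≤ cj (w * ((List.ofFn y).take (i.val + 1)).prod) (S ⊓ Y i)) →
        Ch p 𝓕 D (cj w S) (cj (w * (List.ofFn y).prod) S) := fun D n => by
      induction n with
      | zero => intro Y y w _ _; simpa using .refl
      | succ n ih =>
        intro Y y w y2 y3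
        simp only [List.ofFn_succ, List.take_succ_cons, List.prod_cons, ← mul_assoc] at y3 ⊢
        refine .head ⟨cj w (Y 0), nset_cj hn (y2 0).1.1 w,
          syl_cj_inf (mem_sm.1 (y2 0).1).2 w, _, conj_mem_cj (y2 0).2, by rw [cj_cj, inv_mul_cancel_right], ?_⟩
          (ih (fun i => Y i.succ) (fun i => y i.succ) _ (fun i => y2 i.succ) fun i => y3 i.succ)
        simpa [cj_inf, ← cj_cj, cj_eq_of_mem (y2 0).2] using y3 0
    have := key (S ⊓ cj g S) n Y y 1 y2 fun i => by rw [one_mul]; exact (conjRight_sub (S := S ⊓ Y i)).1 (y3 i)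
    rwa [cj_one, one_mul, show cj (List.ofFn y).prod S = cj g S by rw [e, ← cj_cj, cj_nn y1]] at this

theorem exists_mid (hS : IsSyl p S ⊤) (h1 : S ≤ A) (h2 : S ≤ B) (h : ∀ g : G, ∃ a ∈ A, ∃ b ∈ B, g = a * b) (g : G) :
    ∃ U, IsSyl p U ⊤ ∧ S ⊓ cj g S ≤ U ∧ U ≤ A ⊓ cj g B := by
  obtain ⟨a, a1, b, b1, rfl⟩ := h g
  obtain ⟨U, u1, u2⟩ := exists_isSyl_ge (hS.pgroup.to_le (inf_le_left : S ⊓ cj (a * b) S ≤ S))
    (inf_le_inf h1 (cj_mono _ h2))
  refine ⟨U, hS.of_card_le u1.pgroup le_top ((card_cj a S).ge.trans (u1.card_le (hS.pgroup.map _)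
    (le_inf (cj_le' h1 a1) ?_))), u2, u1.le⟩
  rw [← cj_cj, cj_eq_of_mem b1]; exact cj_mono a h2

theorem Ctl.gen (hn : IsNormalSet 𝓕) (h : Ctl p 𝓕 ⊤) (hc : IsSylowChainConnected p G) (S : Sylow p G) :
    (⨆ X ∈ sylowMembers p 𝓕 S, X) ⊔ NN (S : Subgroup G) = ⊤ := by
  set H := (⨆ X ∈ sylowMembers p 𝓕 S, X) ⊔ NN (S : Subgroup G)
  have k1 : ∀ {D U T : Subgroup G}, Ch p 𝓕 D U T → (∃ h ∈ H, U = cj h S) → ∃ h ∈ H, T = cj h S := fun h l => by
    induction h with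
    | refl => exact l
    | tail _ h ih =>
      obtain ⟨w, w1, rfl⟩ := ih
      obtain ⟨X, a, b, x, c, rfl, e⟩ := h
      refine ⟨x * w, (show w * (w⁻¹ * x * w) = x * w by group) ▸ mul_mem w1 (mem_sup_left ((le_biSup (fun X => X)
        (nset_sm hn a b) :) ?_)), cj_cj ..⟩
      exact mem_cj.2 (by simpa [mul_assoc] using c)
  refine eq_top_iff.2 fun g _ => ?_
  obtain ⟨n, c, c1, c2, -, l⟩ := hc S (g • S)
  have k2 : ∀ {U T : Sylow p G}, ReflTransGen (fun U T : Sylow p G => (U : Subgroup G) ⊓ T ≠ ⊥) U T →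
      (∃ h ∈ H, (U : Subgroup G) = cj h S) → ∃ h ∈ H, (T : Subgroup G) = cj h S := fun a l => by
    induction a with
    | refl => exact l
    | tail _ a ih => exact k1 (h _ _ (isSyl_top _) (isSyl_top _) a) ih
  obtain ⟨w, w1, e⟩ := k2 (rtg_of_fin n c fun i => (l i).2) ⟨1, one_mem _, by rw [c1, cj_one]⟩
  rw [c2, ← cj_sylow] at e
  exact (mul_mem_cancel_left (inv_mem w1)).1 (mem_sup_right (mem_normalizer_iff_cj.2 (by rw [← cj_cj, e, cj_inv_cj])))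

variable {f : Subgroup G → Set (Subgroup G)}

theorem mem_ff : X ∈ functorFamily p f M ↔ ∃ P, IsSyl p P M ∧ ∃ E ∈ f P, X = M ⊓ NN E :=
  ⟨fun ⟨P, h⟩ => ⟨_, isSyl_map_subtype P, h⟩, fun ⟨P, a, h⟩ => let ⟨Q, e⟩ := a.exists_sylow_map; ⟨Q, e ▸ h⟩⟩
theorem ff_le : ∀ X ∈ functorFamily p f M, X ≤ M := fun _ ⟨_, _, _, e⟩ => e ▸ inf_le_left
theorem reg_iff : IsFunctorRegular p f M ↔ Ctl p (functorFamily p f M) M := ctl_sub ff_le

theorem Stp.ff (hf : IsNormalizerFunctor p f) (h : Stp p (functorFamily p f M) D S T) (hS : IsSyl p S M) :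
    ∃ E ∈ f S, ∃ x ∈ M ⊓ NN E, cj x S = T ∧ D ≤ T := by
  obtain ⟨X, a, b, x, c, d, e⟩ := h
  obtain ⟨P, a1, E, a2, rfl⟩ := mem_ff.1 a
  have a3 : P ≤ M ⊓ NN E := le_inf a1.le ((le_nn P).trans ((hf P a1.pgroup).1 E a2).2)
  obtain ⟨y, y1, y2⟩ := b.exists_cj_le a1.pgroup a3
  have y3 : cj y P = S := eq_of_card_le (y2.trans inf_le_left) ((hS.card_eq a1).trans (card_cj y P).symm).le
  exact ⟨E, y3 ▸ ((hf P a1.pgroup).2 y).symm ▸ ⟨E, a2, cj_nn y1.2⟩, x, c, d, e.trans inf_le_left⟩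
theorem stp_top (hf : IsNormalizerFunctor p f) (hS : IsSyl p S ⊤) (h1 : E ∈ f S) (h2 : x ∈ NN E) (h3 : D ≤ cj x S) :
    Stp p (functorFamily p f ⊤) D S (cj x S) := by
  have a : S ≤ ⊤ ⊓ NN E := le_inf le_top ((le_nn S).trans ((hf S hS.pgroup).1 E h1).2)
  exact ⟨_, mem_ff.2 ⟨S, hS, E, h1, rfl⟩, by rw [inf_eq_left.2 a]; exact hS.mono a le_top, x, ⟨trivial, h2⟩, rfl,
    le_inf h3 (h3.trans (cj_le' a ⟨trivial, h2⟩))⟩
theorem Ctl.top (hf : IsNormalizerFunctor p f) (h : Ctl p (functorFamily p f M) M) (hS : IsSyl p S ⊤)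
    (hT : IsSyl p T ⊤) (h1 : S ≤ M) (h2 : T ≤ M) (h3 : S ⊓ T ≠ ⊥) : Ch p (functorFamily p f ⊤) (S ⊓ T) S T :=
  (h S T (hS.mono h1 le_top) (hT.mono h2 le_top) h3).ind ff_le (hS.mono h1 le_top) fun U V a b c => by
    obtain ⟨E, e1, x, x1, rfl, e2⟩ := c.ff hf a
    exact .single (stp_top hf (hS.of_card_le a.pgroup le_top ((hS.mono h1 le_top).card_eq a).le) e1 x1.2 e2)
theorem Stp.cj (hn : IsNormalSet 𝓕) (h : Stp p 𝓕 D S T) (g : G) : Stp p 𝓕 (cj g D) (cj g S) (cj g T) := by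
  obtain ⟨X, a, b, x, c, rfl, e⟩ := h
  exact ⟨_, nset_cj hn a g, syl_cj_inf b g, _, conj_mem_cj c,
    by rw [cj_cj, cj_cj, inv_mul_cancel_right], cj_inf g _ X ▸ cj_mono g e⟩
theorem Ch.cj (hn : IsNormalSet 𝓕) (h : Ch p 𝓕 D S T) (g : G) : Ch p 𝓕 (cj g D) (cj g S) (cj g T) :=
  h.lift (Transfer.cj g) fun _ _ l => l.cj hn g
theorem ff_normal (hf : IsNormalizerFunctor p f) : IsNormalSet (functorFamily p f ⊤) := fun X a g => by
  obtain ⟨P, a1, E, a2, rfl⟩ := mem_ff.1 a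
  exact mem_ff.2 ⟨cj g⁻¹ P, by simpa using a1.cj g⁻¹, cj g⁻¹ E, ((hf P a1.pgroup).2 g⁻¹).ge ⟨E, a2, rfl⟩,
    (cj_inf ..).trans (by rw [cj_top, cj_normalizer])⟩

theorem ctl_prod (hf : IsNormalizerFunctor p f) (hS : IsSyl p S ⊤) (h1 : S ≤ A) (h2 : S ≤ B)
    (h : ∀ g : G, ∃ a ∈ A, ∃ b ∈ B, g = a * b) (ca : Ctl p (functorFamily p f A) A)
    (cb : Ctl p (functorFamily p f B) B) : Ctl p (functorFamily p f ⊤) ⊤ := fun U V a b c => by
  obtain ⟨x, -, rfl⟩ := a.exists_cj_eq hS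
  obtain ⟨g, -, e⟩ := (b.cj x⁻¹).exists_cj_eq (cj_top x⁻¹ ▸ hS)
  obtain rfl : V = cj x (cj g S) := by rw [e, cj_cj_inv]
  rw [← cj_inf] at c ⊢
  refine Ch.cj (ff_normal hf) ?_ x
  rw [Ne, cj_eq_bot_iff] at c
  obtain ⟨U, u1, u2, u3⟩ := exists_mid hS h1 h2 h g
  refine ((ca.top hf hS u1 h1 (u3.trans inf_le_left) fun l => c (le_bot_iff.1 (l ▸ le_inf inf_le_left u2))).mono'
    le_rfl (le_inf inf_le_left u2)).trans ?_
  have := (cb.top hf (cj_top g⁻¹ ▸ u1.cj g⁻¹) hS (le_cj_iff_cj_inv_le.1 (u3.trans inf_le_right)) h2 fun l => c (by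
    rw [← cj_inv_cj g S, ← cj_inf, cj_eq_bot_iff] at l
    exact le_bot_iff.1 (l ▸ le_inf u2 inf_le_right))).cj (ff_normal hf) g
  rw [cj_inf, cj_cj_inv] at this
  exact this.mono' le_rfl (le_inf u2 inf_le_right)

theorem ctl_union (hf : IsNormalizerFunctor p f) (hf1 : ∀ P : Subgroup G, IsPGroup p P → P ≠ ⊥ → ∀ E ∈ f P, E ≠ ⊥) :
    Ctl p (functorFamily p f ⊤ ∪ {M | IsMaximalPLocal p M ∧ ¬ IsFunctorRegular p f M}) ⊤ := by
  set 𝓕 := functorFamily p f ⊤ ∪ {M | IsMaximalPLocal p M ∧ ¬ IsFunctorRegular p f M}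
  suffices k : ∀ n (D S T : Subgroup G), Nat.card G - #D = n → D ≠ ⊥ → IsSyl p S ⊤ → IsSyl p T ⊤ → D ≤ S → D ≤ T →
      Ch p 𝓕 D S T from fun S T a b c => k _ _ S T rfl c a b inf_le_left inf_le_right
  intro n
  induction n using Nat.strong_induction_on with
  | _ n ih =>
  rintro D S T rfl d0 hS hT d1 d2
  have hA : ∀ {Q S T : Subgroup G}, D < Q → IsSyl p S ⊤ → IsSyl p T ⊤ → Q ≤ S → Q ≤ T → Ch p 𝓕 D S T :=
    fun {Q S T} a b c d e => (ih _ (by have := card_lt_of_lt a; have := card_le_card_group Q; omega) Q S T rfl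
      (ne_bot_of_gt a) b c d e).mono' le_rfl a.le
  have hB : ∀ n (L P Q S T : Subgroup G), Nat.card G - #P ≤ n → IsPLocal p L → IsPGroup p P → IsPGroup p Q → P ≤ L →
      Q ≤ L → D < P → D < Q → IsSyl p S ⊤ → IsSyl p T ⊤ → P ≤ S → Q ≤ T → Ch p 𝓕 D S T := by
    intro n
    induction n using Nat.strong_induction_on with
    | _ n ih =>
    intro L P Q S T hn hL p1 q1 p2 q2 p3 q3 hS hT p4 q4
    obtain ⟨M, m1, m2, m3⟩ := Comp.exists_maximal_subgroup hL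
    obtain ⟨P', a1, a2⟩ := exists_isSyl_ge p1 (p2.trans m1)
    obtain ⟨Q', b1, b2⟩ := exists_isSyl_ge q1 (q2.trans m1)
    obtain ⟨S', s1, s2⟩ := exists_isSyl_ge a1.pgroup le_top
    refine (hA p3 hS s1 p4 (a2.trans s2)).trans ?_
    by_cases r : IsFunctorRegular p f M
    · have key : ∀ {U V : Subgroup G}, Ch p (functorFamily p f M) (P' ⊓ Q') U V → IsSyl p U M → D < U →
          ∀ S', IsSyl p S' ⊤ → U ≤ S' → ∃ T', IsSyl p T' ⊤ ∧ V ≤ T' ∧ Ch p 𝓕 D S' T' := fun c => by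
        induction c using ReflTransGen.head_induction_on with
        | refl => exact fun _ _ S' a b => ⟨S', a, b, .refl⟩
        | @head U _ c _ ih2 =>
          intro u1 u2 S' s1 s2
          have u3 := c.syl ff_le u1
          obtain ⟨E, e1, x, x1, rfl, e2⟩ := c.ff hf u1
          have u4 : D < cj x U := lt_of_le_of_ne ((le_inf (p3.le.trans a2) (q3.le.trans b2)).trans e2) fun e => by
            have := card_lt_of_lt u2; rw [e, card_cj] at this; omega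
          obtain ⟨T', t1, t2, t3⟩ := ih2 u3 u4 (cj x S') (cj_top x ▸ s1.cj x) (cj_mono x s2)
          refine ⟨T', t1, t2, .trans ?_ t3⟩
          rcases s2.eq_or_lt with rfl | lt
          · exact .single ((stp_top hf s1 e1 x1.2 u4.le).mono Set.subset_union_left le_rfl)
          have l := lt_inf_normalizer s1.pgroup lt
          have e3 := (hf U u1.pgroup).1 E e1
          exact ih _ (by
            have := card_lt_of_lt l; have := card_le_card_group (S' ⊓ NN U)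
            have := card_le_of_le a2; have := a1.card_eq u1; omega) (NN E) (S' ⊓ NN U) (cj x U) _ _ le_rfl
            ⟨E, u1.pgroup.to_le e3.1, hf1 U u1.pgroup (ne_bot_of_gt u2) E e1, rfl⟩ (s1.pgroup.to_le inf_le_left)
            u3.pgroup (inf_le_right.trans e3.2) (cj_le' ((le_nn U).trans e3.2) x1.2) (u2.trans l) u4 s1
            (cj_top x ▸ s1.cj x) inf_le_left (cj_mono x s2)
      obtain ⟨T', t1, t2, t3⟩ := key (reg_iff.1 r P' Q' a1 b1 fun e => d0 (le_bot_iff.1 (e ▸ le_inf (p3.le.trans a2)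
        (q3.le.trans b2)))) a1 (p3.trans_le a2) S' s1 s2
      exact t3.trans (hA q3 t1 hT (b2.trans t2) q4)
    · obtain ⟨x, x1, e⟩ := b1.exists_cj_eq a1
      have l : Q' ≤ cj x S' := e ▸ cj_mono x s2
      exact .head ⟨M, .inr ⟨⟨m2, m3⟩, r⟩, a1.of_card_le (s1.pgroup.to_le inf_le_left) inf_le_right
        (card_le_of_le (le_inf s2 a1.le)), x, x1, rfl, (q3.le.trans b2).trans (le_inf l b1.le)⟩
        (hA q3 (cj_top x ▸ s1.cj x) hT (b2.trans l) q4)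
  rcases d1.eq_or_lt with rfl | lt
  · exact hS.eq_of_le hT.pgroup le_top d2 ▸ .refl
  have lt' : D < T := lt_of_le_of_ne d2 fun e => lt.ne (hT.eq_of_le hS.pgroup le_top (e ▸ d1) ▸ e)
  exact hB _ (NN D) (S ⊓ NN D) (T ⊓ NN D) S T le_rfl ⟨D, hS.pgroup.to_le d1, d0, rfl⟩ (hS.pgroup.to_le inf_le_left)
    (hT.pgroup.to_le inf_le_left) inf_le_right inf_le_right (lt_inf_normalizer hS.pgroup lt)
    (lt_inf_normalizer hT.pgroup lt') hS hT inf_le_left inf_le_left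

theorem cover_cj {G : Type*} [Group G] {X A B : Subgroup G} (h : ⨆ g, cj g X = ⊤) (h1 : ∀ g, cj g X ≤ A ∨ cj g X ≤ B) :
    A = ⊤ ∨ B = ⊤ := or_iff_not_imp_right.2 fun hB => by
  let N : Subgroup G := ⨆ g ∈ {g | ¬ cj g X ≤ B}, cj g X
  have n1 : N ≤ A := iSup₂_le fun g a => (h1 g).resolve_right a
  have n2 : B ≤ normalizer (N : Set G) := by
    have k : ∀ b ∈ B, cj b N ≤ N := fun b l => cj_le_iff_le_cj_inv.2 (iSup₂_le fun g a => cj_le_iff_le_cj_inv.1 (by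
      rw [cj_cj]
      refine le_biSup (fun g => cj g X) (show ¬ _ from fun e => a ?_)
      rwa [← cj_cj, cj_le_iff_le_cj_inv, cj_eq_of_mem (inv_mem l)] at e))
    exact fun b l => mem_normalizer_iff_cj.2 (le_antisymm (k b l) (le_cj_iff_cj_inv_le.2 (k _ (inv_mem l))))
  have n3 : ⊤ ≤ normalizer (N : Set G) := h ▸ iSup_le fun g => (em (cj g X ≤ B)).elim (·.trans n2) fun a =>
    (le_biSup (fun g => cj g X) (show g ∈ {g | ¬ cj g X ≤ B} from a)).trans le_normalizer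
  obtain ⟨g, a⟩ : ∃ g, ¬ cj g X ≤ B := not_forall.1 fun e => hB (eq_top_iff.2 (h ▸ iSup_le e))
  refine eq_top_iff.2 (h ▸ iSup_le fun k => .trans ?_ n1)
  rw [← inv_mul_cancel_right k g, ← cj_cj, ← cj_eq_of_mem_normalizer (@n3 (k * g⁻¹) trivial)]
  exact cj_mono _ (le_biSup (fun g => cj g X) (show g ∈ {g | ¬ cj g X ≤ B} from a))

end Cfsg.Agent.NG
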