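/-
Groups with solvable involution centralizers: signalizers and strong embedding.
-/
import Cfsg.Agent.Lib.NG.SylCtl
import Cfsg.Agent.Lib.NG.JC6
import Cfsg.Agent.Lib.SSF.App
import Cfsg.Agent.Lib.SSF.Final

set_option autoImplicit false
set_option linter.unusedSectionVars false
set_option linter.unusedVariables false
set_option linter.style.haveILetI false
set_option linter.unusedSimpArgs false

namespace Cfsg.Agent.NG

open Subgroup Cfsg.Agent.Transfer Cfsg.Agent.MS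
open _root_.Cfsg.Agent.Comp (SSF SPE)
open scoped commutatorElement

universe u
variable {G : Type u} [Group G] [Finite G]
variable {A B C D H K L M N P Q R S T U V W X Y Z : Subgroup G} {a b g h s t w x y z : G}

abbrev th (t : G) : Subgroup G := O {2}ᶜ (C1 t)
variable (G) in
def SolC : Prop := ∀ t : G, orderOf t = 2 → Group.IsSolvable (C1 t)

theorem pg_inv (h : orderOf a = 2) : IsPGroup 2 (zpowers a) := isPGroup_zpowers_of_orderOf (k := 1) h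
theorem ord_cj (h : orderOf a = 2) (g : G) : orderOf (g * a * g⁻¹) = 2 := (Comp.orderOf_conj g a).trans h
theorem cj_th (g a : G) : cj g (th a) = th (g * a * g⁻¹) := Sg.cj_OC _ g a
theorem th_cop (a : G) : (#(th a)).Coprime 2 := pi_compl_iff_coprime.1 (O_pi _ _)
theorem cop_le_res (h : (#K).Coprime 2) : K ≤ res 2 ⊤ := fun x hx =>
  mem_res trivial (h.coprime_dvd_left (orderOf_dvd hx))
theorem SolC.bal (hC : SolC G) (ha : orderOf a = 2) (hb : orderOf b = 2) (h : a ∈ C1 b) : th a ⊓ C1 b ≤ th b := by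
  refine le_trans ?_ (O_cc_le (hC b hb) (pg_inv ha) (zpowers_le.2 h))
  rw [cc_zpowers]
  exact (le_inf inf_le_left (le_inf inf_le_right (inf_le_left.trans (O_le _ _)))).trans (O_inf_le inf_le_right)
theorem SolC.ssf (hC : SolC G) (hA : IsElementaryAbelian 2 A) : SSF 2 A th :=
  Sg.ssf_OC hA (fun _ _ _ => Sg.sol_O2 _) fun a ha a1 b hb b1 => hC.bal (orderOf_eq_two (elem_mul_self hA ha) a1)
    (orderOf_eq_two (elem_mul_self hA hb) b1) (cc_le_C1 hb (ab_cc hA.1 ha))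
theorem SolC.le_clo (hC : SolC G) (hA : IsElementaryAbelian 2 A) (h4 : 2 ^ 2 ≤ #A) (hs : orderOf s = 2)
    (h : s ∈ CC A) : th s ≤ signalizerClosure A th :=
  (Sg.le_clo (mem_sup_right (mem_zpowers s)) (ne_one_of_orderOf hs)).trans (Sg.clo_eq
    (hC.ssf (elem_sup_zpowers hA h (sq_eq_one_of_orderOf hs))) le_sup_left h4).ge
theorem exists_conj_mem (hR : IsSyl 2 R H) (ht : t ∈ H) (h2 : orderOf t = 2) : ∃ g ∈ H, g * t * g⁻¹ ∈ R :=
  let ⟨g, a, b⟩ := hR.exists_cj_le (pg_inv h2) (zpowers_le.2 ht)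
  ⟨g, a, b (conj_mem_cj (mem_zpowers t))⟩
theorem tt_rel (hR : IsSyl 2 R H) (h0 : res 2 H = H) (h : Ix2 R U) (h1 : y ∈ H) (h2 : orderOf y = 2) :
    ∃ g ∈ H, g * y * g⁻¹ ∈ U := by
  obtain ⟨c, c1, c2⟩ := exists_conj_mem hR h1 h2
  by_contra e
  refine tt (subgroupOf_self H ▸ syl_subgroupOf hR le_rfl) (U := U.subgroupOf H) ⟨comap_mono h.le,
    (relIndex_subgroupOf hR.le).trans h.idx⟩ (y := ⟨_, hR.le c2⟩) c2
    (Subtype.ext (mul_self_of_orderOf (ord_cj h2 c))) (fun g l => e ⟨g * c, mul_mem g.2 c1, ?_⟩) ?_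
  · rw [show g * c * y * (g * c)⁻¹ = g * (c * y * c⁻¹) * (g : G)⁻¹ by group]; exact l
  · rw [res_top, res_eq_self_iff.1 h0]; trivial

theorem frat_Z (hs : Group.IsSolvable Y) (hT : IsSyl 2 T Y) (hZ : Z ≤ T ⊓ CC T) (hy : y ∈ Y) :
    ∃ n ∈ O {2}ᶜ Y ⊔ T, cj (n * y) Z ≤ T := by
  obtain ⟨Q, _, _, f, q⟩ := exists_qm (O_le {2}ᶜ Y) (by nrm)
  have z1 := hZ.trans inf_le_left
  have h0 : O {2}ᶜ (⊤ : Subgroup Q) = ⊥ := by rw [← q.im_top, ← q.im_O le_rfl (O_le _ _) (O_pi _ _), q.im_N]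
  have h1 : O {2} ⊤ ≤ MS.im f T := (im_syl hT le_rfl).le_of_normal (O_pg _) (le_top.trans q.im_top.ge)
    (nn_O nn_top)
  have h3 : Z ≤ pre f (O {2} ⊤) := (le_pre_iff (z1.trans hT.le)).2 ((le_inf le_top ((im_cc (z1.trans hT.le) hT.le
    (hZ.trans inf_le_right)).trans (cc_anti h1))).trans (cc_O_le (q.sol_top hs) h0))
  have h4 : Y ≤ NN (pre f (O {2} ⊤)) := q.nn_pre le_rfl (nn_O nn_top)
  obtain ⟨n, n1, n2⟩ := (hT.inf_of_le_normalizer (pre_le _ _) h4).exists_cj_le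
    ((hT.pgroup.to_le z1).map _ : IsPGroup 2 (cj y Z)) (cj_le h3 (h4 hy))
  exact ⟨n, q.pre_im hT.le ▸ pre_mono h1 n1, cj_cj n y Z ▸ n2.trans inf_le_left⟩

theorem se_lem (hC : SolC G) (nH : ⊤ ≤ NN H) (hR : IsSyl 2 R H) (hZ : Z ≤ R ⊓ CC R)
    (h1 : ∀ g ∈ H, cj g Z ≤ R → g ∈ M)
    (h2 : ∀ s ∈ R, orderOf s = 2 → IsSyl 2 (R ⊓ C1 s) (H ⊓ C1 s) → th s ≤ M) (h3 : ¬ H ≤ M) : SPE 2 (H ⊓ M) H := by
  have z1 := hZ.trans inf_le_left
  have rm : R ≤ M := fun r hr => h1 r (hR.le hr) (cj_le' z1 hr)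
  have zs : ∀ s ∈ R, Z ≤ R ⊓ C1 s := fun s a => le_inf z1 (hZ.trans (inf_le_right.trans (cc_le_C1 a)))
  have ex : ∀ s ∈ R, orderOf s = 2 → IsSyl 2 (R ⊓ C1 s) (H ⊓ C1 s) → H ⊓ C1 s ≤ M := fun s a b c y hy => by
    obtain ⟨n, n1, n2⟩ := frat_Z (sol_mono (hC s b) inf_le_right) c (le_inf (zs s a)
      (hZ.trans (inf_le_right.trans (cc_anti inf_le_left)))) hy
    exact (mul_mem_cancel_left (sup_le ((O_le_O inf_le_right (nn_inf (le_top.trans nH) (le_nn _))).trans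
      (h2 s a b c)) (inf_le_left.trans rm) n1)).1 (h1 _ (mul_mem (sup_le (O_le _ _) c.le n1).1 hy.1)
      (n2.trans inf_le_left))
  refine Comp.spe_of_centralizers inf_le_left (fun e => h3 (e.ge.trans inf_le_right))
    (syl_in (hR.mono (le_inf hR.le rm) inf_le_left)) (fun g hg => ⟨hg.1, h1 g hg.1 (cj_le z1 hg.2)⟩)
    fun x hx ho => le_inf inf_le_left ?_
  obtain ⟨T, t1, t2⟩ := exists_isSyl_ge (hR.pgroup.to_le (inf_le_left : R ⊓ C1 x ≤ R)) (inf_le_inf_right _ hR.le)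
  obtain ⟨g, g1, g2⟩ := hR.exists_cj_le t1.pgroup (t1.le.trans inf_le_left)
  have e : cj g (H ⊓ C1 x) = H ⊓ C1 (g * x * g⁻¹) := by rw [cj_inf, cj_eq_of_mem g1, cj_centralizer_singleton]
  have t3 := e ▸ t1.cj g
  have := ex _ (g2 (conj_mem_cj (t2 ⟨hx, self_mem_C1 x⟩))) (ord_cj ho g) (t3.of_card_le
    (hR.pgroup.to_le inf_le_left) (inf_le_inf_right _ hR.le) (card_le_of_le (le_inf g2 (t3.le.trans inf_le_right))))
  rwa [← e, cj_le_iff_le_cj_inv, cj_eq_of_mem (inv_mem (h1 g g1 ((cj_mono g ((zs x hx).trans t2)).trans g2)))] at this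

theorem not_le_nn (hO : O {2}ᶜ (⊤ : Subgroup G) = ⊥) (h0 : res 2 ⊤ ≤ H) (nH : ⊤ ≤ NN H) (h1 : (#W).Coprime 2)
    (h2 : W ≠ ⊥) : ¬ H ≤ NN W := fun e => h2 (le_bot_iff.1 (hO ▸ (le_O ((cop_le_res h1).trans h0) e
      (pi_compl_iff_coprime.2 h1)).trans (O_le_O le_top nH)))

theorem core1 (hC : SolC G) (hO : O {2}ᶜ (⊤ : Subgroup G) = ⊥) (h0 : res 2 ⊤ ≤ H) (nH : ⊤ ≤ NN H)
    (hR : IsSyl 2 R H) (h4 : 2 ^ 2 ≤ #(OZ R)) (h3 : Rk 2 3 R) :
    (∀ t ∈ H, orderOf t = 2 → th t = ⊥) ∨ ∃ M, SPE 2 M H := by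
  have k1 : ∀ B ≤ R, IsElementaryAbelian 2 B → 2 ^ 2 ≤ #B → signalizerClosure B th = signalizerClosure (OZ R) th :=
    fun B a b c => by
      have := hC.ssf (elem_sup (OZ_elem R) b ((OZ_cc R).trans (cc_anti a)))
      rw [Sg.clo_eq this le_sup_right c, Sg.clo_eq this le_sup_left h4]
  have k2 : ∀ s ∈ R, orderOf s = 2 → th s ≤ signalizerClosure (OZ R) th := fun s a b =>
    hC.le_clo (OZ_elem R) h4 b (cc_symm (OZ_cc R) a)
  obtain ⟨A, hA⟩ := h3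
  have k3 := (Sg.ssft (hC.ssf hA.elem) hA.card.ge).cop
  rw [k1 A hA.le hA.elem (hA.card ▸ by norm_num)] at k3
  by_cases e : signalizerClosure (OZ R) th = ⊥
  · refine .inl fun t a b => ?_
    obtain ⟨g, g1, g2⟩ := exists_conj_mem hR a b
    rw [← cj_eq_bot_iff (g := g), cj_th, eq_bot_iff]
    exact e ▸ k2 _ g2 (ord_cj b g)
  · exact .inr ⟨_, se_lem hC nH hR (le_inf (OZ_le R) (OZ_cc R)) (fun g a b => mem_normalizer_of_cj_le
      ((Sg.cj_clo_le fun a _ _ => (cj_th g a).le).trans (k1 _ b (elem_cj (OZ_elem R) g) (h4.trans_eq (card_cj g _).symm)).le))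
      (fun s a b _ => (k2 s a b).trans (le_nn _)) (not_le_nn hO h0 nH k3 e)⟩

theorem char_two (hC : SolC G) (nX : ⊤ ≤ NN X) (h2 : Even #X) (h : ∀ t ∈ X, orderOf t = 2 → th t = ⊥) :
    IsCharacteristicTwoType X := ⟨h2, fun T a b => by
  have a1 := a.map X.subtype
  obtain ⟨t, t1, t2⟩ := exists_invol_mem_of_isPGroup a1 (by rwa [Ne, map_eq_bot_iff_of_injective _ (subtype_injective _)])
  have c : Comp.CharP 2 (C1 t) := (Comp.pSol_of_isSolvable (hC t t2)).charP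
    (O1c_eq (p := 2) (C1 t) ▸ h t (map_subtype_le T t1) t2)
  have := Comp.CharP.inf_normalizer_of_mem a1 (map_subtype_le T) t1
    (c.subnIn (.of_normalizer inf_le_right (nn_inf (le_top.trans nX) (le_nn _))))
  refine Comp.charP_iff_subtype.1 (Comp.charP_map_subtype_iff.1 ?_)
  rwa [← comap_map_eq_self_of_injective (subtype_injective X) T, ← subgroupOf, ← subgroupOf_normalizer_eq
    (map_subtype_le T), subgroupOf_map_subtype, inf_comm]⟩

theorem se_of_spe (h : SPE 2 M H) : ∃ M : Subgroup H, IsStronglyEmbedded M :=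
  ⟨_, Comp.spe_two_iff.1 (Comp.spe_top_iff.2 ((Comp.spe_iff_subgroupOf h.le).1 h))⟩
theorem spe_res (h : SPE 2 M X) (h0 : Even #(res 2 X)) : ∃ M, SPE 2 M (res 2 X) := by
  obtain ⟨P, a, b, c⟩ := h.exists_sylIn
  have a' : IsSyl 2 P X := let ⟨x, y, z⟩ := Comp.sylIn_iff.1 a; ⟨x, y, z⟩
  refine ⟨_, h.inf (res_le X) (fun e => h.not_le (a'.res_sup.ge.trans (sup_le e b))) ?_⟩
  have := a'.inf_of_le_normalizer (res_le (p := 2) X) (le_normalizer_res X)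
  exact (pg_dvd this.pgroup (mt this.eq_bot_iff.1 (not_not.2 h0.two_dvd))).trans
    (card_dvd (le_inf inf_le_right (inf_le_left.trans b)))

end Cfsg.Agent.NG
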