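/-
Groups with solvable involution centralizers and a two-closed centralizer of a central involution.
-/
import Cfsg.Agent.Lib.NG.ZC1

set_option autoImplicit false
set_option linter.unusedSectionVars false
set_option linter.unusedVariables false
set_option linter.style.haveILetI false
set_option linter.unusedSimpArgs false

namespace Cfsg.Agent.NG

open Subgroup Cfsg.Agent.Transfer Cfsg.Agent.MS
open _root_.Cfsg.Agent.Comp (SSF SPE)
open scoped commutatorElement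

universe u
variable {G : Type u} [Group G] [Finite G]
variable {A B C D H K L M N P Q R S T U V W X Y Z : Subgroup G} {a b g k s t w x y z : G}

theorem isConj_cj (g a : G) : IsConj a (g * a * g⁻¹) := isConj_iff.2 ⟨g, rfl⟩
theorem ix2_inv (hW : IsElementaryAbelian 2 W) (h4 : #W = 4) (h1 : z ∈ W) (h2 : orderOf z = 2) : Ix2 W (zpowers z) :=
  ix2_of_card (zpowers_le.2 h1) (by rw [Nat.card_zpowers, h2, h4])
theorem four_cases (h : Ix2 W (zpowers z)) (h2 : orderOf z = 2) (h1 : w ∈ W) (h3 : w ∉ zpowers z) (hx : x ∈ W) :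
    x = 1 ∨ x = z ∨ x = w ∨ x = z * w := by
  rcases h.cases h1 h3 hx with e | ⟨u, e, rfl⟩ <;> rcases (mem_zpowers_iff_of_sq (mul_self_of_orderOf h2)).1 e with
    rfl | rfl <;> simp
theorem fix_prod (hK : (#K).Coprime 2) (hx : orderOf x = 2) (hy : orderOf y = 2) (ne : x ≠ y) (h : y ∈ C1 x)
    (h1 : x ∈ NN K) (h2 : y ∈ NN K) (h3 : K ⊓ C1 x = K ⊓ C1 y) : K ≤ C1 (x * y) := by
  have k4 := klein_closure hx hy ne (mem_C1.1 h).symm
  have e : K ⊓ C1 x ≤ C1 (x * y) := fun a l => mem_C1_comm.1 (mul_mem (mem_C1_comm.1 l.2) (mem_C1_comm.1 (h3.le l).2))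
  refine Comp.le_of_forall_centralizer (klein_elem k4) k4.card_four.ge (sup_le (zpowers_le.2 h1) (zpowers_le.2 h2))
    hK fun a l a1 => ?_
  rcases four_cases (ix2_inv (klein_elem k4) k4.card_four (mem_sup_left (mem_zpowers x)) hx) hx
    (mem_sup_right (mem_zpowers y)) (fun l => ((mem_zpowers_iff_of_sq (mul_self_of_orderOf hx)).1 l).elim
    (ne_one_of_orderOf hy) ne.symm) l with rfl | rfl | rfl | rfl
  exacts [absurd rfl a1, e, h3 ▸ e, inf_le_right]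

structure ZH (S H : Subgroup G) (z : G) : Prop where
  hC : SolC G
  hO : O {2}ᶜ (⊤ : Subgroup G) = ⊥
  eq : res 2 ⊤ = H
  syl : IsSyl 2 S ⊤
  zS : z ∈ S
  zc : z ∈ CC S
  zH : z ∈ H
  z2 : orderOf z = 2
  cz : C1 z ≤ NN S

namespace ZH
variable (h : ZH S H z)
include h

theorem nH : ⊤ ≤ NN H := h.eq ▸ le_normalizer_res ⊤
theorem resH : res 2 H = H := h.eq ▸ res_res ⊤
theorem sylR : IsSyl 2 (S ⊓ H) H := h.syl.inf_of_le_normalizer le_top h.nH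
theorem zR : z ∈ S ⊓ H := ⟨h.zS, h.zH⟩
theorem zc' : z ∈ CC (S ⊓ H) := cc_anti inf_le_left h.zc
theorem zO : z ∈ OZ (S ⊓ H) := mem_OZ h.zR h.zc' (mul_self_of_orderOf h.z2)
theorem RC : S ⊓ H ≤ C1 z := le_C1_iff.2 h.zc'
theorem th_cc : th z ≤ CC S := cc_of_inf_eq_bot ((O_le _ _).trans h.cz) (nn_O (nn_C1 (le_C1_iff.2 h.zc)))
  (inf_comm S _ ▸ pg_inf h.syl.pgroup (O_pi _ _) (by simp))
theorem le_cj (hP : IsPGroup 2 P) (h1 : P ≤ C1 (g * z * g⁻¹)) : P ≤ cj g S :=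
  (h.syl.cj g).le_of_le_normalizer hP (le_top.trans (cj_top g).ge) (h1.trans (cj_centralizer_singleton g z ▸ nn_cj h.cz g))
theorem le_cj' (h0 : g ∈ H) (h1 : P ≤ S ⊓ H ⊓ C1 (g * z * g⁻¹)) : P ≤ cj g (S ⊓ H) := by
  rw [cj_inf, cj_eq_of_mem h0]
  exact le_inf (h.le_cj (h.sylR.pgroup.to_le (h1.trans inf_le_left)) (h1.trans inf_le_right))
    (h1.trans (inf_le_left.trans inf_le_right))
theorem th_eq (h1 : IsConj z x) (h2 : x ∈ C1 z) : th x = th z := by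
  obtain ⟨g, rfl⟩ := isConj_iff.1 h1
  have a := h.le_cj (pg_inv h.z2) (zpowers_le.2 (mem_C1_comm.1 h2)) (mem_zpowers z)
  refine eq_of_card_le ((le_inf le_rfl ?_).trans (h.hC.bal (ord_cj h.z2 g) h.z2 h2)) (by rw [← cj_th, card_cj])
  exact cj_th g z ▸ (cc_cj h.th_cc g).trans (cc_le_C1 a)

theorem core2 (h1 : ∀ s ∈ H, orderOf s = 2 → ∃ g ∈ H, g * s * g⁻¹ ∈ S ⊓ H ∧ th (g * s * g⁻¹) ≤ th z) :
    (∀ t ∈ H, orderOf t = 2 → th t = ⊥) ∨ ∃ M, SPE 2 M H := by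
  by_cases e : th z = ⊥
  · refine .inl fun t a b => ?_
    obtain ⟨g, -, -, g2⟩ := h1 t a b
    rw [← cj_eq_bot_iff (g := g), cj_th, eq_bot_iff]
    exact e ▸ g2
  have k : ∀ g, g * z * g⁻¹ ∈ S ⊓ H → g ∈ NN (th z) := fun g a =>
    mem_normalizer_iff_cj.2 ((cj_th g z).trans (h.th_eq (isConj_cj g z) (h.RC a)))
  refine .inr ⟨_, se_lem h.hC h.nH h.sylR (zpowers_le.2 ⟨h.zR, h.zc'⟩) (fun g _ b => k g (b (conj_mem_cj
    (mem_zpowers z)))) (fun s a b c => nn_of_le ?_) (not_le_nn h.hO h.eq.le h.nH (th_cop z) e)⟩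
  obtain ⟨g, g1, g2, g3⟩ := h1 s a.2 b
  obtain ⟨c, c1, c2⟩ := (c.cj g).exists_cj_le (pg_inv h.z2) (by
    rw [cj_inf, cj_eq_of_mem g1, cj_centralizer_singleton]
    exact zpowers_le.2 ⟨h.zH, mem_C1_comm.1 (h.RC g2)⟩)
  have c3 : g⁻¹ * c * z * (g⁻¹ * c)⁻¹ ∈ S ⊓ H := by
    have := (mem_cj.1 (c2 (conj_mem_cj (mem_zpowers z)))).1
    rwa [show g⁻¹ * (c * z * c⁻¹) * g = g⁻¹ * c * z * (g⁻¹ * c)⁻¹ by group] at this
  rw [cj_inf, cj_centralizer_singleton] at c1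
  rw [← cj_nn (k _ c3), ← cj_cj, ← cj_le_iff_le_cj_inv, cj_th]
  exact (cj_nn (nn_O (le_nn _) c1.2)).ge.trans (cj_mono c g3)

theorem core2' (h1 : ∀ s ∈ H, orderOf s = 2 → IsConj z s) : (∀ t ∈ H, orderOf t = 2 → th t = ⊥) ∨ ∃ M, SPE 2 M H :=
  h.core2 fun s a b => let ⟨g, c, d⟩ := exists_conj_mem h.sylR a b
    ⟨g, c, d, (h.th_eq ((h1 s a b).trans (isConj_cj g s)) (h.RC d)).le⟩

variable (k1 : k ∈ H) (k2 : k * z * k⁻¹ ∈ S ⊓ H) (k3 : k * z * k⁻¹ ≠ z)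
include k1 k2 k3

theorem conj_rk2 (h4 : 2 ^ 2 ≤ #(OZ (S ⊓ H))) (h3 : ¬ Rk 2 3 (S ⊓ H)) (hs : s ∈ H) (s2 : orderOf s = 2) :
    IsConj z s := by
  have e4 : #(OZ (S ⊓ H)) = 4 := le_antisymm (card_le_of_not_rk h3 (OZ_le _) (OZ_elem _)) h4
  have mem : ∀ x ∈ S ⊓ H, orderOf x = 2 → x ∈ OZ (S ⊓ H) := fun x a b =>
    (El.maxEl ⟨OZ_le _, OZ_elem _, e4⟩ h3).mem a (cc_symm (OZ_cc _) a) (sq_eq_one_of_orderOf b)
  have n : k ∈ NN (S ⊓ H) := mem_normalizer_iff_cj.2 (eq_of_card_le (h.le_cj' k1 (le_inf le_rfl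
    (le_C1_iff.2 (OZ_cc _ (mem _ k2 (ord_cj h.z2 k)))))) (card_cj _ _).le).symm
  obtain ⟨d, d1, d2, d3⟩ : ∃ d ∈ H ⊓ NN (S ⊓ H), Odd (orderOf d) ∧ d ∉ CC (OZ (S ⊓ H)) := by
    by_contra! e
    refine k3 (conj_eq_of_cc ((h.sylR.mono (le_inf inf_le_right (le_nn _)) inf_le_left).res_sup.ge.trans (sup_le
      (res_le_iff.2 fun g a b => e g a (odd_iff_coprime_two.2 b)) (cc_symm (OZ_cc _))) ⟨k1, n⟩) h.zO)
  obtain ⟨g, -, g2⟩ := exists_conj_mem h.sylR hs s2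
  obtain ⟨c, -, e⟩ := klein_conj_of_odd (klein_of_elem (OZ_elem _) e4) (nn_OZ le_rfl d1.2) d2 d3 h.zO
    (ne_one_of_orderOf h.z2) (mem _ g2 (ord_cj s2 g)) (ne_one_of_orderOf (ord_cj s2 g))
  exact (isConj_iff.2 ⟨c, e⟩).trans (isConj_cj g s).symm

theorem conj_cyc (h1 : ∀ W ≤ S ⊓ H, S ⊓ H ≤ NN W → IsElementaryAbelian 2 W → #W ≠ 4) (hs : s ∈ H)
    (s2 : orderOf s = 2) : IsConj z s := by
  have pg := h.sylR.pgroup
  obtain ⟨a, b, m, a1, a2, a3, a4, -⟩ := Solv.two_group_normal_form pg (fun A a b c => by_contra fun e => by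
    obtain ⟨W, w1, w2, w3⟩ := Solv.exists_normal_card pg.isNilpotent (elem_isPGroup (omega_elem (p := 2) c))
      ((omega_le _ _).trans a) (nn_omega b) 2 (by
        obtain ⟨E, l⟩ := (not_not.1 (mt (ab_cyc c) e)).pg (pg.to_le a)
        exact l.card ▸ card_le_of_le (le_omega l.le l.elem))
    exact h1 W (w1.trans ((omega_le _ _).trans a)) w3 (elem_mono (omega_elem c) w1) w2) fun e => by
      have k4 := klein_closure h.z2 (ord_cj h.z2 k) k3.symm (mem_C1.1 (h.RC k2)).symm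
      exact not_rk2_of_cyc e ⟨_, sup_le (zpowers_le.2 h.zR) (zpowers_le.2 k2), klein_elem k4, k4.card_four⟩
  have i : Ix2 (S ⊓ H) (zpowers a) := ix2_of_card (a3 ▸ le_sup_left) (by rw [a4, Nat.card_zpowers, a1, pow_succ'])
  have k : ∀ s ∈ H, orderOf s = 2 → IsConj s (a ^ 2 ^ m) := fun s c d => by
    obtain ⟨g, -, g2⟩ := tt_rel h.sylR h.resH i c d
    exact (Solv.eq_one_or_eq_of_sq a1 g2 (sq_eq_one_of_orderOf (ord_cj d g))).resolve_left
      (ne_one_of_orderOf (ord_cj d g)) ▸ isConj_cj g s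
  exact (k z h.zH h.z2).trans (k s hs s2).symm

theorem core3 (o2 : #(OZ (S ⊓ H)) = 2) (w1 : W ≤ S ⊓ H) (w2 : S ⊓ H ≤ NN W) (w3 : IsElementaryAbelian 2 W)
    (w4 : #W = 4) : (∀ t ∈ H, orderOf t = 2 → th t = ⊥) ∨ ∃ M, SPE 2 M H := by
  have pg := h.sylR.pgroup
  have rc := h.RC
  have zR := h.zR
  have zz := mul_self_of_orderOf h.z2
  have z1 := ne_one_of_orderOf h.z2
  have oz : ∀ t ∈ S ⊓ H, t ∈ CC (S ⊓ H) → t * t = 1 → t ≠ 1 → t = z := fun t a b c d =>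
    eq_of_two o2 (mem_OZ a b c) h.zO d z1
  have le' := h.le_cj' k1 (le_refl (S ⊓ H ⊓ C1 (k * z * k⁻¹)))
  have sR := h.sylR
  have c2 := h.core2
  generalize S ⊓ H = R at *
  have cen : ∀ N ≤ R, R ≤ NN N → N ≠ ⊥ → z ∈ N := fun N a b c => by
    obtain ⟨t, t1, t2⟩ := exists_invol_mem_of_isPGroup ((pg.to_le a).to_le inf_le_left)
      (inf_centralizer_ne_bot pg a b c)
    exact oz t (a t1.1) t1.2 (mul_self_of_orderOf t2) (ne_one_of_orderOf t2) ▸ t1.1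
  have zW := cen W w1 w2 (ne_bot_of_dvd Nat.prime_two (by rw [w4]; norm_num))
  have iW := ix2_inv w3 w4 zW h.z2
  obtain ⟨w, v1, v2⟩ := iW.exists_out
  have ww := elem_mul_self w3 v1
  have v3 : w ≠ 1 := fun e => v2 (e ▸ one_mem _)
  have wR := w1 v1
  have wc : ∀ a ∈ R, a * w * a⁻¹ = w ∨ a * w * a⁻¹ = z * w := fun a l => by
    have n : a * w * a⁻¹ ∉ zpowers z := fun e => v2 ((mem_normalizer_iff.1 (cc_le_nn _ (cc_zpowers z ▸ rc l)) w).2 e)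
    rcases four_cases iW h.z2 v1 v2 (conj_mem_of_mem_normalizer (w2 l) v1) with e | e | e
    exacts [absurd (e ▸ one_mem _) n, absurd (e ▸ mem_zpowers z) n, e]
  have i0 : Ix2 R (R ⊓ C1 w) := by
    refine ix2_of_le inf_le_left (fun e => v2 (oz w wR (le_C1_iff.1 (e.trans inf_le_right)) ww v3 ▸ mem_zpowers z)) ?_
    have := index_C1_le (P := R) (X := zpowers z) (x := w) fun a l => by
      rcases wc a l with e | e <;> rw [e] <;> simp
    rw [Nat.card_zpowers, h.z2] at this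
    rw [← card_inf_mul_relIndex (C1 w) R, inf_comm, mul_comm]
    exact Nat.mul_le_mul_right _ this
  have cW : R ⊓ C1 w ≤ CC W := fun s l => le_C1_iff.1 (iW.le_of v1 v2 (zpowers_le.2 (mem_C1_comm.1 (rc l.1)))
    (mem_C1_comm.1 l.2))
  have out : ∀ a ∈ R, a ∉ R ⊓ C1 w → w * a * w⁻¹ = z * a := fun a l n => by
    have e := (wc a l).resolve_left fun e => n ⟨l, mem_C1_of_conj e⟩
    calc _ = w * (a * w * a⁻¹) * a := by rw [inv_eq_of_mul_eq_one_right ww]; group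
      _ = _ := by rw [e, ← mul_assoc, mem_C1.1 (rc wR), mul_assoc z, ww, mul_one]
  suffices e : signalizerClosure W th ≤ C1 z from c2 fun s a b => by
    obtain ⟨g, g1, g2⟩ := tt_rel sR h.resH i0 a b
    exact ⟨g, g1, g2.1, (le_inf le_rfl ((h.hC.le_clo w3 w4.ge (ord_cj b g) (cW g2)).trans e)).trans
      (h.hC.bal (ord_cj b g) h.z2 (rc g2.1))⟩
  by_cases nw : IsConj z w
  · obtain ⟨a, a1, a2⟩ := i0.exists_out
    refine iSup_le fun ⟨v, l, l1⟩ => (h.th_eq ?_ (rc (w1 l))).le.trans (O_le _ _)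
    rcases four_cases iW h.z2 v1 v2 l with rfl | rfl | rfl | rfl
    exacts [absurd rfl l1, .refl _, nw, nw.trans (isConj_iff.2 ⟨a, (wc a a1).resolve_left
      fun e => a2 ⟨a1, mem_C1_of_conj e⟩⟩)]
  by_cases wk : ∃ x ∈ R ⊓ C1 w, IsConj z x ∧ x ≠ z
  · obtain ⟨x, x1, x2, x3⟩ := wk
    have x4 : orderOf x = 2 := let ⟨g, e⟩ := isConj_iff.1 x2; e ▸ ord_cj h.z2 g
    have e1 := h.th_eq x2 (rc x1.1)
    refine le_C1_iff.2 (cen (R ⊓ CC _) inf_le_left (nn_inf (le_nn R) (nn_cc (w2.trans (Sg.nn_clo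
      fun a _ _ g => (cj_th g a).le)))) (ne_bot_of_mem (x := z * x) ⟨mul_mem zR x1.1, le_C1_iff.1
      (iSup_le fun ⟨v, l, l1⟩ => ?_)⟩ fun e => x3 (by rw [← zz] at e; exact mul_left_cancel e))).2
    have v4 := orderOf_eq_two (elem_mul_self w3 l) l1
    have a1 : v ∈ C1 z := rc (w1 l)
    have a2 : v ∈ C1 x := mem_C1_comm.1 (cc_le_C1 l (cW x1))
    exact fix_prod (th_cop v) h.z2 x4 x3.symm (rc x1.1) (nn_O (le_nn _) (mem_C1_comm.1 a1))
      (nn_O (le_nn _) (mem_C1_comm.1 a2)) (le_antisymm (le_inf inf_le_left ((h.hC.bal v4 h.z2 a1).trans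
      (e1.ge.trans (O_le _ _)))) (le_inf inf_le_left ((h.hC.bal v4 x4 a2).trans (e1.le.trans (O_le _ _)))))
  exfalso
  push Not at wk
  have i1 := i0.cj k
  have wk' : ∀ x ∈ cj k (R ⊓ C1 w), IsConj z x → x = k * z * k⁻¹ := by
    rintro _ ⟨x, a, rfl⟩ b
    exact congrArg (fun x => k * x * k⁻¹) (wk x a (b.trans (isConj_cj k x).symm))
  have c0 := isConj_cj k z
  have y2 := ord_cj h.z2 k
  generalize k * z * k⁻¹ = y at *
  have yy := mul_self_of_orderOf y2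
  have y0 : y ∉ R ⊓ C1 w := fun e => k3 (wk y e c0)
  have zP : z ∈ R ⊓ C1 y := ⟨zR, mem_C1_comm.1 (rc k2)⟩
  have yP : y ∈ R ⊓ C1 y := ⟨k2, self_mem_C1 y⟩
  have z0 : z ∉ cj k (R ⊓ C1 w) := fun e => k3 (wk' z e (.refl z)).symm
  have wP : w ∉ R ⊓ C1 y := fun e => y0 ⟨k2, mem_C1_comm.1 e.2⟩
  have i2 := ix2_sup (mem_normalizer_of_conj_mem fun a l => by
    by_cases e : a ∈ R ⊓ C1 w
    · rwa [conj_eq_of_C1 (mem_C1_comm.1 e.2)]
    · rw [out a l.1 e]; exact mul_mem zP l) (ww ▸ one_mem _) wP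
  have le1 : R ⊓ C1 y ⊔ zpowers w ≤ R := sup_le inf_le_left (zpowers_le.2 wR)
  have wm : w ∈ R ⊓ C1 y ⊔ zpowers w := mem_sup_right (mem_zpowers w)
  rcases le1.eq_or_lt with e | lt
  · rw [e] at i2
    have sq : ∀ a ∈ R ⊓ C1 y, a * a = 1 := fun a l => by_contra fun n => z0 ((closure_le _).2 (by
      rintro _ ⟨a, l, rfl⟩; exact i1.sq_mem (le' l)) (cen (closure {x | ∃ a ∈ R ⊓ C1 y, a * a = x})
      ((closure_le _).2 (by rintro _ ⟨a, l, rfl⟩; exact mul_mem l.1 l.1)) (fun r hr => mem_normalizer_of_cj_le (by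
        rw [cj, MonoidHom.map_closure]
        refine closure_mono ?_
        rintro _ ⟨_, ⟨a, l, rfl⟩, rfl⟩
        exact ⟨_, conj_mem_of_mem_normalizer (i2.nn hr) l, conj_mul⟩))
      (ne_bot_of_mem (subset_closure ⟨a, l, rfl⟩) n)))
    have m : ∀ a ∈ R ⊓ C1 y, a ∈ R ⊓ C1 w → a ≠ 1 → a = z := fun a l n o => oz a l.1 (le_C1_iff.1 (i2.le_of wR wP
      (le_C1_iff.2 (ab_cc (elem_of_sq sq).1 l)) (mem_C1_comm.1 n.2))) (sq a l) o
    obtain ⟨g, -, g2⟩ := tt_rel sR h.resH i2 (sR.le wR) (orderOf_eq_two ww v3)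
    refine nw (IsConj.trans ?_ (isConj_cj g w).symm)
    have g1 : g * w * g⁻¹ ≠ 1 := Sg.conj_ne_one v3 g
    generalize g * w * g⁻¹ = a at *
    by_cases l : a ∈ R ⊓ C1 w
    · rw [m a g2 l g1]
    by_cases l' : a * y = 1
    · rw [eq_inv_of_mul_eq_one_left l', inv_eq_of_mul_eq_one_right yy]; exact c0
    · rw [eq_mul_inv_of_mul_eq (m _ (mul_mem g2 yP) (i0.mul_mem g2.1 l k2 y0) l'), inv_eq_of_mul_eq_one_right yy,
        ← out y k2 y0]
      exact c0.trans (isConj_cj w y)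
  · obtain ⟨n, n1, n2, n3⟩ := exists_mem_normalizer_notMem pg lt
    have x1 := conj_mem_of_mem_normalizer n2 (mem_sup_left yP)
    have x2 := c0.trans (isConj_cj n y)
    have x3 : n * y * n⁻¹ ≠ y := fun e => n3 (mem_sup_left ⟨n1, mem_C1_of_conj e⟩)
    have x4 : n * y * n⁻¹ ≠ z * y := fun e => n3 ((mul_mem_cancel_left (inv_mem wm)).1 (mem_sup_left
      ⟨mul_mem (R.inv_mem wR) n1, mem_C1_of_conj (by
        rw [show w⁻¹ * n * y * (w⁻¹ * n)⁻¹ = w⁻¹ * (n * y * n⁻¹) * w by group, e, ← out y k2 y0]; group)⟩))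
    have x5 : n * y * n⁻¹ ≠ z := fun e => k3 (by
      rw [← conj_eq_of_C1 (rc n1)] at e
      simpa using e)
    have x6 := conj_mul_self yy n
    generalize n * y * n⁻¹ = x at *
    have x7 := out x (le1 x1) fun e => x5 (wk x e x2)
    by_cases e : x ∈ R ⊓ C1 y
    · refine x4 ?_
      rw [← wk' _ (i1.mul_mem (le' zP) z0 (le' e) fun l => x3 (wk' x l x2)) (x7 ▸ x2.trans (isConj_cj w x)),
        ← mul_assoc, zz, one_mul]
    · refine z0 ?_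
      have := i1.sq_mem (le' (i2.mul_mem wm wP x1 e))
      rwa [show w * x * (w * x) = w * x * w⁻¹ * (w * w) * x by group, x7, ww, mul_one, mul_assoc, x6, mul_one] at this

theorem main : (∀ t ∈ H, orderOf t = 2 → th t = ⊥) ∨ ∃ M, SPE 2 M H := by
  rcases card_two_or (elem_isPGroup (OZ_elem (S ⊓ H))) (ne_bot_of_mem h.zO (ne_one_of_orderOf h.z2)) with e | e
  · by_cases l : ∃ W ≤ S ⊓ H, S ⊓ H ≤ NN W ∧ IsElementaryAbelian 2 W ∧ #W = 4
    · obtain ⟨W, a, b, c, d⟩ := l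
      exact h.core3 k1 k2 k3 e a b c d
    · exact h.core2' fun s a b => h.conj_cyc k1 k2 k3 (fun W a b c d => l ⟨W, a, b, c, d⟩) a b
  · by_cases l : Rk 2 3 (S ⊓ H)
    · exact core1 h.hC h.hO h.eq.le h.nH h.sylR e l
    · exact h.core2' fun s a b => h.conj_rk2 k1 k2 k3 e l a b
end ZH

end Cfsg.Agent.NG
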