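/-
The reduction theorem for ZN-groups.
-/
import Cfsg.Agent.Lib.NG.ZC2
import Cfsg.Agent.Lib.Solv.MaxCl
import Cfsg.Agent.Lib.NG.Am5

set_option autoImplicit false
set_option linter.unusedSectionVars false
set_option linter.unusedVariables false
set_option linter.style.haveILetI false
set_option linter.unusedSimpArgs false

namespace Cfsg.Agent.NG

open Subgroup Cfsg.Agent.Transfer Cfsg.Agent.MS
open _root_.Cfsg.Agent.Comp (SSF SPE)
open scoped commutatorElement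

universe u
variable {G : Type u} [Group G] [Finite G]
variable {A B C D H K L M N P Q R S T U V W X Y Z : Subgroup G} {a b g k s t w x y z : G}

theorem even_res (h2 : Even #G) (hO' : O {2}ᶜ (⊤ : Subgroup G) = ⊥) (hO : Q2 (⊤ : Subgroup G) = ⊥) :
    Even #(res 2 (⊤ : Subgroup G)) := by
  by_contra e
  have h1 : res 2 (⊤ : Subgroup G) = ⊥ := le_bot_iff.1 (hO' ▸ le_O le_top (le_normalizer_res ⊤)
    (pi_compl_iff.2 fun l => e (even_iff_two_dvd.2 l)))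
  have h3 := le_Q2 le_rfl (le_nn _) (isPGroup_iff_res_eq_bot.2 h1)
  rw [hO, le_bot_iff, ← card_eq_one, card_top] at h3
  exact absurd (h3 ▸ h2) (by decide)
theorem nn_HZ (hS : IsSyl 2 S ⊤) : ⊤ ≤ NN (res 2 ⊤ ⊔ OZ S) := hS.res_sup.ge.trans (sup_le (nn_of_le le_sup_left)
  (nn_sup (le_top.trans (le_normalizer_res ⊤)) (nn_OZ (le_nn S))))

theorem zc_red (hC : SolC G) (h2 : Even #G) (hO' : O {2}ᶜ (⊤ : Subgroup G) = ⊥) (hO : Q2 (⊤ : Subgroup G) = ⊥)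
    (eq : res 2 ⊤ = H) (hS : IsSyl 2 S ⊤) (hZ : CC (OZ S) ≤ NN S) :
    (∃ M, SPE 2 M H) ∨ (#(OZ S ⊓ H : Subgroup G) = 2 ∧ ∀ h ∈ H, ∀ z ∈ OZ S ⊓ H, h * z * h⁻¹ ∈ S → h * z * h⁻¹ ∈ OZ S) ∨
      (#(OZ S) = 4 ∧ omegaOne 2 (S ⊓ H) = OZ S) ∨ IsCharacteristicTwoType (H ⊔ OZ S : Subgroup G) := by
  have ev : Even #H := eq ▸ even_res h2 hO' hO
  have nH : ⊤ ≤ NN H := eq ▸ le_normalizer_res ⊤
  have nX : ⊤ ≤ NN (H ⊔ OZ S) := eq ▸ nn_HZ hS
  have eX : Even #(H ⊔ OZ S : Subgroup G) := even_iff_two_dvd.2 (ev.two_dvd.trans (card_dvd le_sup_left))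
  obtain ⟨z, z1, z2⟩ := exists_invol_mem_of_isPGroup ((hS.pgroup.to_le inf_le_left).to_le inf_le_left)
    (inf_centralizer_ne_bot hS.pgroup inf_le_left (nn_inf (le_nn S) (le_top.trans nH))
    (mt (hS.inf_of_le_normalizer le_top nH).eq_bot_iff.1 (not_not.2 ev.two_dvd)))
  have z3 := ne_one_of_orderOf z2
  have zO := mem_OZ z1.1.1 z1.2 (mul_self_of_orderOf z2)
  rcases card_two_or (elem_isPGroup (OZ_elem S)) (ne_bot_of_mem zO z3) with e | e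
  · have p : (#(OZ S)).Prime := by rw [e]; exact Nat.prime_two
    have l : OZ S ≤ H := prime_eq_zpowers p zO z3 ▸ zpowers_le.2 z1.1.2
    by_cases wk : ∀ h ∈ H, ∀ z ∈ OZ S ⊓ H, h * z * h⁻¹ ∈ S → h * z * h⁻¹ ∈ OZ S
    · exact .inr (.inl ⟨by rw [inf_eq_left.2 l, e], wk⟩)
    push Not at wk
    obtain ⟨k, k1, x, x1, k2, k3⟩ := wk
    obtain rfl := eq_of_two e x1.1 zO (fun l => k3 (by simp [l])) z3
    rcases ZH.main ⟨hC, hO', eq, hS, z1.1.1, z1.2, z1.1.2, z2, prime_cc p zO z3 ▸ hZ⟩ k1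
      ⟨k2, mul_mem (mul_mem k1 x1.2) (H.inv_mem k1)⟩ (fun l => k3 (l.symm ▸ zO)) with c | c
    · exact .inr (.inr (.inr (char_two hC nX eX (by rwa [sup_eq_left.2 l]))))
    · exact .inl c
  by_cases l : Rk 2 3 S
  · rcases core1 hC hO' le_top nn_top hS e l with c | ⟨M, c⟩
    · exact .inr (.inr (.inr (char_two hC nX eX fun t _ => c t trivial)))
    · exact .inl (eq ▸ spe_res c (eq ▸ ev))
  have e4 : #(OZ S) = 4 := le_antisymm (card_le_of_not_rk l (OZ_le _) (OZ_elem _)) e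
  have mem : ∀ x ∈ S, x ^ 2 = 1 → x ∈ OZ S := fun x a b =>
    (El.maxEl ⟨OZ_le _, OZ_elem _, e4⟩ l).mem a (cc_symm (OZ_cc _) a) b
  rcases (inf_le_left : OZ S ⊓ H ≤ OZ S).eq_or_lt with c | c
  · exact .inr (.inr (.inl ⟨e4, le_antisymm (omega_le_iff.2 fun x a => mem x a.1)
      (le_omega (le_inf (OZ_le S) (inf_eq_left.1 c)) (OZ_elem S))⟩))
  · exact .inr (.inl ⟨card_two_of_lt e4 (ne_bot_of_mem ⟨zO, z1.1.2⟩ z3) c, fun h _ x a b => mem _ b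
      (by rw [sq]; exact conj_mul_self (elem_mul_self (OZ_elem S) a.1) h)⟩)

theorem dih_of_four (hR : IsPGroup 2 R) (h1 : V ≤ R) (h2 : IsElementaryAbelian 2 V) (h4 : #V = 4)
    (h3 : R ⊓ CC V ≤ V) : (∃ n : ℕ, 2 ≤ n ∧ Nonempty (R ≃* DihedralGroup n)) ∨ IsQuasiDihedral R := by
  rcases h1.eq_or_lt with rfl | lt
  · haveI := klein_of_elem h2 h4
    exact .inl ⟨2, le_rfl, IsKleinFour.nonempty_mulEquiv⟩
  obtain ⟨n, hn⟩ := hR.exists_card_eq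
  have n3 : 3 ≤ n := by
    have := card_lt_of_lt lt
    rw [h4, hn] at this
    exact (Nat.pow_lt_pow_iff_right (a := 2) (n := 2) one_lt_two).1 this
  obtain ⟨a, b, h⟩ := Solv.nf2_of_maxClass hn (Solv.maxClass_of_centralizer R n hn (V.subgroupOf R)
    ((Nat.card_congr (subgroupOfEquivOfLe h1).toEquiv).trans h4) fun x hx => h3 ⟨x.2, fun v hv =>
      congrArg Subtype.val (hx ⟨v, h1 hv⟩ hv)⟩) n3
  rcases h.iso with e | ⟨⟨e⟩⟩ | e
  · exact .inl ⟨_, Nat.le_self_pow (by omega) 2, e⟩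
  · obtain ⟨x, y, a, b, -, c, -, d⟩ := exists_klein_elems (klein_of_elem h2 h4)
    exact absurd ((Comp.rankOne_of_quaternion hR e).2 x (h1 ((d x).2 (by simp))) a y (h1 ((d y).2 (by simp)))
      (sq_eq_one_of_orderOf b)) fun l => ((mem_zpowers_iff_of_sq (mul_self_of_orderOf a)).1 l).elim
      (ne_one_of_orderOf b) c.symm
  · exact .inr ⟨n - 2 + 1, by omega, h.card, a, b, h.ord, e.2⟩

theorem zn_sub (hN : ∀ L : Subgroup G, IsTwoLocal L → Group.IsSolvable L) (hS : IsSyl 2 S ⊤)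
    (hZ : ∀ S : Subgroup G, IsSyl 2 S ⊤ → CC (OZ S) ≤ NN S) (nX : ⊤ ≤ NN X) (h1 : OZ S ≤ X)
    (h : IsCharacteristicTwoType X) : ZN X := by
  have inj := subtype_injective X
  have e0 : (⊤ : Subgroup X).map X.subtype = X := by rw [← MonoidHom.range_eq_map, range_subtype]
  refine zn_of h ?_ fun T x hx => ?_
  · rintro _ ⟨T, a, b, rfl⟩
    have := sol_mono (hN _ ⟨_, a.map X.subtype, by rwa [Ne, map_eq_bot_iff_of_injective _ inj], rfl⟩)
      (map_nn X.subtype (le_refl (NN T)))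
    exact Group.isSolvable_of_surjective (f := (equivMapOfInjective _ _ inj).symm.toMonoidHom) (MulEquiv.surjective _)
  have t1 := e0 ▸ (isSyl_top T).map X.subtype
  obtain ⟨U, u1, u2⟩ := exists_isSyl_ge t1.pgroup le_top
  have u3 : U ⊓ X = map X.subtype T := t1.eq_of_le (u1.pgroup.to_le inf_le_left) inf_le_right (le_inf u2 t1.le)
  obtain ⟨g, -, rfl⟩ := u1.exists_cj_eq hS
  have u4 : OZ (cj g S) ≤ OZ (map X.subtype T) := OZ_le_OZ u2 (u3 ▸ le_inf (OZ_le _) (cj_OZ g S ▸ cj_le h1 (nX trivial)))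
  have u5 : (x : G) ∈ NN (map X.subtype T) := u3 ▸ mem_normalizer_inf (hZ _ u1 (cc_anti u4 (NG.map_OZ inj _ ▸
    (map_le_cc inj).2 (zpowers_le.2 hx) ⟨x, mem_zpowers x, rfl⟩))) (nX trivial)
  rw [← comap_map_eq_self_of_injective inj T, ← subgroupOf, ← subgroupOf_normalizer_eq t1.le]
  exact u5

theorem zn_red (hN : ∀ L : Subgroup G, IsTwoLocal L → Group.IsSolvable L) (h2 : Even #G)
    (hO' : O {2}ᶜ (⊤ : Subgroup G) = ⊥) (hO : Q2 (⊤ : Subgroup G) = ⊥) (eq : res 2 ⊤ = H) (hS : IsSyl 2 S ⊤)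
    (hZ : ∀ S : Subgroup G, IsSyl 2 S ⊤ → CC (OZ S) ≤ NN S) :
    (∃ M, SPE 2 M H) ∨ ((∃ n : ℕ, 2 ≤ n ∧ Nonempty ((S ⊓ H : Subgroup G) ≃* DihedralGroup n)) ∨
      IsQuasiDihedral (S ⊓ H : Subgroup G)) ∨
      (#(OZ S ⊓ H : Subgroup G) = 2 ∧ ∀ h ∈ H, ∀ z ∈ OZ S ⊓ H, h * z * h⁻¹ ∈ S → h * z * h⁻¹ ∈ OZ S) ∨
      (#(OZ S) = 4 ∧ omegaOne 2 (S ⊓ H) = OZ S) := by
  have hC : SolC G := fun t a => sol_mono (hN _ ⟨_, pg_inv a, ne_bot_of_mem (mem_zpowers t) (ne_one_of_orderOf a), rfl⟩)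
    (cc_zpowers t ▸ cc_le_nn _)
  rcases zc_red hC h2 hO' hO eq hS (hZ S hS) with c | c | c | c
  · exact .inl c
  · exact .inr (.inr (.inl c))
  · exact .inr (.inr (.inr c))
  have nX : ⊤ ≤ NN (H ⊔ OZ S) := eq ▸ nn_HZ hS
  have zn := zn_sub hN hS hZ nX le_sup_right c
  have eX : res 2 (H ⊔ OZ S) = H := (res_eq_of_le_of_le (eq.le.trans le_sup_left) le_top).trans eq
  generalize H ⊔ OZ S = X at *
  have inj := subtype_injective X
  have e0 : (⊤ : Subgroup X).map X.subtype = X := by rw [← MonoidHom.range_eq_map, range_subtype]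
  have e1 : (res 2 ⊤).map X.subtype = H := by rw [map_res, e0, eX]
  rcases zn_thm zn c.1 ((map_eq_bot_iff_of_injective _ inj).1 (le_bot_iff.1 ((map_O_le _ _ _).trans
    (by rw [e0, ← hO]; exact O_le_O le_top nX)))) with ⟨K, k⟩ | ⟨T, K, L, K', L', h⟩
  · exact .inl (eX ▸ spe_res (e0 ▸ (Comp.spe_two_iff.2 k).map_of_injective inj) (eX.symm ▸ eq ▸ even_res h2 hO' hO))
  have q := (h.sub_am h.Z_res).2.1
  have w1 : (WK K).map X.subtype ≤ H := e1 ▸ map_mono (q.ge.trans ((O_le _ _).trans inf_le_right))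
  have w2 := elem_map (W_elem K) X.subtype
  have sR := hS.inf_of_le_normalizer le_top (eq ▸ le_normalizer_res ⊤ : ⊤ ≤ NN H)
  obtain ⟨g, g1, g2⟩ := sR.exists_cj_le (elem_isPGroup w2) w1
  refine .inr (.inl (dih_of_four sR.pgroup g2 (elem_cj w2 g) (by rw [card_cj, Comp.card_map_subtype, h.u.jc.card]) ?_))
  refine (inf_le_inf_right _ inf_le_right).trans ?_
  rw [← cj_centralizer, ← cj_eq_of_mem g1, ← cj_inf, cj_le_cj_iff, ← e1]
  rintro _ ⟨⟨x, x1, rfl⟩, x2⟩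
  have x3 : x ∈ Q2 L := h.ccW.le ((map_le_cc inj).1 (by rw [MonoidHom.map_zpowers]; exact zpowers_le.2 x2)
    (mem_zpowers x))
  exact ⟨x, q.le (O_inf_le inf_le_left ⟨x3, O_le _ _ x3, x1⟩), rfl⟩

end Cfsg.Agent.NG
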